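import Mathlib
import Cfsg.Agent.HexEss.Tools
import Cfsg.Agent.HexEss.Abel
import Cfsg.Agent.TypeL3.CharTwo

/-!
# The global part: common definitions

`G` finite (simple), `S` a Sylow 2-subgroup with hexagonal coordinates `co`.  `L1`, `L2`: the subgroups
generated by the `N_G(Da)`-, `N_G(Db)`-conjugates of `S`.  `Out1`, `Out2`: what is needed about
`N_G(Da)`, `N_G(Db)`.
-/

set_option autoImplicit false

namespace Cfsg.Agent.HexGlob

open Cfsg.Agent.HexRec Cfsg.Agent.HexEss Subgroup Cfsg.Agent.Lib.GoldschmidtFusion Cfsg.Agent.Lib.EssDefs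

universe u v

/-- hypotheses on the cubic data: `q ≥ 4`, `K = F` or `K / F` of degree three -/
structure Dat {F K : Type v} [Field F] [Field K] [Algebra F K] (C : Cubic F K) : Prop where
  reg : Reg C
  q4 : 4 ≤ Nat.card F
  deg : Function.Surjective (algebraMap F K) ∨ Module.finrank F K = 3

variable {F K : Type v} [Field F] [Field K] [Algebra F K] {C : Cubic F K}

/-- the classification of essential subgroups -/
def HEss (C : Cubic F K) : Prop := ∀ (X : Type u) [Group X] [Finite X] (S : Sylow 2 X)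
  (co : Coord C (S : Subgroup X)) (D : Subgroup X), Ess 2 (S : Subgroup X) D → D = Da co ∨ D = Db co

variable {G : Type u} [Group G]

/-- the subgroup generated by the `N`-conjugates of `S` -/
def conjClosure (N S : Subgroup G) : Subgroup G := closure {x | ∃ n ∈ N, ∃ s ∈ S, x = n * s * n⁻¹}

theorem le_conjClosure (N S : Subgroup G) : S ≤ conjClosure N S :=
  fun s hs => subset_closure ⟨1, one_mem _, s, hs, by simp⟩

theorem conj_mem_conjClosure {N S : Subgroup G} {n s : G} (hn : n ∈ N) (hs : s ∈ S) :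
    n * s * n⁻¹ ∈ conjClosure N S := subset_closure ⟨n, hn, s, hs, rfl⟩

/-- `N` normalises the subgroup generated by the `N`-conjugates of `S` -/
theorem le_normalizer_conjClosure (N S : Subgroup G) :
    N ≤ normalizer ((conjClosure N S : Subgroup G) : Set G) := by
  apply le_normalizer_closure
  rintro m hm _ ⟨n, hn, s, hs, rfl⟩
  exact ⟨m * n, mul_mem hm hn, s, hs, by group⟩

theorem conjClosure_le {N S M : Subgroup G} (hS : S ≤ M) (hM : N ≤ normalizer (M : Set G)) :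
    conjClosure N S ≤ M := by
  rw [conjClosure, closure_le]
  rintro _ ⟨n, hn, s, hs, rfl⟩
  exact conj_mem_of_le hM hn (hS hs)

theorem conjClosure_le_self {N S : Subgroup G} (hS : S ≤ N) : conjClosure N S ≤ N :=
  conjClosure_le hS le_normalizer

section

variable [Finite G]

/-- `L₁ = ⟨S^{N_G(Da)}⟩` -/
noncomputable def L1 (S : Sylow 2 G) (co : Coord C (S : Subgroup G)) : Subgroup G :=
  conjClosure (normalizer ((Da co : Subgroup G) : Set G)) (S : Subgroup G)

/-- `L₂ = ⟨S^{N_G(Db)}⟩` -/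
noncomputable def L2 (S : Sylow 2 G) (co : Coord C (S : Subgroup G)) : Subgroup G :=
  conjClosure (normalizer ((Db co : Subgroup G) : Set G)) (S : Subgroup G)

variable (S : Sylow 2 G) (co : Coord C (S : Subgroup G))

/-- the result of the analysis of `N_G(Db)` (piece G2) -/
structure Out2 : Prop where
  /-- conjugates of `Z` under `N_G(Db)` intersect trivially -/
  ti : ∀ n ∈ normalizer ((Db co : Subgroup G) : Set G), ∀ z ∈ Z co, z ≠ 1 → n * z * n⁻¹ ∈ Z co →
    n ∈ normalizer ((Z co : Subgroup G) : Set G)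
  ex : ∃ n ∈ normalizer ((Db co : Subgroup G) : Set G), n ∉ normalizer ((Z co : Subgroup G) : Set G)
  /-- `V = Z × Z^n` -/
  cover : ∀ n ∈ normalizer ((Db co : Subgroup G) : Set G), n ∉ normalizer ((Z co : Subgroup G) : Set G) →
    ∀ v ∈ E2 co, ∃ z ∈ Z co, ∃ y ∈ Z co, v = z * (n * y * n⁻¹)
  /-- `L₂` is transitive on the nontrivial elements of `V` -/
  trans : ∀ a ∈ E2 co, a ≠ 1 → ∀ b ∈ E2 co, b ≠ 1 → ∃ l ∈ L2 S co, l * a * l⁻¹ = b
  /-- `W` is invariant under `N_G(Db)` -/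
  inv : normalizer ((Db co : Subgroup G) : Set G) ≤ normalizer ((F0 co : Subgroup G) : Set G)
  /-- `[L₂, W] ≤ V` -/
  triv : ∀ l ∈ L2 S co, ∀ w ∈ F0 co, cm l w ∈ E2 co
  /-- `L₂` is generated by two Sylow subgroups modulo `Db C(Db)` -/
  gen : ∀ n ∈ normalizer ((Db co : Subgroup G) : Set G), n ∉ normalizer ((Z co : Subgroup G) : Set G) →
    L2 S co ≤ ((S : Subgroup G) ⊔ (S : Subgroup G).map (MulAut.conj n).toMonoidHom) ⊔
      centralizer ((Db co : Subgroup G) : Set G)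

/-- the result of the analysis of `N_G(Da)` (piece G3) -/
structure Out1 : Prop where
  /-- `L₁` centralises `Z` -/
  cent : ∀ l ∈ L1 S co, ∀ z ∈ Z co, l * z = z * l
  /-- some conjugate of `V` is not in `RR` -/
  f0 : ∃ g ∈ L1 S co, ∃ v ∈ E2 co, g * v * g⁻¹ ∉ RR co
  /-- a conjugate of `V` different from `V` meets `RR` in `Z` -/
  f1 : ∀ g ∈ L1 S co, g ∉ normalizer ((E2 co : Subgroup G) : Set G) → ∀ v ∈ E2 co, g * v * g⁻¹ ∈ RR co →
    v ∈ Z co
  /-- `W ∩ W^g = Z` for `V^g ≠ V` -/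
  f2 : ∀ g ∈ L1 S co, g ∉ normalizer ((E2 co : Subgroup G) : Set G) → ∀ w ∈ F0 co, g * w * g⁻¹ ∈ F0 co →
    w ∈ Z co
  /-- the centraliser of an invariant subgroup -/
  f3 : ∀ Y : Subgroup G, Y ≤ Da co → L1 S co ≤ normalizer (Y : Set G) → ¬ Y ≤ Z co →
    ∀ x ∈ (S : Subgroup G), (∀ y ∈ Y, cm x y = 1) → x ∈ Z co
  f3' : ∀ Y : Subgroup G, Y ≤ Da co → L1 S co ≤ normalizer (Y : Set G) → ¬ Y ≤ Z co →
    ∀ x ∈ (S : Subgroup G), (∀ y ∈ Y, cm x y ∈ Z co) → x ∈ Da co
  /-- for `K ≠ F` the group `Da / Z` is irreducible -/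
  f4 : Module.finrank F K = 3 → ∀ Y : Subgroup G, Y ≤ Da co → L1 S co ≤ normalizer (Y : Set G) →
    ¬ Y ≤ Z co → Y = Da co
  /-- `L₁ / (L₁ ∩ Da C(Da))` is simple -/
  simple : ∀ M : Subgroup G, M ≤ L1 S co → L1 S co ≤ normalizer (M : Set G) →
    M ≤ Da co ⊔ centralizer ((Da co : Subgroup G) : Set G) ∨
    L1 S co ≤ M ⊔ (Da co ⊔ centralizer ((Da co : Subgroup G) : Set G))
  /-- every involution of `Da` is conjugate in `L₁` to an element of `W` -/
  sing : ∀ t ∈ Da co, t * t = 1 → ∃ g ∈ L1 S co, g * t * g⁻¹ ∈ F0 co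

/-- the result of the analysis of `C_G(z)`, `z ∈ Z` (piece G5) -/
structure OutZ : Prop where
  /-- `Da O(C_G(z))` is normal in `C_G(z)` -/
  norm : ∀ z ∈ Z co, z ≠ 1 → ∀ c ∈ centralizer {z}, ∀ x ∈ Da co, ∃ y ∈ Da co, ∃ o ∈
    (Cfsg.oddCore (centralizer ({z} : Set G))).map (centralizer ({z} : Set G)).subtype, c * x * c⁻¹ = y * o
  /-- `C_G(z) / O(C_G(z))` has no component -/
  nocomp : ∀ z ∈ Z co, z ≠ 1 → ¬ Cfsg.HasComponent
    ((centralizer ({z} : Set G)) ⧸ Cfsg.oddCore (centralizer ({z} : Set G)))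

end

end Cfsg.Agent.HexGlob
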