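import Cfsg.Agent.HexGlob.Spec
import Cfsg.Agent.SignalizersComponents.PConstrained

/-!
# Piece G (iv): if `X = C_G(z)/O(C_G(z))` has no component then `Da` is normal in `X`

`R = O_2(X)` contains its centralizer. `R ≤ Da` since otherwise the iterated commutators `[Da, R, ..., R]`
are never contained in `Z`. The group `{x : [x, Z] = 1, [x, R] ≤ Z}` is a normal 2-subgroup which contains `Da`.
-/

set_option autoImplicit false

namespace Cfsg.Agent.HexGlob.CenZFour

open Cfsg.Agent.HexRec Cfsg.Agent.HexEss Subgroup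
open scoped commutatorElement

universe u v

section general

variable {X : Type u} [Group X]

theorem cm_eq_commutatorElement (g h : X) : cm g h = ⁅g, h⁆ := rfl

/-- `N` normalises `[A, B]` if it normalises `A` and `B` -/
theorem le_normalizer_commutator {N A B : Subgroup X} (hA : N ≤ normalizer (A : Set X))
    (hB : N ≤ normalizer (B : Set X)) : N ≤ normalizer ((⁅A, B⁆ : Subgroup X) : Set X) := by
  rw [Subgroup.commutator_def]
  apply le_normalizer_closure
  rintro n hn _ ⟨a, ha, b, hb, rfl⟩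
  refine ⟨n * a * n⁻¹, conj_mem_of_le hA hn ha, n * b * n⁻¹, conj_mem_of_le hB hn hb, ?_⟩
  rw [← cm_eq_commutatorElement, ← cm_eq_commutatorElement, conj_cm]

/-- a group whose `O_{2'}` is trivial and which has no component has characteristic 2 -/
theorem centralizer_pCore_le [Finite X] (core : Cfsg.oddCore X = ⊥) (hnc : ¬ Cfsg.HasComponent X) :
    centralizer (Cfsg.pCore 2 X : Set X) ≤ Cfsg.pCore 2 X := by
  rw [Cfsg.Agent.SignalizersComponents.PConstrained.centralizer_pCore_le_iff_layer_eq_bot 2 core]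
  change sSup {K : Subgroup X | IsComponent K} = ⊥
  rw [sSup_eq_bot]
  intro K hK
  exact absurd ⟨K, hK⟩ hnc

/-- the stabiliser of a chain `1 ≤ Z ≤ R`, `R` normal, `C(R) ≤ R`, `Z` elementary abelian, lies in `O_2(X)` -/
theorem le_pCore_of_chain [Finite X] {R Z A : Subgroup X} (hR : R.Normal) (hRp : IsPGroup 2 R) (hZ : Z.Normal)
    (hcR : centralizer (R : Set X) ≤ R) (hZsq : ∀ z ∈ Z, z * z = 1)
    (hA1 : ∀ a ∈ A, ∀ z ∈ Z, a * z = z * a) (hA2 : ∀ a ∈ A, ∀ x ∈ R, cm a x ∈ Z) : A ≤ Cfsg.pCore 2 X := by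
  have hcm : ∀ n g h : X, cm (n * g * n⁻¹) h = n * cm g (n⁻¹ * h * n) * n⁻¹ := by
    intro n g h; unfold cm; group
  let W : Subgroup X :=
    { carrier := {w | (∀ z ∈ Z, w * z = z * w) ∧ ∀ x ∈ R, cm w x ∈ Z}
      one_mem' := ⟨fun z _ => by rw [one_mul, mul_one], fun x _ => by
        have : cm 1 x = 1 := by unfold cm; group
        rw [this]; exact one_mem _⟩
      mul_mem' := by
        rintro a b ⟨ha1, ha2⟩ ⟨hb1, hb2⟩
        refine ⟨fun z hz => by rw [mul_assoc, hb1 z hz, ← mul_assoc, ha1 z hz, mul_assoc], fun x hx => ?_⟩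
        have e : cm (a * b) x = a * cm b x * a⁻¹ * cm a x := by unfold cm; group
        rw [e]
        exact mul_mem (hZ.conj_mem _ (hb2 x hx) a) (ha2 x hx)
      inv_mem' := by
        rintro a ⟨ha1, ha2⟩
        refine ⟨fun z hz => ?_, fun x hx => ?_⟩
        · have := ha1 z hz
          calc a⁻¹ * z = a⁻¹ * (z * a) * a⁻¹ := by group
            _ = z * a⁻¹ := by rw [← this]; group
        · have e : cm a⁻¹ x = a⁻¹ * (cm a x)⁻¹ * a := by unfold cm; group
          rw [e]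
          have := hZ.conj_mem _ (inv_mem (ha2 x hx)) a⁻¹
          rwa [inv_inv] at this }
  have hWn : W.Normal := by
    refine ⟨fun w hw g => ?_⟩
    obtain ⟨hw1, hw2⟩ := hw
    refine ⟨fun z hz => ?_, fun x hx => ?_⟩
    · have h1 : g⁻¹ * z * g ∈ Z := by
        have := hZ.conj_mem _ hz g⁻¹
        rwa [inv_inv] at this
      have h2 := hw1 _ h1
      calc g * w * g⁻¹ * z = g * (w * (g⁻¹ * z * g)) * g⁻¹ := by group
        _ = z * (g * w * g⁻¹) := by rw [h2]; group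
    · rw [hcm]
      have h1 : g⁻¹ * x * g ∈ R := by
        have := hR.conj_mem _ hx g⁻¹
        rwa [inv_inv] at this
      exact hZ.conj_mem _ (hw2 _ h1) g
  have hWp : IsPGroup 2 W := by
    rintro ⟨r, hr⟩
    obtain ⟨hr2, hr3⟩ := hr
    have hsq : r * r ∈ centralizer (R : Set X) := by
      rw [mem_centralizer_iff]
      intro x hx
      have hzA : cm r x ∈ Z := hr3 x hx
      have e1 : r * x * r⁻¹ = cm r x * x := by unfold cm; group
      have e2 : r * r * x * (r * r)⁻¹ = x := by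
        calc r * r * x * (r * r)⁻¹ = r * (r * x * r⁻¹) * r⁻¹ := by group
          _ = (r * cm r x) * x * r⁻¹ := by rw [e1]; group
          _ = cm r x * (r * x * r⁻¹) := by rw [hr2 _ hzA]; group
          _ = cm r x * cm r x * x := by rw [e1]; group
          _ = x := by rw [hZsq _ hzA, one_mul]
      calc x * (r * r) = (r * r * x * (r * r)⁻¹) * (r * r) := by rw [e2]
        _ = r * r * x := by group
    have hsqO : r * r ∈ R := hcR hsq
    obtain ⟨k, hk⟩ := hRp ⟨_, hsqO⟩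
    refine ⟨k + 1, Subtype.ext ?_⟩
    have hk' : (r * r) ^ 2 ^ k = 1 := congrArg Subtype.val hk
    show r ^ 2 ^ (k + 1) = 1
    rw [pow_succ', pow_mul, pow_two, hk']
  have hAW : A ≤ W := fun a ha => ⟨hA1 a ha, hA2 a ha⟩
  exact hAW.trans (Cfsg.Agent.Lib.Cores.le_pCore hWn hWp)

/-- a strongly closed subgroup of `P` which lies in `O_2(X)` is normal -/
theorem normal_of_closed [Finite X] {P : Sylow 2 X} {A : Subgroup X}
    (hA : Cfsg.IsStronglyClosed A (P : Subgroup X)) (hle : A ≤ Cfsg.pCore 2 X) : A.Normal := by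
  have hOn : (Cfsg.pCore 2 X).Normal := Cfsg.Agent.Lib.Cores.pCore_normal 2
  have hOS : Cfsg.pCore 2 X ≤ (P : Subgroup X) := (Cfsg.Agent.Lib.Cores.pCore_isPGroup 2).le_sylow_of_normal P
  exact ⟨fun x hx g => hA.2 x hx g (hOS (hOn.conj_mem x (hle hx) g))⟩

end general

variable {F K : Type v} [Field F] [Field K] [Algebra F K] {C : Cubic F K}
variable {X : Type u} [Group X] [Finite X] {P : Sylow 2 X} {co : Coord C (P : Subgroup X)}

theorem Z_ne_Da : ¬ (Da co : Subgroup X) ≤ Z co := by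
  intro h
  obtain ⟨x, hx, hxc⟩ := exists_cx (co := co) ⟨0, 1, 0, 0, 0, 0⟩
  have h1 : x ∈ Da co := ⟨hx, by rw [hxc]⟩
  have h2 := (h h1).2.2.1
  rw [hxc] at h2
  exact one_ne_zero h2

/-- a normal 2-subgroup of `X` lies in `Da` -/
theorem le_Da {L R : Subgroup X} (L_le : L ≤ normalizer ((Da co : Subgroup X) : Set X))
    (f3' : ∀ Y : Subgroup X, Y ≤ Da co → L ≤ normalizer (Y : Set X) → ¬ Y ≤ Z co →
      ∀ x ∈ (P : Subgroup X), (∀ y ∈ Y, cm x y ∈ Z co) → x ∈ Da co)
    (hRP : R ≤ (P : Subgroup X)) (hR : L ≤ normalizer (R : Set X)) : R ≤ Da co := by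
  by_contra hcon
  -- one step
  have step : ∀ Y : Subgroup X, Y ≤ Da co → L ≤ normalizer (Y : Set X) → ¬ Y ≤ Z co →
      ∀ B : Subgroup X, (∀ y ∈ Y, ∀ x ∈ (P : Subgroup X), cm y x ∈ B) → B ≤ Da co →
      ⁅Y, R⁆ ≤ B ∧ ⁅Y, R⁆ ≤ Da co ∧ L ≤ normalizer ((⁅Y, R⁆ : Subgroup X) : Set X) ∧ ¬ ⁅Y, R⁆ ≤ Z co := by
    intro Y hY hLY hYZ B hB hBD
    have h1 : ⁅Y, R⁆ ≤ B := by
      rw [Subgroup.commutator_le]
      intro y hy r hr
      exact hB y hy r (hRP hr)
    refine ⟨h1, h1.trans hBD, le_normalizer_commutator hLY hR, fun h2 => hcon fun r hr => ?_⟩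
    refine f3' Y hY hLY hYZ r (hRP hr) (fun y hy => cm_inv_swap_mem ?_)
    exact h2 (Subgroup.commutator_mem_commutator hy hr)
  obtain ⟨a1, a2, a3, a4⟩ := step (Da co) le_rfl L_le Z_ne_Da (RR co)
    (fun y hy x hx => cm_mem_RR hy.1 hx) RR_le_Da
  obtain ⟨b1, b2, b3, b4⟩ := step _ a2 a3 a4 (F0 co)
    (fun y hy x hx => cm_inv_swap_mem (cm_mem_F0 hx (a1 hy))) F0_le_Da
  obtain ⟨c1, c2, c3, c4⟩ := step _ b2 b3 b4 (E2 co)
    (fun y hy x hx => cm_inv_swap_mem (cm_mem_E2 hx (b1 hy))) E2_le_Da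
  obtain ⟨d1, d2, d3, d4⟩ := step _ c2 c3 c4 (Z co)
    (fun y hy x hx => cm_inv_swap_mem (cm_mem_Z hx (c1 hy))) Z_le_Da
  exact d4 d1

/-- **(iv)**: if `X` has no component, then `Da` is normal in `X` -/
theorem normal_Da {L : Subgroup X} (core : Cfsg.oddCore X = ⊥)
    (closedZ : Cfsg.IsStronglyClosed (Z co) (P : Subgroup X))
    (L_le : L ≤ normalizer ((Da co : Subgroup X) : Set X))
    (f3' : ∀ Y : Subgroup X, Y ≤ Da co → L ≤ normalizer (Y : Set X) → ¬ Y ≤ Z co →
      ∀ x ∈ (P : Subgroup X), (∀ y ∈ Y, cm x y ∈ Z co) → x ∈ Da co)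
    (hnc : ¬ Cfsg.HasComponent X) : (Da co : Subgroup X).Normal := by
  have hOn : (Cfsg.pCore 2 X).Normal := Cfsg.Agent.Lib.Cores.pCore_normal 2
  have hOp : IsPGroup 2 (Cfsg.pCore 2 X) := Cfsg.Agent.Lib.Cores.pCore_isPGroup 2
  have hOS : Cfsg.pCore 2 X ≤ (P : Subgroup X) := hOp.le_sylow_of_normal P
  have hc := centralizer_pCore_le core hnc
  have hnorm : ∀ N : Subgroup X, N ≤ normalizer ((Cfsg.pCore 2 X : Subgroup X) : Set X) := by
    intro N
    rw [Subgroup.normalizer_eq_top_iff.2 hOn]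
    exact le_top
  have hRD : Cfsg.pCore 2 X ≤ Da co := le_Da L_le f3' hOS (hnorm L)
  have hZR : Z co ≤ Cfsg.pCore 2 X := by
    refine le_trans (fun z hz => ?_) hc
    rw [mem_centralizer_iff]
    intro x hx
    exact cm_eq_one.1 (cm_Z (co := co) (hOS hx) hz)
  have hZn : (Z co : Subgroup X).Normal := normal_of_closed closedZ hZR
  have hDR : Da co ≤ Cfsg.pCore 2 X := by
    refine le_pCore_of_chain (R := Cfsg.pCore 2 X) (Z := Z co) hOn hOp hZn hc
      (fun z hz => sq_F0 (co := co) (Z_le_F0 hz)) (fun a ha z hz => ?_) (fun a ha x hx => ?_)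
    · exact cm_eq_one.1 (cm_Z (co := co) ha.1 hz)
    · exact cm_mem_Z_of_Da ha (hRD hx)
  rw [le_antisymm hDR hRD]
  exact hOn

end Cfsg.Agent.HexGlob.CenZFour
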