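import Cfsg.Agent.HexGlob.CenZSpec
import Cfsg.Agent.HexEss.Abel
import Cfsg.Agent.SignalizersComponents.CompBasic
import Cfsg.Agent.S0542

/-!
# Piece G (iii): no normal component

`X = C_G(z)/O(C_G(z))`, `E` a component normal in `X`, `Da ∩ E` not central in `E`. Contradiction:
the Sylow 2-subgroup `P ∩ E` of `E` lies in `Da`, and the normaliser in `E` of `Y = Da ∩ E` induces on `Y/Z` a group
of odd order normalised by `P/Da`, so it centralises `Y/Z`, by Burnside `E/Z` is not perfect.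
-/

set_option autoImplicit false

namespace Cfsg.Agent.HexGlob.CenZThree

open Cfsg.Agent.HexRec Cfsg.Agent.HexEss Subgroup

universe u v

section general

variable {K : Type u} [Group K] [Finite K]

open scoped IsMulCommutative in
/-- Burnside transfer modulo a central subgroup -/
theorem sylow_le_of_perfect (hperf : Group.IsPerfect K) {p : ℕ} [Fact p.Prime] (P : Sylow p K) {Z : Subgroup K}
    (hZ : Z.Normal) (hZP : Z ≤ (P : Subgroup K))
    (hN : ∀ n ∈ normalizer ((P : Subgroup K) : Set K), ∀ y ∈ (P : Subgroup K), cm n y ∈ Z) :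
    (P : Subgroup K) ≤ Z := by
  set π := QuotientGroup.mk' Z with hπ
  have hπs : Function.Surjective π := QuotientGroup.mk'_surjective Z
  set Pb := P.mapSurjective hπs with hPb
  have hPbc : (Pb : Subgroup (K ⧸ Z)) = (P : Subgroup K).map π := rfl
  have hmem : ∀ x : K, π x ∈ (Pb : Subgroup (K ⧸ Z)) → x ∈ (P : Subgroup K) := by
    intro x hx
    rw [hPbc] at hx
    obtain ⟨y, hy, e⟩ := hx
    have h1 : y⁻¹ * x ∈ Z := QuotientGroup.eq.1 e
    have := mul_mem hy (hZP h1)
    simpa using this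
  have hP : normalizer ((Pb : Subgroup (K ⧸ Z)) : Set (K ⧸ Z)) ≤
      centralizer ((Pb : Subgroup (K ⧸ Z)) : Set (K ⧸ Z)) := by
    intro x hx
    obtain ⟨n, rfl⟩ := hπs x
    have hn : n ∈ normalizer ((P : Subgroup K) : Set K) := by
      rw [mem_normalizer_iff]
      intro y
      have h1 := (mem_normalizer_iff.1 hx) (π y)
      constructor
      · intro hy
        apply hmem
        rw [map_mul, map_mul, map_inv]
        exact h1.1 ⟨y, hy, rfl⟩
      · intro hy
        apply hmem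
        rw [h1, ← map_inv, ← map_mul, ← map_mul]
        exact ⟨_, hy, rfl⟩
    rw [mem_centralizer_iff]
    rintro _ ⟨y, hy, rfl⟩
    have h1 := hN n hn y hy
    have h2 : π (cm n y) = 1 := (QuotientGroup.eq_one_iff _).2 h1
    rw [← map_mul, ← map_mul, ← cm_mul n y, map_mul π (cm n y), h2, one_mul]
  have hperf' : Group.IsPerfect (K ⧸ Z) := by
    constructor
    rw [eq_top_iff]
    have h2 : (_root_.commutator K).map π = _root_.commutator (K ⧸ Z) := by
      rw [_root_.commutator_def, _root_.commutator_def, Subgroup.map_commutator, Subgroup.map_top_of_surjective _ hπs]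
    rw [← h2, hperf.commutator_eq_top, Subgroup.map_top_of_surjective _ hπs]
  have hcomm : IsMulCommutative (Pb : Subgroup (K ⧸ Z)) :=
    ⟨⟨fun a b => Subtype.ext (hP (le_normalizer b.2) a a.2)⟩⟩
  have h1 := MonoidHom.ker_transferSylow_isComplement' Pb hP
  have h2 : (MonoidHom.transferSylow Pb hP).ker = ⊤ := by
    rw [eq_top_iff]
    intro x _
    exact SignalizersComponents.CompBasic.hom_eq_one_of_perfect hperf' (MonoidHom.transferSylow Pb hP) x
  rw [h2, isComplement'_top_left] at h1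
  intro x hx
  have h3 : π x ∈ (Pb : Subgroup (K ⧸ Z)) := ⟨x, hx, rfl⟩
  rw [h1, mem_bot] at h3
  exact (QuotientGroup.eq_one_iff _).1 h3

end general

variable {F K : Type v} [Field F] [Field K] [Algebra F K] {C : Cubic F K}
variable {X : Type u} [Group X] [Finite X]

/-- groups of odd order acting on `Da / Z`: input from linear algebra -/
def HOdd (P : Sylow 2 X) (co : Coord C (P : Subgroup X)) (L : Subgroup X) : Prop :=
  ∀ Y N : Subgroup X, Y ≤ Da co → Z co ≤ Y → ¬ Y ≤ Z co → L ≤ normalizer (Y : Set X) →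
    L ≤ normalizer (N : Set X) → N ≤ normalizer (Y : Set X) → (∀ n ∈ N, ∀ z ∈ Z co, n * z = z * n) →
    (∀ n ∈ N, ∃ m, Odd m ∧ n ^ m ∈ Y) → ∀ n ∈ N, ∀ y ∈ Y, cm n y ∈ Z co

variable {P : Sylow 2 X} {co : Coord C (P : Subgroup X)} {L E : Subgroup X}

omit [Finite X] in
theorem le_normalizer_centralizer {N A : Subgroup X} (h : N ≤ normalizer (A : Set X)) :
    N ≤ normalizer ((centralizer (A : Set X) : Subgroup X) : Set X) := by
  refine le_normalizer_of fun n hn x hx => ?_
  rw [mem_centralizer_iff] at hx ⊢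
  intro a ha
  have h1 : n⁻¹ * a * n ∈ A := by
    have := conj_mem_of_le h (inv_mem hn) ha
    rwa [inv_inv] at this
  have h2 := hx _ h1
  calc a * (n * x * n⁻¹) = n * ((n⁻¹ * a * n) * x) * n⁻¹ := by group
    _ = n * x * n⁻¹ * a := by rw [h2]; group

/-- **(iii)**: there is no normal component -/
theorem false_of_component
    (P_le : (P : Subgroup X) ≤ L) (L_le : L ≤ normalizer ((Da co : Subgroup X) : Set X))
    (f3 : ∀ Y : Subgroup X, Y ≤ Da co → L ≤ normalizer (Y : Set X) → ¬ Y ≤ Z co →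
      ∀ x ∈ (P : Subgroup X), (∀ y ∈ Y, cm x y = 1) → x ∈ Z co)
    (f3' : ∀ Y : Subgroup X, Y ≤ Da co → L ≤ normalizer (Y : Set X) → ¬ Y ≤ Z co →
      ∀ x ∈ (P : Subgroup X), (∀ y ∈ Y, cm x y ∈ Z co) → x ∈ Da co)
    (hodd : HOdd P co L) (hE : Cfsg.IsComponent E) (hEn : E.Normal)
    (hZE : Z co ≤ centralizer (E : Set X)) (hne : ¬ Da co ⊓ E ≤ centralizer (E : Set X))
    (ha1k : ∀ t ∈ Da co ⊓ E, ∀ p ∈ (P : Subgroup X) ⊓ E, cm t p ∈ centralizer (E : Set X)) : False := by
  set Y := Da co ⊓ E with hY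
  have hLE : L ≤ normalizer (E : Set X) := by
    rw [Subgroup.normalizer_eq_top_iff.2 hEn]; exact le_top
  have hLY : L ≤ normalizer (Y : Set X) := le_normalizer_inf L_le hLE
  have hYD : Y ≤ Da co := inf_le_left
  have hYZ : ¬ Y ≤ Z co := fun h => hne (h.trans hZE)
  -- `Z ≤ Y`
  have hZY : Z co ≤ Y := by
    obtain ⟨a, ha, haZ⟩ := SetLike.not_le_iff_exists.1 hYZ
    intro z hz
    obtain ⟨t, ht, e⟩ := Abel.exists_cm_Da (hYD ha) haZ hz
    have h1 : t * a * t⁻¹ ∈ Y := conj_mem_of_le hLY (P_le ht.1) ha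
    have h2 := mul_mem h1 (inv_mem ha)
    rw [← e]
    exact h2
  -- `Da ∩ Z(E) ≤ Z`
  have hCZ : Y ⊓ centralizer (E : Set X) ≤ Z co := by
    by_contra hcon
    apply hYZ
    intro y hy
    refine f3 (Y ⊓ centralizer (E : Set X)) (inf_le_left.trans hYD)
      (le_normalizer_inf hLY (le_normalizer_centralizer hLE)) hcon y (hYD hy).1 (fun c hc => ?_)
    exact cm_eq_one.2 ((mem_centralizer_iff.1 (mem_inf.1 hc).2) y (mem_inf.1 hy).2)
  -- `P ∩ E ≤ Da`
  have hPE : ∀ p ∈ (P : Subgroup X) ⊓ E, p ∈ Y := by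
    intro p hp
    obtain ⟨hpP, hpE⟩ := mem_inf.1 hp
    refine mem_inf.2 ⟨?_, hpE⟩
    refine f3' Y hYD hLY hYZ p hpP (fun y hy => ?_)
    have h1 : p * y * p⁻¹ ∈ Y := conj_mem_of_le hLY (P_le hpP) hy
    exact hCZ (mem_inf.2 ⟨mul_mem h1 (inv_mem hy), cm_inv_swap_mem (ha1k y hy p hp)⟩)
  -- the normaliser of `Y` in `E`
  obtain ⟨Q, hQ⟩ := Cfsg.Agent.S0542.result 2 E hE.1 P
  have hQY : ∀ x : E, x ∈ (Q : Subgroup E) ↔ (x : X) ∈ Y := by
    intro x
    rw [hQ, mem_subgroupOf]
    exact ⟨fun h => hPE _ (mem_inf.2 ⟨h, x.2⟩), fun h => (hYD h).1⟩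
  have hN := hodd Y (E ⊓ normalizer (Y : Set X)) hYD hZY hYZ hLY (by
      refine le_normalizer_inf hLE (le_normalizer_of fun n hn x hx => ?_)
      exact mul_mem (mul_mem (hLY hn) hx) (inv_mem (hLY hn)))
    inf_le_right (fun n hn z hz => (mem_centralizer_iff.1 (hZE hz)) n (mem_inf.1 hn).1) (by
      intro n hn
      obtain ⟨hnE, hnY⟩ := mem_inf.1 hn
      have hnQ : (⟨n, hnE⟩ : E) ∈ normalizer ((Q : Subgroup E) : Set E) := by
        rw [mem_normalizer_iff]
        intro x
        have h1 := (mem_normalizer_iff.1 hnY) x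
        show x ∈ (Q : Subgroup E) ↔ _ ∈ (Q : Subgroup E)
        rw [hQY, hQY]
        exact h1
      -- the index of `Q` in its normaliser is odd
      refine ⟨(Q : Subgroup E).relIndex (normalizer ((Q : Subgroup E) : Set E)), ?_, ?_⟩
      · rw [← Nat.not_even_iff_odd, even_iff_two_dvd]
        intro hd
        exact Q.not_dvd_index (hd.trans (Dvd.intro _ (relIndex_mul_index le_normalizer)))
      · have h1 : ((Q : Subgroup E).subgroupOf (normalizer ((Q : Subgroup E) : Set E))).Normal :=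
          Subgroup.normal_in_normalizer
        have h2 := Subgroup.pow_index_mem ((Q : Subgroup E).subgroupOf (normalizer ((Q : Subgroup E) : Set E)))
          ⟨⟨n, hnE⟩, hnQ⟩
        exact (hQY _).1 h2)
  -- `Q ≤ Z`
  have hZn : ((Z co).subgroupOf E).Normal := by
    refine ⟨fun z hz g => ?_⟩
    rw [mem_subgroupOf] at hz ⊢
    have h1 := (mem_centralizer_iff.1 (hZE hz)) g g.2
    have h2 : ((g * z * g⁻¹ : E) : X) = z := by
      show (g : X) * z * (g : X)⁻¹ = z
      rw [h1, mul_inv_cancel_right]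
    rw [h2]; exact hz
  have hle := sylow_le_of_perfect hE.2.1 Q hZn (fun z hz => (hQY z).2 (hZY hz)) (by
    intro n hn y hy
    rw [mem_subgroupOf]
    refine hN n (mem_inf.2 ⟨n.2, ?_⟩) y ((hQY y).1 hy)
    have hnQ := mem_normalizer_iff.1 hn
    rw [mem_normalizer_iff]
    intro x
    constructor
    · intro hx
      have h1 := (hnQ ⟨x, (mem_inf.1 hx).2⟩).1 ((hQY _).2 hx)
      exact (hQY _).1 h1
    · intro hx
      have hxE : x ∈ E := by
        have h2 := mul_mem (mul_mem (inv_mem n.2) (mem_inf.1 hx).2) n.2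
        convert h2 using 1
        group
      exact (hQY ⟨x, hxE⟩).1 ((hnQ ⟨x, hxE⟩).2 ((hQY _).2 hx)))
  apply hYZ
  intro y hy
  have := hle ((hQY ⟨y, (mem_inf.1 hy).2⟩).2 hy)
  exact this

end Cfsg.Agent.HexGlob.CenZThree
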