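import Mathlib
import Cfsg.Agent.TypeL3.NoComp
import Cfsg.Agent.Lib.KleinGen

/-!
# Strongly closed elementary abelian subgroups of simple groups (piece A1)

`L` finite simple nonabelian, `P` a Sylow 2-subgroup, `A ≠ 1` an elementary abelian subgroup, strongly
closed in `P`.  Then `A` contains all involutions of `P` and they are central in `P`.
-/

set_option autoImplicit false

namespace Cfsg.Agent.HexGlob.MinPlus

open Subgroup Cfsg.Agent.Lib.GoldschmidtFusion Cfsg.Agent.TypeL3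
open Cfsg.Agent.TwoFusion.StronglyEmbeddedBasic
open scoped commutatorElement

universe u

/-- the consequence of Bender's theorem used here, in universe `u`: a strongly embedded subgroup of a
nonabelian simple group normalises one of its Sylow 2-subgroups -/
def HBend : Prop := ∀ (X : Type u) [Group X] [Finite X] [IsSimpleGroup X], (∃ a b : X, a * b ≠ b * a) →
  ∀ H : Subgroup X, Cfsg.IsStronglyEmbedded H →
    ∃ P : Sylow 2 X, (P : Subgroup X) ≤ H ∧ H ≤ normalizer ((P : Subgroup X) : Set X)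

variable {L : Type u} [Group L] [Finite L]

/-- the case of an abelian Sylow 2-subgroup -/
theorem mem_of_abelian (h1171 : H1171.{u}) [IsSimpleGroup L] (hna : ∃ a b : L, a * b ≠ b * a) (P : Sylow 2 L)
    (hPc : ∀ x ∈ (P : Subgroup L), ∀ y ∈ (P : Subgroup L), x * y = y * x) {Q : Subgroup L}
    (hQ : Cfsg.IsStronglyClosed Q (P : Subgroup L)) (hQ2 : ∀ x ∈ Q, x * x = 1) (hQ0 : Q ≠ ⊥) {t : L}
    (ht : t ∈ (P : Subgroup L)) (ht2 : t * t = 1) : t ∈ Q := by
  classical
  have hPne : (P : Subgroup L) ≠ ⊥ := fun h => hQ0 (le_bot_iff.1 (h ▸ hQ.1))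
  have hcore := oddCore_eq_bot_of_simple P hPne
  -- `Om` the subgroup of the `x` with `x² = 1`
  let Om : Subgroup L :=
    { carrier := {x | x ∈ (P : Subgroup L) ∧ x * x = 1}
      mul_mem' := by
        rintro a b ⟨ha, ha2⟩ ⟨hb, hb2⟩
        refine ⟨mul_mem ha hb, ?_⟩
        calc a * b * (a * b) = a * (b * a) * b := by group
          _ = (a * a) * (b * b) := by rw [hPc b hb a ha]; group
          _ = 1 := by rw [ha2, hb2, one_mul]
      one_mem' := ⟨one_mem _, one_mul _⟩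
      inv_mem' := by
        rintro a ⟨ha, ha2⟩
        refine ⟨inv_mem ha, ?_⟩
        rw [← mul_inv_rev, ha2, inv_one] }
  have hOm : ∀ {x : L}, x ∈ Om ↔ x ∈ (P : Subgroup L) ∧ x * x = 1 := Iff.rfl
  have hOmP : Om ≤ (P : Subgroup L) := fun x hx => hx.1
  have hQOm : Q ≤ Om := fun x hx => ⟨hQ.1 hx, hQ2 x hx⟩
  let _ : CommGroup Om :=
    { (inferInstance : Group Om) with
      mul_comm := fun x y => Subtype.ext (hPc x x.2.1 y y.2.1) }
  -- the action of `N(P)` on `Om`
  let N := normalizer ((P : Subgroup L) : Set L)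
  have hNOm : N ≤ normalizer (Om : Set L) := by
    intro n hn
    rw [mem_normalizer_iff_map_conj]
    apply Subgroup.eq_of_le_of_card_ge _ (by rw [card_map_conj])
    rintro _ ⟨x, hx, rfl⟩
    refine ⟨conj_mem_of_mem_normalizer hn hx.1, ?_⟩
    show n * x * n⁻¹ * (n * x * n⁻¹) = 1
    calc n * x * n⁻¹ * (n * x * n⁻¹) = n * (x * x) * n⁻¹ := by group
      _ = 1 := by rw [hx.2]; group
  let φ : N →* MulAut Om := (Om.normalizerMonoidHom).comp (Subgroup.inclusion hNOm)
  have hφ : ∀ (n : N) (x : Om), ((φ n x : Om) : L) = n * x * (n : L)⁻¹ := fun n x => rfl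
  let A := φ.range
  have hcop : (Nat.card A).Coprime (Nat.card Om) := by
    obtain ⟨k, hk⟩ := IsPGroup.iff_card.1 (P.isPGroup'.to_le hOmP)
    rw [hk]
    apply Nat.Coprime.pow_right
    rw [Nat.coprime_comm, Nat.Prime.coprime_iff_not_dvd Nat.prime_two]
    intro hd
    have h1 : Nat.card A = φ.ker.index := (Subgroup.index_ker φ).symm
    have h2 : (P : Subgroup L).subgroupOf N ≤ φ.ker := by
      intro n hn
      rw [mem_subgroupOf] at hn
      rw [MonoidHom.mem_ker]
      ext x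
      rw [hφ, MulAut.one_apply, hPc n hn x x.2.1, mul_inv_cancel_right]
    have h3 : φ.ker.index ∣ ((P : Subgroup L).subgroupOf N).index := Subgroup.index_dvd_of_le h2
    apply P.not_dvd_index
    rw [h1] at hd
    exact (hd.trans h3).trans (relIndex_dvd_index_of_le le_normalizer)
  let U := Q.subgroupOf Om
  obtain ⟨W, hW⟩ := Cfsg.Agent.Lib.FrattiniPGroup.exists_isCompl_of_elementary (p := 2)
    (fun a b : Om => mul_comm a b)
    (fun a => Subtype.ext (by rw [Subgroup.coe_pow, pow_two]; exact a.2.2)) U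
  have hU : ∀ a : A, ∀ u ∈ U, (A.subtype a) u ∈ U := by
    rintro ⟨_, n, rfl⟩ u hu
    rw [mem_subgroupOf] at hu ⊢
    show ((φ n u : Om) : L) ∈ Q
    rw [hφ]
    exact hQ.2 u hu n ((φ n u).2.1)
  obtain ⟨W', hW', hinf, hsup⟩ := Cfsg.Agent.S0660.exists_invariant_complement A.subtype hcop U W hU
    hW.inf_eq_bot hW.sup_eq_top
  let R := W'.map Om.subtype
  have hROm : R ≤ Om := by
    rintro _ ⟨x, -, rfl⟩
    exact x.2
  have hRP : R ≤ (P : Subgroup L) := hROm.trans hOmP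
  have hPcomm : IsMulCommutative (P : Subgroup L) := ⟨⟨fun x y => Subtype.ext (hPc x x.2 y y.2)⟩⟩
  have hR : Cfsg.IsStronglyClosed R (P : Subgroup L) := by
    refine ⟨hRP, ?_⟩
    rintro _ ⟨x, hx, rfl⟩ g hg
    have hg' : g⁻¹⁻¹ * (x : L) * g⁻¹ ∈ (P : Subgroup L) := by rw [inv_inv]; exact hg
    obtain ⟨n, hn, e⟩ := P.conj_eq_normalizer_conj_of_mem (x : L) g⁻¹ x.2.1 hg'
    rw [inv_inv] at e
    have h1 := hW' ⟨φ ⟨n⁻¹, inv_mem hn⟩, ⟨_, rfl⟩⟩ x hx
    refine ⟨_, h1, ?_⟩
    show ((φ ⟨n⁻¹, inv_mem hn⟩ x : Om) : L) = g * x * g⁻¹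
    rw [hφ, e]
    simp
  have hQR : Q ⊓ R = ⊥ := by
    rw [Subgroup.eq_bot_iff_forall]
    intro x hx
    obtain ⟨hxQ, w, hw, rfl⟩ := mem_inf.1 hx
    have h1 : w ∈ U ⊓ W' := mem_inf.2 ⟨by rw [mem_subgroupOf]; exact hxQ, hw⟩
    rw [hinf, mem_bot] at h1
    rw [h1]; rfl
  have hC := h1171 L P Q R hQR hQ hR
  rw [hcore] at hC
  have hC' : ∀ a ∈ Subgroup.normalClosure (Q : Set L), ∀ b ∈ Subgroup.normalClosure (R : Set L),
      a * b = b * a := by
    intro a ha b hb
    have h1 : ⁅a, b⁆ ∈ (⊥ : Subgroup L) := hC (commutator_mem_commutator ha hb)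
    rw [mem_bot] at h1
    exact commutatorElement_eq_one_iff_mul_comm.1 h1
  have hQt : Subgroup.normalClosure (Q : Set L) = ⊤ := by
    rcases (Subgroup.normalClosure_normal (s := (Q : Set L))).eq_bot_or_eq_top with h | h
    · exfalso
      apply hQ0
      exact le_bot_iff.1 (h ▸ Subgroup.subset_normalClosure)
    · exact h
  have hR0 : R = ⊥ := by
    by_contra hR0
    have hRt : Subgroup.normalClosure (R : Set L) = ⊤ := by
      rcases (Subgroup.normalClosure_normal (s := (R : Set L))).eq_bot_or_eq_top with h | h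
      · exfalso
        apply hR0
        exact le_bot_iff.1 (h ▸ Subgroup.subset_normalClosure)
      · exact h
    obtain ⟨a, b, hab⟩ := hna
    exact hab (hC' a (hQt ▸ mem_top a) b (hRt ▸ mem_top b))
  have hW0 : W' = ⊥ := (Subgroup.map_eq_bot_iff_of_injective _ Om.subtype_injective).1 hR0
  rw [hW0, sup_bot_eq] at hsup
  have h1 : (⟨t, ht, ht2⟩ : Om) ∈ U := by rw [hsup]; trivial
  rw [mem_subgroupOf] at h1
  exact h1

/-- **A1** -/
theorem mem_and_comm (h1169 : H1169.{u}) (h1171 : H1171.{u}) (hbend : HBend.{u}) [IsSimpleGroup L]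
    (hna : ∃ a b : L, a * b ≠ b * a) (P : Sylow 2 L) {A : Subgroup L}
    (hA : Cfsg.IsStronglyClosed A (P : Subgroup L)) (hA0 : A ≠ ⊥) (hAc : ∀ x ∈ A, ∀ y ∈ A, x * y = y * x)
    (hA2 : ∀ x ∈ A, x * x = 1) {t : L} (ht : t ∈ (P : Subgroup L)) (ht2 : t * t = 1) :
    t ∈ A ∧ ∀ s ∈ (P : Subgroup L), s * t = t * s := by
  have hcomm : IsMulCommutative A := ⟨⟨fun x y => Subtype.ext (hAc x x.2 y y.2)⟩⟩
  rcases h1169 L P A hA0 hcomm hA with h1 | ⟨H, hH⟩
  · have hPc : ∀ x ∈ (P : Subgroup L), ∀ y ∈ (P : Subgroup L), x * y = y * x := fun x hx y hy =>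
      congrArg Subtype.val (h1.1.1 (⟨x, hx⟩ : (P : Subgroup L)) ⟨y, hy⟩)
    exact ⟨mem_of_abelian h1171 hna P hPc hA hA2 hA0 ht ht2, fun s hs => hPc s hs t ht⟩
  · obtain ⟨a, ha, ha1⟩ : ∃ a ∈ A, a ≠ 1 := by
      by_contra h0
      push Not at h0
      exact hA0 ((Subgroup.eq_bot_iff_forall _).2 h0)
    refine ⟨mem_of_stronglyEmbedded hH hA ha (hA2 a ha) ha1 ht ht2, ?_⟩
    by_cases ht1 : t = 1
    · intro s _
      rw [ht1, mul_one, one_mul]
    obtain ⟨P₀, hP₀H, hHP₀⟩ := hbend L hna H hH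
    obtain ⟨g, hg⟩ := MulAction.exists_smul_eq L P₀ P
    have hmem : ∀ {x : L}, x ∈ (P : Subgroup L) → g⁻¹ * x * g ∈ (P₀ : Subgroup L) := by
      intro x hx
      rw [← hg] at hx
      have hx' : x ∈ (P₀ : Subgroup L).map (MulAut.conj g).toMonoidHom := hx
      rwa [mem_map_conj] at hx'
    set t0 := g⁻¹ * t * g with ht0
    have ht0P := hmem ht
    have ht02 : t0 * t0 = 1 := by
      calc t0 * t0 = g⁻¹ * (t * t) * g := by rw [ht0]; group
        _ = 1 := by rw [ht2]; group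
    have ht01 : t0 ≠ 1 := by
      intro h1
      apply ht1
      have : t = g * t0 * g⁻¹ := by rw [ht0]; group
      rw [this, h1]; group
    have ho0 := orderOf_eq_two_of_sq ht02 ht01
    -- an involution in the centre of `P₀`
    have hnt : Nontrivial (P₀ : Subgroup L) := ⟨⟨⟨t0, ht0P⟩, 1, fun h => ht01 (congrArg Subtype.val h)⟩⟩
    have hZ : Nontrivial (center (P₀ : Subgroup L)) := P₀.isPGroup'.center_nontrivial
    obtain ⟨k, hk⟩ := IsPGroup.iff_card.1 (P₀.isPGroup'.to_subgroup (center (P₀ : Subgroup L)))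
    have hk0 : k ≠ 0 := by
      rintro rfl
      rw [pow_zero] at hk
      exact absurd (Subgroup.card_eq_one.1 hk) ((Subgroup.nontrivial_iff_ne_bot _).1 hZ)
    obtain ⟨z, hz⟩ := exists_prime_orderOf_dvd_card' (G := center (P₀ : Subgroup L)) 2
      (by rw [hk]; exact dvd_pow_self 2 hk0)
    have hzo : orderOf ((z : (P₀ : Subgroup L)) : L) = 2 := by
      rw [Subgroup.orderOf_coe, Subgroup.orderOf_coe, hz]
    obtain ⟨c, hc⟩ := isConj_iff.1 (isConj_of_involutions hH ((z : (P₀ : Subgroup L)) : L) t0 hzo ho0)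
    have hcH : c ∈ H := mem_of_conj_mem hH (hP₀H (z : (P₀ : Subgroup L)).2) hzo
      (by rw [hc]; exact hP₀H ht0P)
    have hcN := hHP₀ hcH
    have key : ∀ s ∈ (P₀ : Subgroup L), s * t0 = t0 * s := by
      intro s hs
      have h1 := conj_mem_of_mem_normalizer (inv_mem hcN) hs
      rw [inv_inv] at h1
      have h2 := congrArg Subtype.val (mem_center_iff.1 z.2 ⟨_, h1⟩)
      have h2' : c⁻¹ * s * c * ((z : (P₀ : Subgroup L)) : L) = ((z : (P₀ : Subgroup L)) : L) * (c⁻¹ * s * c) := h2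
      rw [← hc]
      calc s * (c * (z : (P₀ : Subgroup L)) * c⁻¹) = c * (c⁻¹ * s * c * ((z : (P₀ : Subgroup L)) : L)) * c⁻¹ := by
            group
        _ = c * (z : (P₀ : Subgroup L)) * c⁻¹ * s := by rw [h2']; group
    intro s hs
    have h1 := key _ (hmem hs)
    calc s * t = g * (g⁻¹ * s * g * t0) * g⁻¹ := by rw [ht0]; group
      _ = g * (t0 * (g⁻¹ * s * g)) * g⁻¹ := by rw [h1]
      _ = t * s := by rw [ht0]; group

end Cfsg.Agent.HexGlob.MinPlus
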