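import Mathlib
import Cfsg.Agent.HexGlob.MinPlus

/-!
# Components of a group with trivial odd core and strongly closed subgroups (pieces A2 - A5)

`X` finite, `O(X) = 1`, `P` a Sylow 2-subgroup of `X`, `K` a component of `X`.

* `QS`: quasisimple groups with trivial odd core; `QS.min_plus` (A1 + A5).
* `Ctx.min_plus`: the same for a component.
* `Ctx.false_of_le_derived` (A2), `Ctx.le_of_moved`, `Ctx.false_of_moved` (A3), `Ctx.comm_of_inf_le` (A4).
-/

set_option autoImplicit false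

namespace Cfsg.Agent.HexGlob.CompTools

open Subgroup Cfsg.Agent.Lib.GoldschmidtFusion Cfsg.Agent.TypeL3 Cfsg.Agent.HexGlob.MinPlus
open Cfsg.Agent.SignalizersComponents.CompBasic Cfsg.Agent.SignalizersComponents.Components
open scoped commutatorElement

universe u

/-! ### quasisimple groups -/

/-- quasisimple with trivial odd core -/
structure QS (Y : Type*) [Group Y] : Prop where
  qs : Cfsg.IsQuasisimple Y
  core : Cfsg.pPrimeCore 2 Y = ⊥

namespace QS

variable {Y : Type u} [Group Y]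

theorem center_pow [Finite Y] (h : QS Y) {c : Y} (hc : c ∈ center Y) : ∃ k : ℕ, c ^ 2 ^ k = 1 := by
  obtain ⟨k, m, hm, hkm⟩ := Nat.exists_eq_pow_mul_and_not_dvd (orderOf_pos c).ne' 2 (by norm_num)
  refine ⟨k, ?_⟩
  have hd : orderOf (c ^ 2 ^ k) = m := by
    rw [orderOf_pow_of_dvd (pow_ne_zero _ two_ne_zero) (by rw [hkm]; exact Dvd.intro _ rfl), hkm,
      Nat.mul_div_cancel_left _ (pow_pos two_pos _)]
  have hdc : c ^ 2 ^ k ∈ center Y := pow_mem hc _
  have hn : (zpowers (c ^ 2 ^ k)).Normal := by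
    refine ⟨fun y hy g => ?_⟩
    have h1 : y ∈ center Y := (zpowers_le.2 hdc) hy
    rw [mem_center_iff.1 h1 g, mul_inv_cancel_right]
    exact hy
  have h1 : zpowers (c ^ 2 ^ k) ≤ Cfsg.pPrimeCore 2 Y := by
    apply Cfsg.Agent.Lib.Cores.le_pPrimeCore hn
    rw [Nat.card_zpowers, hd]
    exact Nat.coprime_comm.1 ((Nat.Prime.coprime_iff_not_dvd Nat.prime_two).2 hm)
  rw [h.core] at h1
  exact mem_bot.1 (h1 (mem_zpowers _))

theorem center_le [Finite Y] (h : QS Y) (P : Sylow 2 Y) : center Y ≤ (P : Subgroup Y) := by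
  have : IsPGroup 2 (center Y) := by
    rintro ⟨c, hc⟩
    obtain ⟨k, hk⟩ := h.center_pow hc
    exact ⟨k, Subtype.ext hk⟩
  exact this.le_sylow_of_normal P

theorem not_comm_bar (h : QS Y) : ∃ a b : Y ⧸ center Y, a * b ≠ b * a := by
  by_contra hcon
  push Not at hcon
  have hs : IsSimpleGroup (Y ⧸ center Y) := h.qs.2
  have hperf : _root_.commutator Y = ⊤ := h.qs.1.commutator_eq_top
  have h1 : _root_.commutator (Y ⧸ center Y) = ⊥ := by
    rw [_root_.commutator_eq_bot_iff_center_eq_top, eq_top_iff]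
    intro x _
    exact mem_center_iff.2 fun y => hcon y x
  have h2 : (_root_.commutator Y).map (QuotientGroup.mk' (center Y)) = _root_.commutator (Y ⧸ center Y) := by
    rw [commutator_def, commutator_def, Subgroup.map_commutator,
      Subgroup.map_top_of_surjective _ (QuotientGroup.mk'_surjective (center Y))]
  rw [hperf, Subgroup.map_top_of_surjective _ (QuotientGroup.mk'_surjective (center Y)), h1] at h2
  obtain ⟨x, hx⟩ := exists_ne (1 : Y ⧸ center Y)
  apply hx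
  rw [← mem_bot, ← h2]
  exact mem_top x

/-- A5: images of strongly closed subgroups -/
theorem closed_mk [Finite Y] (h : QS Y) (P : Sylow 2 Y) {Q : Subgroup Y}
    (hQ : Cfsg.IsStronglyClosed Q (P : Subgroup Y)) :
    Cfsg.IsStronglyClosed (Q.map (QuotientGroup.mk' (center Y)))
      (P.mapSurjective (QuotientGroup.mk'_surjective (center Y)) : Subgroup (Y ⧸ center Y)) := by
  rw [Sylow.coe_mapSurjective]
  refine ⟨Subgroup.map_mono hQ.1, ?_⟩
  rintro _ ⟨x, hx, rfl⟩ g hg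
  obtain ⟨g, rfl⟩ := QuotientGroup.mk'_surjective (center Y) g
  rw [← map_inv, ← map_mul, ← map_mul] at hg ⊢
  obtain ⟨y, hy, e⟩ := hg
  have hc : y⁻¹ * (g * x * g⁻¹) ∈ center Y := QuotientGroup.eq.1 e
  have h1 : g * x * g⁻¹ ∈ (P : Subgroup Y) := by
    have := mul_mem hy (h.center_le P hc)
    rwa [mul_inv_cancel_left] at this
  exact ⟨g * x * g⁻¹, hQ.2 x hx g h1, rfl⟩

/-- A1 for `Y / Z(Y)` -/
theorem min_plus [Finite Y] (h1169 : H1169.{u}) (h1171 : H1171.{u}) (hbend : HBend.{u}) (h : QS Y)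
    (P : Sylow 2 Y) {Q : Subgroup Y} (hQ : Cfsg.IsStronglyClosed Q (P : Subgroup Y))
    (hQc : ∀ x ∈ Q, ∀ y ∈ Q, x * y * x⁻¹ * y⁻¹ ∈ center Y) (hQ2 : ∀ x ∈ Q, x * x ∈ center Y)
    (hQ0 : ¬ Q ≤ center Y) {t : Y} (ht : t ∈ (P : Subgroup Y)) (ht2 : t * t ∈ center Y) :
    (∃ q ∈ Q, ∃ c ∈ center Y, t = q * c) ∧ ∀ s ∈ (P : Subgroup Y), s * t * s⁻¹ * t⁻¹ ∈ center Y := by
  have hs : IsSimpleGroup (Y ⧸ center Y) := h.qs.2
  have hmk : ∀ {x y : Y}, x * y * x⁻¹ * y⁻¹ ∈ center Y →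
      QuotientGroup.mk' (center Y) x * QuotientGroup.mk' (center Y) y =
        QuotientGroup.mk' (center Y) y * QuotientGroup.mk' (center Y) x := by
    intro x y hxy
    have h1 : QuotientGroup.mk' (center Y) (x * y * x⁻¹ * y⁻¹) = 1 := (QuotientGroup.eq_one_iff _).2 hxy
    rw [map_mul, map_mul, map_mul, map_inv, map_inv, mul_inv_eq_one, mul_inv_eq_iff_eq_mul] at h1
    exact h1
  obtain ⟨h1, h2⟩ := mem_and_comm h1169 h1171 hbend h.not_comm_bar
    (P.mapSurjective (QuotientGroup.mk'_surjective (center Y))) (h.closed_mk P hQ)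
    (by
      intro h0
      rw [Subgroup.map_eq_bot_iff, QuotientGroup.ker_mk'] at h0
      exact hQ0 h0)
    (by
      rintro _ ⟨x, hx, rfl⟩ _ ⟨y, hy, rfl⟩
      exact hmk (hQc x hx y hy))
    (by
      rintro _ ⟨x, hx, rfl⟩
      rw [← map_mul]
      exact (QuotientGroup.eq_one_iff _).2 (hQ2 x hx))
    (t := QuotientGroup.mk' (center Y) t)
    (by rw [Sylow.coe_mapSurjective]; exact ⟨t, ht, rfl⟩)
    (by
      rw [← map_mul]
      exact (QuotientGroup.eq_one_iff _).2 ht2)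
  constructor
  · obtain ⟨q, hq, e⟩ := h1
    exact ⟨q, hq, q⁻¹ * t, QuotientGroup.eq.1 e, by group⟩
  · intro s hs
    have h3 := h2 (QuotientGroup.mk' (center Y) s) (by rw [Sylow.coe_mapSurjective]; exact ⟨s, hs, rfl⟩)
    rw [← QuotientGroup.eq_one_iff]
    show QuotientGroup.mk' (center Y) (s * t * s⁻¹ * t⁻¹) = 1
    rw [map_mul, map_mul, map_mul, map_inv, map_inv, mul_inv_eq_one, mul_inv_eq_iff_eq_mul]
    exact h3

/-- focal subgroup theorem -/
theorem focal [Finite Y] (h : QS Y) (P : Sylow 2 Y) {M : Subgroup Y}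
    (hM : ∀ k ∈ (P : Subgroup Y), ∀ g : Y, g * k * g⁻¹ ∈ (P : Subgroup Y) → k⁻¹ * (g * k * g⁻¹) ∈ M) :
    (P : Subgroup Y) ≤ M := by
  have hperf : _root_.commutator Y = ⊤ := h.qs.1.commutator_eq_top
  have hf := Subgroup.commutator_inf_eq_focalSubgroup P
  rw [hperf, top_inf_eq, focalSubgroup_def] at hf
  rw [hf, closure_le]
  rintro g ⟨hg, y, hy, w, rfl⟩
  have hy' : w * y⁻¹ * w⁻¹ ∈ (P : Subgroup Y) := by
    have := mul_mem (inv_mem hy) hg
    rw [commutatorElement_def] at this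
    convert this using 1
    group
  have := hM y⁻¹ (inv_mem hy) w hy'
  show ⁅y, w⁆ ∈ M
  rw [commutatorElement_def]
  convert this using 1
  group

theorem two_dvd [Finite Y] (h : QS Y) : 2 ∣ Nat.card Y := by
  by_contra h1
  have h2 : (Nat.card Y).Coprime 2 := Nat.coprime_comm.1 ((Nat.Prime.coprime_iff_not_dvd Nat.prime_two).2 h1)
  have h3 := (Cfsg.Agent.Lib.Cores.pPrimeCore_eq_top_iff (G := Y) (p := 2)).2 h2
  rw [h.core] at h3
  have h5 := quasisimple_nontrivial h.qs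
  exact bot_ne_top h3

theorem not_le_center [Finite Y] (h : QS Y) (P : Sylow 2 Y) : ¬ (P : Subgroup Y) ≤ center Y :=
  sylow_not_le_center_of_perfect h.qs.1 2 h.two_dvd P

end QS

/-! ### components -/

variable {X : Type u} [Group X]

/-- `K` a component of `X`, `O(X) = 1` -/
structure Ctx (K : Subgroup X) : Prop where
  core : Cfsg.oddCore X = ⊥
  comp : Cfsg.IsComponent K

theorem mem_center_coe {K : Subgroup X} {x : K} : x ∈ center K ↔ (x : X) ∈ centralizer (K : Set X) := by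
  rw [mem_center_iff, mem_centralizer_iff]
  constructor
  · intro h y hy
    exact congrArg Subtype.val (h ⟨y, hy⟩)
  · intro h y
    exact Subtype.ext (h y y.2)

namespace Ctx

variable {K : Subgroup X}

theorem conj (h : Ctx K) (g : X) : Ctx (K.map (MulAut.conj g).toMonoidHom) :=
  ⟨h.core, isComponent_conj g h.comp⟩

theorem commute_of_ne (h : Ctx K) {L : Subgroup X} (hL : Cfsg.IsComponent L) (hne : K ≠ L) {x y : X}
    (hx : x ∈ K) (hy : y ∈ L) : x * y = y * x :=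
  ((mem_centralizer_iff.1 (component_le_centralizer_of_ne h.comp hL hne hx)) y hy).symm

variable [Finite X]

theorem qs (h : Ctx K) : QS K := by
  refine ⟨h.comp.2, ?_⟩
  have h1 := map_subtype_pPrimeCore_of_subnormal 2 h.comp.1
  have h2 : Cfsg.pPrimeCore 2 X = ⊥ := h.core
  rw [h2, inf_bot_eq] at h1
  exact (Subgroup.map_eq_bot_iff_of_injective _ K.subtype_injective).1 h1

theorem exists_sylow (h : Ctx K) (P : Sylow 2 X) : ∃ R : Sylow 2 K, (R : Subgroup K) = (P : Subgroup X).subgroupOf K :=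
  Cfsg.Agent.S0542.result 2 K h.comp.1 P

/-- focal subgroup theorem in `K` -/
theorem focal (h : Ctx K) (P : Sylow 2 X) {M : Subgroup X}
    (hM : ∀ k ∈ (P : Subgroup X) ⊓ K, ∀ g ∈ K, g * k * g⁻¹ ∈ (P : Subgroup X) → k⁻¹ * (g * k * g⁻¹) ∈ M) :
    (P : Subgroup X) ⊓ K ≤ M := by
  obtain ⟨R, hR⟩ := h.exists_sylow P
  have hle : (R : Subgroup K) ≤ M.subgroupOf K := by
    apply h.qs.focal R
    intro k hk g hg
    rw [hR, mem_subgroupOf] at hk hg
    rw [mem_subgroupOf]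
    exact hM k (mem_inf.2 ⟨hk, k.2⟩) g g.2 hg
  intro x hx
  obtain ⟨hxP, hxK⟩ := mem_inf.1 hx
  have h1 : (⟨x, hxK⟩ : K) ∈ (R : Subgroup K) := by rw [hR, mem_subgroupOf]; exact hxP
  have h2 := hle h1
  rw [mem_subgroupOf] at h2
  exact h2

theorem not_le_centralizer (h : Ctx K) (P : Sylow 2 X) : ¬ (P : Subgroup X) ⊓ K ≤ centralizer (K : Set X) := by
  intro hle
  obtain ⟨R, hR⟩ := h.exists_sylow P
  apply h.qs.not_le_center R
  intro x hx
  rw [hR, mem_subgroupOf] at hx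
  exact mem_center_coe.2 (hle (mem_inf.2 ⟨hx, x.2⟩))

/-- `Z(K) ≤ P` -/
theorem center_le (h : Ctx K) (P : Sylow 2 X) : K ⊓ centralizer (K : Set X) ≤ (P : Subgroup X) := by
  intro x hx
  obtain ⟨hxK, hxC⟩ := mem_inf.1 hx
  obtain ⟨R, hR⟩ := h.exists_sylow P
  have h1 := h.qs.center_le R (mem_center_coe.2 hxC : (⟨x, hxK⟩ : K) ∈ center K)
  rw [hR, mem_subgroupOf] at h1
  exact h1

/-- A1 + A5 for a component; `A` has to be strongly closed only with respect to `K` -/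
theorem min_plus (h1169 : H1169.{u}) (h1171 : H1171.{u}) (hbend : HBend.{u}) (h : Ctx K) (P : Sylow 2 X)
    {A : Subgroup X} (hAP : A ⊓ K ≤ (P : Subgroup X))
    (hA : ∀ x ∈ A ⊓ K, ∀ g ∈ K, g * x * g⁻¹ ∈ (P : Subgroup X) → g * x * g⁻¹ ∈ A)
    (hAc : ∀ x ∈ A ⊓ K, ∀ y ∈ A ⊓ K, x * y * x⁻¹ * y⁻¹ ∈ centralizer (K : Set X))
    (hA2 : ∀ x ∈ A ⊓ K, x * x ∈ centralizer (K : Set X)) (hA0 : ¬ A ⊓ K ≤ centralizer (K : Set X)) {t : X}
    (ht : t ∈ (P : Subgroup X) ⊓ K) (ht2 : t * t ∈ centralizer (K : Set X)) :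
    (∃ q ∈ A ⊓ K, ∃ c ∈ K ⊓ centralizer (K : Set X), t = q * c) ∧
      ∀ s ∈ (P : Subgroup X) ⊓ K, s * t * s⁻¹ * t⁻¹ ∈ centralizer (K : Set X) := by
  obtain ⟨R, hR⟩ := h.exists_sylow P
  obtain ⟨htP, htK⟩ := mem_inf.1 ht
  obtain ⟨h1, h2⟩ := h.qs.min_plus h1169 h1171 hbend R (Q := A.subgroupOf K)
    ⟨fun x hx => by
      rw [hR, mem_subgroupOf]
      rw [mem_subgroupOf] at hx
      exact hAP (mem_inf.2 ⟨hx, x.2⟩), fun x hx g hg => by
      rw [hR, mem_subgroupOf] at hg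
      rw [mem_subgroupOf] at hx ⊢
      exact hA x (mem_inf.2 ⟨hx, x.2⟩) g g.2 hg⟩
    (fun x hx y hy => by
      rw [mem_subgroupOf] at hx hy
      exact mem_center_coe.2 (hAc x (mem_inf.2 ⟨hx, x.2⟩) y (mem_inf.2 ⟨hy, y.2⟩)))
    (fun x hx => by
      rw [mem_subgroupOf] at hx
      exact mem_center_coe.2 (hA2 x (mem_inf.2 ⟨hx, x.2⟩)))
    (fun h0 => hA0 fun x hx => by
      obtain ⟨hxA, hxK⟩ := mem_inf.1 hx
      exact mem_center_coe.1 (h0 (show (⟨x, hxK⟩ : K) ∈ A.subgroupOf K from hxA)))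
    (t := ⟨t, htK⟩) (by rw [hR, mem_subgroupOf]; exact htP) (mem_center_coe.2 ht2)
  constructor
  · obtain ⟨q, hq, c, hc, e⟩ := h1
    exact ⟨q, mem_inf.2 ⟨hq, q.2⟩, c, mem_inf.2 ⟨c.2, mem_center_coe.1 hc⟩, congrArg Subtype.val e⟩
  · intro s hs
    obtain ⟨hsP, hsK⟩ := mem_inf.1 hs
    exact mem_center_coe.1 (h2 ⟨s, hsK⟩ (by rw [hR, mem_subgroupOf]; exact hsP))

/-! ### A3: elements moving a component -/

/-- A3: `P ∩ K ≤ A` if `A` is strongly closed in `P` and contains an element moving `K` -/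
theorem le_of_moved (h : Ctx K) (P : Sylow 2 X) {A : Subgroup X} (hA : Cfsg.IsStronglyClosed A (P : Subgroup X))
    {a : X} (ha : a ∈ A) (hne : K.map (MulAut.conj a).toMonoidHom ≠ K) : (P : Subgroup X) ⊓ K ≤ A := by
  have haP := hA.1 ha
  have hL := isComponent_conj a h.comp
  apply h.focal P
  intro k hk g hg hgk
  obtain ⟨hkP, hkK⟩ := mem_inf.1 hk
  set l := a * k * a⁻¹ with hl
  have hlL : l ∈ K.map (MulAut.conj a).toMonoidHom := conj_mem_map_conj hkK a
  have hlP : l ∈ (P : Subgroup X) := mul_mem (mul_mem haP hkP) (inv_mem haP)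
  -- `k⁻¹ l ∈ A`
  have h1 : k⁻¹ * l ∈ A := by
    have h2 : k⁻¹ * a * k⁻¹⁻¹ ∈ A := hA.2 a ha k⁻¹
      (mul_mem (mul_mem (inv_mem hkP) haP) (inv_mem (inv_mem hkP)))
    have h3 := mul_mem h2 (inv_mem ha)
    convert h3 using 1
    rw [hl]; group
  have hgl : g * l = l * g := h.commute_of_ne hL hne.symm hg hlL
  have e1 : g * (k⁻¹ * l) * g⁻¹ = (g * k * g⁻¹)⁻¹ * l := by
    calc g * (k⁻¹ * l) * g⁻¹ = g * k⁻¹ * g⁻¹ * (g * l) * g⁻¹ := by group
      _ = (g * k * g⁻¹)⁻¹ * l := by rw [hgl]; group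
  have h2 : g * (k⁻¹ * l) * g⁻¹ ∈ A := by
    apply hA.2 _ h1
    rw [e1]
    exact mul_mem (inv_mem hgk) hlP
  rw [e1] at h2
  have h3 := inv_mem (mul_mem h2 (inv_mem h1))
  convert h3 using 1
  group

/-- A3': contradiction if moreover the commutators `[k, a]` centralise the components -/
theorem false_of_moved (h : Ctx K) (P : Sylow 2 X) {A : Subgroup X}
    (hA : Cfsg.IsStronglyClosed A (P : Subgroup X)) {a : X} (ha : a ∈ A)
    (hne : K.map (MulAut.conj a).toMonoidHom ≠ K)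
    (hc : ∀ k ∈ A ⊓ K, ∀ l ∈ K.map (MulAut.conj a).toMonoidHom, k⁻¹ * (a * k * a⁻¹) * l = l * (k⁻¹ * (a * k * a⁻¹))) :
    False := by
  have hL := isComponent_conj a h.comp
  have hle := h.le_of_moved P hA ha hne
  apply h.not_le_centralizer P
  intro k hk
  obtain ⟨hkP, hkK⟩ := mem_inf.1 hk
  rw [mem_centralizer_iff]
  intro y hy
  have hyL : a * y * a⁻¹ ∈ K.map (MulAut.conj a).toMonoidHom := conj_mem_map_conj hy a
  have h1 := hc k (mem_inf.2 ⟨hle hk, hkK⟩) _ hyL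
  have h2 := h.commute_of_ne hL hne.symm hkK hyL
  have h3 : a * k * a⁻¹ * (a * y * a⁻¹) = a * y * a⁻¹ * (a * k * a⁻¹) := by
    calc a * k * a⁻¹ * (a * y * a⁻¹) = k * (k⁻¹ * (a * k * a⁻¹) * (a * y * a⁻¹)) := by group
      _ = k * (a * y * a⁻¹) * (k⁻¹ * (a * k * a⁻¹)) := by rw [h1]; group
      _ = a * y * a⁻¹ * (a * k * a⁻¹) := by rw [h2]; group
  calc y * k = a⁻¹ * (a * y * a⁻¹ * (a * k * a⁻¹)) * a := by group
    _ = a⁻¹ * (a * k * a⁻¹ * (a * y * a⁻¹)) * a := by rw [h3]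
    _ = k * y := by group

/-- A3' for abelian `A` -/
theorem normalises_of_comm (h : Ctx K) (P : Sylow 2 X) {A : Subgroup X}
    (hA : Cfsg.IsStronglyClosed A (P : Subgroup X)) (hAc : ∀ x ∈ A, ∀ y ∈ A, x * y = y * x) :
    A ≤ normalizer (K : Set X) := by
  intro a ha
  rw [mem_normalizer_iff_map_conj]
  by_contra hne
  refine h.false_of_moved P hA ha hne ?_
  intro k hk l _
  have : k⁻¹ * (a * k * a⁻¹) = 1 := by
    rw [hAc a ha k (mem_inf.1 hk).1]; group
  rw [this, one_mul, mul_one]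

/-! ### A2 -/

/-- A2: `P` normalises `K`, `P ∩ K ≤ Z(P) ∩ P'` is impossible -/
theorem false_of_le_derived (h : Ctx K) (P : Sylow 2 X) (hPK : (P : Subgroup X) ≤ normalizer (K : Set X))
    (hZ : ∀ x ∈ (P : Subgroup X) ⊓ K, ∀ s ∈ (P : Subgroup X), x * s = s * x)
    (hD : (P : Subgroup X) ⊓ K ≤ ⁅(P : Subgroup X), (P : Subgroup X)⁆) : False := by
  set D := (P : Subgroup X) ⊓ K with hDdef
  obtain ⟨R, hR⟩ := h.exists_sylow P
  have hRD : (R : Subgroup K).map K.subtype = D := by rw [hR, subgroupOf_map_subtype]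
  have hRm : ∀ x : K, x ∈ (R : Subgroup K) → (x : X) ∈ (P : Subgroup X) := by
    intro x hx
    rw [hR, mem_subgroupOf] at hx
    exact hx
  have hRc : IsMulCommutative (R : Subgroup K) := ⟨⟨fun x y =>
    Subtype.ext (Subtype.ext (hZ _ (mem_inf.2 ⟨hRm _ x.2, (x : K).2⟩) _ (hRm _ y.2)))⟩⟩
  -- elements of `N_K(D)` centralise `D`
  have key : ∀ n ∈ K, n ∈ normalizer (D : Set X) → ∀ x ∈ D, n * x = x * n := by
    intro n hnK hnD
    set C := centralizer (D : Set X) ⊓ K with hC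
    have hPC : (P : Subgroup X) ≤ normalizer (C : Set X) := by
      intro s hs
      have hsD : D.map (MulAut.conj s).toMonoidHom = D := by
        rw [hDdef, Subgroup.map_inf _ _ _ (MulAut.conj s).injective,
          mem_normalizer_iff_map_conj.1 (le_normalizer hs), mem_normalizer_iff_map_conj.1 (hPK hs)]
      rw [mem_normalizer_iff_map_conj]
      apply Subgroup.eq_of_le_of_card_ge _ (by rw [card_map_conj])
      rintro _ ⟨c, hc, rfl⟩
      obtain ⟨hc1, hc2⟩ := mem_inf.1 hc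
      refine mem_inf.2 ⟨?_, conj_mem_of_mem_normalizer (hPK hs) hc2⟩
      rw [← hsD]
      rw [mem_centralizer_map_conj]
      show s⁻¹ * (s * c * s⁻¹) * s ∈ _
      have : s⁻¹ * (s * c * s⁻¹) * s = c := by group
      rw [this]; exact hc1
    have hmem : ∀ x, x ∈ (P : Subgroup X) ⊔ C ↔ ∃ a ∈ (P : Subgroup X), ∃ b ∈ C, x = a * b :=
      fun x => mem_sup_of_le_normalizer hPC
    obtain ⟨r, hr, hrn⟩ := exists_conj_normalizer P (R := (P : Subgroup X) ⊔ C) le_sup_left (g := n) (by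
      intro r hr
      obtain ⟨s, hs, c, hc, rfl⟩ := (hmem r).1 hr
      obtain ⟨hc1, hc2⟩ := mem_inf.1 hc
      refine (hmem _).2 ⟨s, hs, s⁻¹ * (n * s * n⁻¹) * (n * c * n⁻¹), mem_inf.2 ⟨?_, ?_⟩, by group⟩
      · have hcn : ∀ y ∈ centralizer (D : Set X), n * y * n⁻¹ ∈ centralizer (D : Set X) := by
          intro y hy
          rw [← mem_normalizer_iff_map_conj.1 hnD, mem_centralizer_map_conj]
          simpa [mul_assoc] using hy
        have hPD : ∀ s ∈ (P : Subgroup X), s ∈ centralizer (D : Set X) := by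
          intro s hs
          rw [mem_centralizer_iff]
          intro x hx
          exact hZ x hx s hs
        exact mul_mem (mul_mem (inv_mem (hPD s hs)) (hcn s (hPD s hs))) (hcn c hc1)
      · refine mul_mem ?_ (mul_mem (mul_mem hnK hc2) (inv_mem hnK))
        have h1 := conj_mem_of_mem_normalizer (inv_mem (hPK hs)) hnK
        have h2 := mul_mem h1 (inv_mem hnK)
        convert h2 using 1
        group)
    obtain ⟨s, hs, c, hc, rfl⟩ := (hmem r).1 hr
    obtain ⟨hc1, hc2⟩ := mem_inf.1 hc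
    have hm : c * n ∈ normalizer ((P : Subgroup X) : Set X) := by
      have := mul_mem (inv_mem (le_normalizer hs)) hrn
      simpa [mul_assoc] using this
    set m := c * n with hmdef
    have hmK : m ∈ K := mul_mem hc2 hnK
    -- `m s m⁻¹ s⁻¹ ∈ D` for `s ∈ P`
    have hf : ∀ s ∈ (P : Subgroup X), m * s * m⁻¹ * s⁻¹ ∈ D := by
      intro s hs
      refine mem_inf.2 ⟨mul_mem (conj_mem_of_mem_normalizer hm hs) (inv_mem hs), ?_⟩
      have := mul_mem hmK (conj_mem_of_mem_normalizer (hPK hs) (inv_mem hmK))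
      convert this using 1
      group
    have hder : ⁅(P : Subgroup X), (P : Subgroup X)⁆ ≤ centralizer {m} := by
      rw [Subgroup.commutator_le]
      intro s hs t ht
      rw [mem_centralizer_singleton_iff, commutatorElement_def]
      have hfs := hf s hs
      have hft := hf t ht
      set u := m * s * m⁻¹ * s⁻¹ with hu
      set v := m * t * m⁻¹ * t⁻¹ with hv
      have es : m * s * m⁻¹ = u * s := by rw [hu]; group
      have et : m * t * m⁻¹ = v * t := by rw [hv]; group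
      have hu1 := fun {w : X} (hw : w ∈ (P : Subgroup X)) => hZ u hfs w hw
      have hv1 := fun {w : X} (hw : w ∈ (P : Subgroup X)) => hZ v hft w hw
      have hvS := (mem_inf.1 hft).1
      have huS := (mem_inf.1 hfs).1
      have e1 : m * (s * t * s⁻¹ * t⁻¹) * m⁻¹ = s * t * s⁻¹ * t⁻¹ := by
        calc m * (s * t * s⁻¹ * t⁻¹) * m⁻¹
            = (m * s * m⁻¹) * (m * t * m⁻¹) * (m * s * m⁻¹)⁻¹ * (m * t * m⁻¹)⁻¹ := by group
          _ = u * (s * v) * t * s⁻¹ * u⁻¹ * t⁻¹ * v⁻¹ := by rw [es, et]; group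
          _ = u * (v * (s * t * s⁻¹)) * u⁻¹ * t⁻¹ * v⁻¹ := by rw [← hv1 hs]; group
          _ = (v * (s * t * s⁻¹)) * u * u⁻¹ * t⁻¹ * v⁻¹ := by
              rw [hu1 (mul_mem hvS (mul_mem (mul_mem hs ht) (inv_mem hs)))]
          _ = v * (s * t * s⁻¹ * t⁻¹) * v⁻¹ := by group
          _ = s * t * s⁻¹ * t⁻¹ := by
              rw [hv1 (mul_mem (mul_mem (mul_mem hs ht) (inv_mem hs)) (inv_mem ht)), mul_inv_cancel_right]
      calc s * t * s⁻¹ * t⁻¹ * m = (m * (s * t * s⁻¹ * t⁻¹) * m⁻¹) * m := by rw [e1]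
        _ = m * (s * t * s⁻¹ * t⁻¹) := by group
    intro x hx
    have hmx : x * m = m * x := mem_centralizer_singleton_iff.1 (hder (hD hx))
    have hcx : x * c = c * x := mem_centralizer_iff.1 hc1 x hx
    have e : n = c⁻¹ * m := by rw [hmdef]; group
    rw [e]
    calc c⁻¹ * m * x = c⁻¹ * (x * m) := by rw [hmx]; group
      _ = c⁻¹ * (x * c) * c⁻¹ * m := by group
      _ = c⁻¹ * (c * x) * c⁻¹ * m := by rw [hcx]
      _ = x * (c⁻¹ * m) := by group
  apply h.not_le_centralizer P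
  refine le_trans (h.focal P (M := ⊥) ?_) bot_le
  intro k hk g hg hgk
  obtain ⟨hkP, hkK⟩ := mem_inf.1 hk
  have h1 : (⟨k, hkK⟩ : K) ∈ (R : Subgroup K) := by rw [hR, mem_subgroupOf]; exact hkP
  have h2 : (⟨g, hg⟩⁻¹ : K)⁻¹ * ⟨k, hkK⟩ * (⟨g, hg⟩⁻¹ : K) ∈ (R : Subgroup K) := by
    rw [hR, mem_subgroupOf, inv_inv]; exact hgk
  obtain ⟨n, hn, e⟩ := R.conj_eq_normalizer_conj_of_mem _ _ h1 h2
  rw [inv_inv] at e
  have e' : g * k * g⁻¹ = (n : X)⁻¹ * k * n := congrArg Subtype.val e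
  have hnD : (n : X) ∈ normalizer (D : Set X) := by
    rw [← hRD]
    exact coe_mem_normalizer_map.2 hn
  have h3 := key n n.2 hnD k hk
  rw [mem_bot, e']
  calc k⁻¹ * ((n : X)⁻¹ * k * n) = k⁻¹ * (n : X)⁻¹ * (k * n) := by group
    _ = 1 := by rw [← h3]; group

/-! ### A4 -/

omit [Finite X] in
theorem le_or_inf_le {K M : Subgroup X} (hK : Cfsg.IsQuasisimple K) (hM : K ≤ normalizer (M : Set X)) :
    K ≤ M ∨ M ⊓ K ≤ centralizer (K : Set X) := by
  have h1 : (M.subgroupOf K).Normal := normal_subgroupOf_of_le_normalizer hM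
  rcases quasisimple_normal hK _ h1 with h | h
  · exact Or.inl (subgroupOf_eq_top.mp h)
  · right
    intro x hx
    obtain ⟨hxM, hxK⟩ := mem_inf.1 hx
    exact mem_center_coe.1 (h (show (⟨x, hxK⟩ : K) ∈ M.subgroupOf K from hxM))

/-- A4 for a normal quasisimple subgroup whose centre is a 2-group -/
theorem comm_of_normal (h1171 : H1171.{u}) {K : Subgroup X} [hKn : K.Normal] (hK : Cfsg.IsQuasisimple K)
    (hZ : IsPGroup 2 (K ⊓ centralizer (K : Set X) : Subgroup X)) (T : Sylow 2 X)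
    (hTK : ¬ (T : Subgroup X) ⊓ K ≤ centralizer (K : Set X)) {A : Subgroup X}
    (hA : Cfsg.IsStronglyClosed A (T : Subgroup X)) (hAK : A ⊓ K ≤ centralizer (K : Set X)) :
    ∀ a ∈ A, ∀ k ∈ K, a * k = k * a := by
  set C : Subgroup X := K ⊓ centralizer (K : Set X) with hC
  have hCn : C.Normal := inferInstance
  have hCT : C ≤ (T : Subgroup X) := hZ.le_sylow_of_normal T
  set f := QuotientGroup.mk' C with hf
  have hfs : Function.Surjective f := QuotientGroup.mk'_surjective C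
  have hfe : ∀ {x y : X}, f x = f y → x⁻¹ * y ∈ C := fun h => QuotientGroup.eq.1 h
  have hf1 : ∀ {x : X}, f x = 1 ↔ x ∈ C := fun {x} => QuotientGroup.eq_one_iff x
  have hTbar : ∀ x, f x ∈ (T.mapSurjective hfs : Subgroup (X ⧸ C)) ↔ x ∈ (T : Subgroup X) := by
    intro x
    rw [Sylow.coe_mapSurjective]
    constructor
    · rintro ⟨y, hy, e⟩
      have := mul_mem hy (hCT (hfe e))
      rwa [mul_inv_cancel_left] at this
    · intro hx
      exact ⟨x, hx, rfl⟩
  have hAc : Cfsg.IsStronglyClosed (A.map f) (T.mapSurjective hfs : Subgroup (X ⧸ C)) := by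
    refine ⟨?_, ?_⟩
    · rintro _ ⟨x, hx, rfl⟩
      exact (hTbar x).2 (hA.1 hx)
    · rintro _ ⟨x, hx, rfl⟩ g hg
      obtain ⟨g, rfl⟩ := hfs g
      rw [← map_inv, ← map_mul, ← map_mul] at hg ⊢
      exact ⟨_, hA.2 x hx g ((hTbar _).1 hg), rfl⟩
  have hDc : Cfsg.IsStronglyClosed (((T : Subgroup X) ⊓ K).map f) (T.mapSurjective hfs : Subgroup (X ⧸ C)) := by
    refine ⟨?_, ?_⟩
    · rintro _ ⟨x, hx, rfl⟩
      exact (hTbar x).2 (mem_inf.1 hx).1
    · rintro _ ⟨x, hx, rfl⟩ g hg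
      obtain ⟨g, rfl⟩ := hfs g
      rw [← map_inv, ← map_mul, ← map_mul] at hg ⊢
      exact ⟨_, mem_inf.2 ⟨(hTbar _).1 hg, hKn.conj_mem x (mem_inf.1 hx).2 g⟩, rfl⟩
  have hinf : A.map f ⊓ ((T : Subgroup X) ⊓ K).map f = ⊥ := by
    rw [Subgroup.eq_bot_iff_forall]
    rintro _ ⟨⟨a, ha, rfl⟩, ⟨d, hd, e⟩⟩
    have h1 : d⁻¹ * a ∈ C := hfe e
    have h2 : a ∈ K := by
      have := mul_mem (mem_inf.1 hd).2 (mem_inf.1 h1).1
      rwa [mul_inv_cancel_left] at this
    exact hf1.2 (mem_inf.2 ⟨h2, hAK (mem_inf.2 ⟨ha, h2⟩)⟩)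
  have hcom := h1171 (X ⧸ C) (T.mapSurjective hfs) _ _ hinf hAc hDc
  set O := Cfsg.oddCore (X ⧸ C) with hO
  have hOn : O.Normal := Cfsg.Agent.Lib.Cores.pPrimeCore_normal 2
  have hOodd : (Nat.card O).Coprime 2 := Cfsg.Agent.Lib.Cores.pPrimeCore_coprime 2
  have hKM : K ≤ (Subgroup.normalClosure (((T : Subgroup X) ⊓ K).map f : Set (X ⧸ C))).comap f := by
    have hn : ((Subgroup.normalClosure (((T : Subgroup X) ⊓ K).map f : Set (X ⧸ C))).comap f).Normal :=
      inferInstance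
    rcases le_or_inf_le hK (M := (Subgroup.normalClosure (((T : Subgroup X) ⊓ K).map f : Set (X ⧸ C))).comap f)
      (by rw [Subgroup.normalizer_eq_top_iff.2 hn]; exact le_top) with h1 | h1
    · exact h1
    · exfalso
      apply hTK
      intro x hx
      apply h1
      refine mem_inf.2 ⟨?_, (mem_inf.1 hx).2⟩
      exact Subgroup.subset_normalClosure ⟨x, hx, rfl⟩
  have hWle : (O.comap f) ⊓ K ≤ centralizer (K : Set X) := by
    have hn : (O.comap f).Normal := inferInstance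
    rcases le_or_inf_le hK (M := O.comap f)
      (by rw [Subgroup.normalizer_eq_top_iff.2 hn]; exact le_top) with h1 | h1
    · exfalso
      apply hTK
      intro x hx
      obtain ⟨hxT, hxK⟩ := mem_inf.1 hx
      have h2 : f x ∈ O := h1 hxK
      have h3 : orderOf (f x) ∣ Nat.card O := by
        have := orderOf_dvd_natCard (⟨f x, h2⟩ : O)
        rwa [← Subgroup.orderOf_coe] at this
      obtain ⟨k, hk⟩ := T.isPGroup' ⟨x, hxT⟩
      have hk' : x ^ 2 ^ k = 1 := congrArg Subtype.val hk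
      have h4 : orderOf (f x) ∣ 2 ^ k := orderOf_dvd_of_pow_eq_one (by rw [← map_pow, hk', map_one])
      have h5 : orderOf (f x) ∣ Nat.gcd (Nat.card O) (2 ^ k) := Nat.dvd_gcd h3 h4
      rw [Nat.Coprime.pow_right k hOodd] at h5
      exact (mem_inf.1 (hf1.1 (orderOf_eq_one_iff.1 (Nat.dvd_one.1 h5)))).2
    · exact h1
  have hAK2 : ⁅A, K⁆ ≤ centralizer (K : Set X) := by
    rw [Subgroup.commutator_le]
    intro a ha k hk
    apply hWle
    refine mem_inf.2 ⟨?_, ?_⟩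
    · show f ⁅a, k⁆ ∈ O
      rw [map_commutatorElement]
      exact hcom (commutator_mem_commutator (Subgroup.subset_normalClosure ⟨a, ha, rfl⟩) (hKM hk))
    · rw [commutatorElement_def]
      exact mul_mem (hKn.conj_mem k hk a) (inv_mem hk)
  have h3 : ⁅⁅A, K⁆, K⁆ = ⊥ := commutator_eq_bot_iff_le_centralizer.2 hAK2
  have h4 := commutator_eq_bot_of_commutator_commutator_eq_bot hK.1 h3
  intro a ha k hk
  exact commutatorElement_eq_one_iff_mul_comm.1 (mem_bot.1 (h4 ▸ commutator_mem_commutator ha hk))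

theorem isPGroup_center (h : Ctx K) : IsPGroup 2 (K ⊓ centralizer (K : Set X) : Subgroup X) := by
  rintro ⟨c, hc⟩
  obtain ⟨hcK, hcC⟩ := mem_inf.1 hc
  obtain ⟨k, hk⟩ := h.qs.center_pow (mem_center_coe.2 hcC : (⟨c, hcK⟩ : K) ∈ center K)
  have hk' : c ^ 2 ^ k = 1 := congrArg Subtype.val hk
  exact ⟨k, Subtype.ext hk'⟩

/-- **A4**: `A` strongly closed in `P`, normalising `K`, `A ∩ K ≤ Z(K)` ⟹ `[A, K] = 1` -/
theorem comm_of_inf_le (h1171 : H1171.{u}) (h : Ctx K) (P : Sylow 2 X) {A : Subgroup X}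
    (hA : Cfsg.IsStronglyClosed A (P : Subgroup X)) (hAN : A ≤ normalizer (K : Set X))
    (hAK : A ⊓ K ≤ centralizer (K : Set X)) : ∀ a ∈ A, ∀ k ∈ K, a * k = k * a := by
  obtain ⟨R, hR⟩ := h.exists_sylow P
  set Y : Subgroup X := A ⊔ K with hY
  have hmem : ∀ x, x ∈ Y ↔ ∃ a ∈ A, ∃ b ∈ K, x = a * b := fun x => mem_sup_of_le_normalizer hAN
  have hAY : A ≤ Y := le_sup_left
  have hKY : K ≤ Y := le_sup_right
  set D := (P : Subgroup X) ⊓ K with hD
  have hT0 : IsPGroup 2 ((A ⊔ D).subgroupOf Y) :=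
    (P.isPGroup'.to_le (sup_le hA.1 inf_le_left)).comap_of_injective Y.subtype Y.subtype_injective
  obtain ⟨T, hT⟩ := hT0.exists_le_sylow
  -- `T ∩ K = D`
  have hTK : ∀ x : Y, x ∈ (T : Subgroup Y) → (x : X) ∈ K → (x : X) ∈ (P : Subgroup X) := by
    intro x hx hxK
    have hT' : IsPGroup 2 (((T : Subgroup Y).map Y.subtype).subgroupOf K) :=
      (T.isPGroup'.map Y.subtype).comap_of_injective K.subtype K.subtype_injective
    have hle : (R : Subgroup K) ≤ ((T : Subgroup Y).map Y.subtype).subgroupOf K := by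
      intro y hy
      rw [hR, mem_subgroupOf] at hy
      rw [mem_subgroupOf]
      have hyY : (y : X) ∈ Y := hKY y.2
      refine ⟨⟨y, hyY⟩, hT ?_, rfl⟩
      rw [mem_subgroupOf]
      exact mem_sup_right (mem_inf.2 ⟨hy, y.2⟩)
    have heq := R.is_maximal' hT' hle
    have h1 : (⟨x, hxK⟩ : K) ∈ ((T : Subgroup Y).map Y.subtype).subgroupOf K := by
      rw [mem_subgroupOf]
      exact ⟨x, hx, rfl⟩
    rw [heq] at h1
    have h2 : (⟨x, hxK⟩ : K) ∈ (P : Subgroup X).subgroupOf K := hR ▸ h1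
    rwa [mem_subgroupOf] at h2
  have hTP : ∀ x : Y, x ∈ (T : Subgroup Y) → (x : X) ∈ (P : Subgroup X) := by
    intro x hx
    obtain ⟨a, ha, k, hk, e⟩ := (hmem x).1 x.2
    have haT : (⟨a, hAY ha⟩ : Y) ∈ (T : Subgroup Y) := hT (by rw [mem_subgroupOf]; exact mem_sup_left ha)
    have hkT : (⟨k, hKY hk⟩ : Y) ∈ (T : Subgroup Y) := by
      have h1 : (⟨k, hKY hk⟩ : Y) = (⟨a, hAY ha⟩ : Y)⁻¹ * x := by
        apply Subtype.ext
        show k = a⁻¹ * (x : X)
        rw [e]; group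
      rw [h1]
      exact mul_mem (inv_mem haT) hx
    rw [e]
    exact mul_mem (hA.1 ha) (hTK _ hkT hk)
  have hKn : (K.subgroupOf Y).Normal := normal_subgroupOf_of_le_normalizer (sup_le hAN le_normalizer)
  have hq : Cfsg.IsQuasisimple (K.subgroupOf Y) :=
    isQuasisimple_of_mulEquiv (Subgroup.subgroupOfEquivOfLe hKY).symm h.comp.2
  have hcen : ∀ x : Y, x ∈ centralizer ((K.subgroupOf Y : Subgroup Y) : Set Y) ↔ (x : X) ∈ centralizer (K : Set X) := by
    intro x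
    rw [mem_centralizer_iff, mem_centralizer_iff]
    constructor
    · intro h1 y hy
      exact congrArg Subtype.val (h1 ⟨y, hKY hy⟩ (show (⟨y, hKY hy⟩ : Y) ∈ K.subgroupOf Y from hy))
    · intro h1 y hy
      exact Subtype.ext (h1 y hy)
  have hres := comm_of_normal h1171 hq (by
      rintro ⟨c, hc⟩
      obtain ⟨hcK, hcC⟩ := mem_inf.1 hc
      obtain ⟨k, hk⟩ := h.isPGroup_center ⟨(c : X), mem_inf.2 ⟨hcK, (hcen c).1 hcC⟩⟩
      have hk' : (c : X) ^ 2 ^ k = 1 := congrArg Subtype.val hk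
      exact ⟨k, Subtype.ext (Subtype.ext hk')⟩) T (by
      intro h0
      apply h.not_le_centralizer P
      intro x hx
      obtain ⟨hxP, hxK⟩ := mem_inf.1 hx
      apply (hcen ⟨x, hKY hxK⟩).1
      apply h0
      exact mem_inf.2 ⟨hT (by rw [mem_subgroupOf]; exact mem_sup_right hx), hxK⟩)
    (A := A.subgroupOf Y) ⟨(Subgroup.comap_mono le_sup_left).trans hT, by
      intro x hx g hg
      rw [mem_subgroupOf] at hx ⊢
      exact hA.2 x hx g (hTP _ hg)⟩ (by
      intro x hx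
      obtain ⟨hxA, hxK⟩ := mem_inf.1 hx
      exact (hcen x).2 (hAK (mem_inf.2 ⟨hxA, hxK⟩)))
  intro a ha k hk
  exact congrArg Subtype.val (hres ⟨a, hAY ha⟩ ha ⟨k, hKY hk⟩ hk)

end Ctx

end Cfsg.Agent.HexGlob.CompTools
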