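import Cfsg.Agent.HexGlob.CenZOut
import Cfsg.Agent.HexGlob.CenZThree
import Cfsg.Agent.HexGlob.CenZFour
import Cfsg.Agent.HexGlob.CompTools

/-!
# Piece G: `OutZ`

`outZ`: from `Out1`, `Out2` and the linear algebra input `HOdd`.
-/

set_option autoImplicit false

namespace Cfsg.Agent.HexGlob.CenZ

open Cfsg.Agent.HexRec Cfsg.Agent.HexEss Cfsg.Agent.HexGlob Subgroup Cfsg.Agent.Lib.GoldschmidtFusion
open Cfsg.Agent.TypeL3
open scoped commutatorElement

universe u v

/-- the tools about components -/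
theorem tools (h1169 : H1169.{u}) (h1171 : H1171.{u}) (hbend : MinPlus.HBend.{u}) : Tools.{u} where
  a1k := by
    intro X _ _ hcore P K hK A hA hAc hA2 hne t ht ht2
    obtain ⟨h1, h2⟩ := CompTools.Ctx.min_plus h1169 h1171 hbend ⟨hcore, hK⟩ P
      (inf_le_left.trans hA.1) (fun x hx g _ hg => hA.2 x (mem_inf.1 hx).1 g hg)
      (fun x hx y hy => by
        rw [hAc x (mem_inf.1 hx).1 y (mem_inf.1 hy).1]
        have : y * x * x⁻¹ * y⁻¹ = 1 := by group
        rw [this]; exact one_mem _)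
      (fun x hx => by rw [hA2 x (mem_inf.1 hx).1]; exact one_mem _) hne ht ht2
    refine ⟨h1, fun p hp => ?_⟩
    have h3 := inv_mem (h2 p hp)
    convert h3 using 1
    unfold cm
    group
  a2 := by
    intro X _ _ hcore P K hK hPK h1 h2
    exact CompTools.Ctx.false_of_le_derived ⟨hcore, hK⟩ P hPK
      (fun x hx s hs => (mem_centralizer_iff.1 (h1 hx) s hs).symm) h2
  a3 := by
    intro X _ _ hcore P K hK A hA a ha hc
    by_contra hne
    refine CompTools.Ctx.false_of_moved ⟨hcore, hK⟩ P hA ha hne ?_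
    intro k hk l hl
    have h1 := hc k⁻¹ (inv_mem hk) _ (SignalizersComponents.Components.isComponent_conj a hK)
    have h2 := mem_centralizer_iff.1 h1 l hl
    have e : k⁻¹ * a * k⁻¹⁻¹ * a⁻¹ = k⁻¹ * (a * k * a⁻¹) := by group
    rw [e] at h2
    exact h2.symm
  a4 := by
    intro X _ _ hcore P K hK A hA hAN hAK a ha
    rw [mem_centralizer_iff]
    intro k hk
    exact (CompTools.Ctx.comm_of_inf_le h1171 ⟨hcore, hK⟩ P hA hAN hAK a ha k hk).symm

variable {F K : Type v} [Field F] [Field K] [Algebra F K] {C : Cubic F K}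

/-- the linear algebra input for all the groups `C_G(z) / O(C_G(z))` -/
def AllOdd (C : Cubic F K) : Prop :=
  ∀ (X : Type u) [Group X] [Finite X] (P : Sylow 2 X) (co : Coord C (P : Subgroup X)) (L : Subgroup X),
    CZ P co L → CenZThree.HOdd P co L

theorem goal (h1169 : H1169.{u}) (h1171 : H1171.{u}) (hbend : MinPlus.HBend.{u}) (hM : Mild.{u} C)
    (hodd : AllOdd.{u} C) : Goal.{u} C := by
  intro X _ _ P co L h
  have T := tools h1169 h1171 hbend
  have hnc : ¬ Cfsg.HasComponent X := by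
    rintro ⟨E, hE⟩
    have hE : Cfsg.IsComponent E := hE
    have hZE := h.Z_comm T hM hE
    refine CenZThree.false_of_component h.P_le h.L_le h.f3 h.f3' (hodd X P co L h) hE (h.comp_normal T hM hE)
      hZE (h.not_Da_inf_le T hM hE) ?_
    intro t ht p hp
    obtain ⟨htD, htE⟩ := mem_inf.1 ht
    have h1 := CompTools.Ctx.min_plus h1169 h1171 hbend ⟨h.core, hE⟩ P (A := Da co)
      (inf_le_left.trans h.closedDa.1) (fun x hx g _ hg => h.closedDa.2 x (mem_inf.1 hx).1 g hg)
      (fun x hx y hy => hZE (cm_mem_Z_of_Da (mem_inf.1 hx).1 (mem_inf.1 hy).1))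
      (fun x hx => hZE (Cfsg.Agent.HexEss.Step2.sq_mem_Z (mem_inf.1 hx).1)) (h.not_Da_inf_le T hM hE)
      (t := t) (mem_inf.2 ⟨htD.1, htE⟩) (hZE (Cfsg.Agent.HexEss.Step2.sq_mem_Z htD))
    have h2 := inv_mem (h1.2 p hp)
    convert h2 using 1
    unfold cm
    group
  exact ⟨CenZFour.normal_Da h.core h.closedZ h.L_le h.f3' hnc, hnc⟩

/-- **Piece G** -/
theorem outZ {G : Type u} [Group G] [Finite G] {S : Sylow 2 G} {co : Coord C (S : Subgroup G)}
    (h1169 : H1169.{u}) (h1171 : H1171.{u}) (hbend : MinPlus.HBend.{u}) (hD : Dat C)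
    (hodd : AllOdd.{u} C) (h1 : Out1 S co) (h2 : Out2 S co) : OutZ S co :=
  outZ_of_goal hD.fus (goal h1169 h1171 hbend hD.mild hodd) h1 h2.ti h2.inv

end Cfsg.Agent.HexGlob.CenZ
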