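import Mathlib
import Cfsg.Agent.HexGlob.Spec
import Cfsg.Agent.ClassTwo.Sp4Defs

/-!
# The global part: the remaining interfaces and the output structure `Lev`

`OutInv` (piece F), `OutCen` (piece H), `OutNS` (piece C), `OutP1`, `OutP2` (piece I), and `Lev`, the output of the
global analysis = input of the recognition.
-/

set_option autoImplicit false

namespace Cfsg.Agent.HexGlob

open Cfsg.Agent.HexRec Cfsg.Agent.HexEss Subgroup Matrix
open Cfsg.Agent.ClassTwo.Sp4Defs

universe u v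

variable {F K : Type v} [Field F] [Field K] [Algebra F K] {C : Cubic F K}
variable {G : Type u} [Group G] [Finite G] (S : Sylow 2 G) (co : Coord C (S : Subgroup G))

/-- the classification of involutions (piece F = G4) -/
structure OutInv : Prop where
  /-- every involution of `S` is conjugate under `⟨N(Da), N(Db)⟩` to an element of `Z` or to some `x3(k)` -/
  conj : ∀ t ∈ (S : Subgroup G), t * t = 1 → t ≠ 1 →
    ∃ m ∈ normalizer ((Da co : Subgroup G) : Set G) ⊔ normalizer ((Db co : Subgroup G) : Set G),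
      m * t * m⁻¹ ∈ Z co ∨ ∃ k : K, k ≠ 0 ∧ m * t * m⁻¹ = ((co.x3 k : (S : Subgroup G)) : G)
  /-- `x3(k)` is not conjugate to an element of `Z` -/
  ne : ∀ z ∈ Z co, z ≠ 1 → ∀ k : K, k ≠ 0 → ∀ g : G, g * z * g⁻¹ ≠ ((co.x3 k : (S : Subgroup G)) : G)

/-- centralizers (piece H = G7) -/
structure OutCen : Prop where
  cz : ∀ z ∈ Z co, z ≠ 1 → centralizer ({z} : Set G) ≤ normalizer ((Da co : Subgroup G) : Set G)
  cu : ∀ k : K, k ≠ 0 → centralizer ({((co.x3 k : (S : Subgroup G)) : G)} : Set G) ≤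
    normalizer ((Db co : Subgroup G) : Set G)
  cDa : centralizer ((Da co : Subgroup G) : Set G) ≤ Da co
  cDb : centralizer ((Db co : Subgroup G) : Set G) ≤ Db co

/-- the normalizer of `S` (piece C = G1) -/
structure OutNS : Prop where
  nDa : normalizer ((S : Subgroup G) : Set G) ≤ normalizer ((Da co : Subgroup G) : Set G)
  nDb : normalizer ((S : Subgroup G) : Set G) ≤ normalizer ((Db co : Subgroup G) : Set G)
  nZ : normalizer ((S : Subgroup G) : Set G) ≤ normalizer ((Z co : Subgroup G) : Set G)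
  nE2 : normalizer ((S : Subgroup G) : Set G) ≤ normalizer ((E2 co : Subgroup G) : Set G)
  nRR : normalizer ((S : Subgroup G) : Set G) ≤ normalizer ((RR co : Subgroup G) : Set G)

/-- `L₁ / Da ≅ SL₂(K)` (piece I1) -/
def OutP1 : Prop := ∃ p1 : L1 S co →* SpecialLinearGroup (Fin 2) K, Function.Surjective p1 ∧
  (∀ g : L1 S co, p1 g = 1 ↔ (g : G) ∈ Da co) ∧
  ∀ g : L1 S co, (g : G) ∈ (S : Subgroup G) → ∃ t : K, p1 g = u t

/-- `L₂ / Db ≅ SL₂(F)` (piece I2) -/
def OutP2 : Prop := ∃ p2 : L2 S co →* SpecialLinearGroup (Fin 2) F, Function.Surjective p2 ∧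
  (∀ g : L2 S co, p2 g = 1 ↔ (g : G) ∈ Db co) ∧
  ∀ g : L2 S co, (g : G) ∈ (S : Subgroup G) → p2 g = u (cx co g).a6

/-- the output of the global analysis -/
structure Lev where
  p1 : L1 S co →* SpecialLinearGroup (Fin 2) K
  p2 : L2 S co →* SpecialLinearGroup (Fin 2) F
  p1_surj : Function.Surjective p1
  p2_surj : Function.Surjective p2
  p1_ker : ∀ g : L1 S co, p1 g = 1 ↔ (g : G) ∈ Da co
  p2_ker : ∀ g : L2 S co, p2 g = 1 ↔ (g : G) ∈ Db co
  p1_S : ∀ g : L1 S co, (g : G) ∈ (S : Subgroup G) → ∃ t : K, p1 g = u t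
  p2_S : ∀ g : L2 S co, (g : G) ∈ (S : Subgroup G) → p2 g = u (cx co g).a6
  out1 : Out1 S co
  out2 : Out2 S co
  inv : OutInv S co
  cen : OutCen S co
  ns : OutNS S co
  nS1 : normalizer ((Da co : Subgroup G) : Set G) ≤ normalizer ((L1 S co : Subgroup G) : Set G)
  nS2 : normalizer ((Db co : Subgroup G) : Set G) ≤ normalizer ((L2 S co : Subgroup G) : Set G)
  /-- Frattini -/
  frat1 : ∀ n ∈ normalizer ((Da co : Subgroup G) : Set G), ∃ l ∈ L1 S co,
    ∃ s ∈ normalizer ((S : Subgroup G) : Set G), n = l * s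
  frat2 : ∀ n ∈ normalizer ((Db co : Subgroup G) : Set G), ∃ l ∈ L2 S co,
    ∃ s ∈ normalizer ((S : Subgroup G) : Set G), n = l * s
  gen : L1 S co ⊔ L2 S co = ⊤

end Cfsg.Agent.HexGlob
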