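import Mathlib
import Cfsg.Agent.HexGlob.LevSpec

/-!
# Interface F → H

`OutFus`: two facts on the fusion of involutions (piece F), used in the analysis of `C_G(x3(k))` (piece H).
-/

set_option autoImplicit false

namespace Cfsg.Agent.HexGlob.CenUSpec

open Cfsg.Agent.HexRec Cfsg.Agent.HexEss Subgroup

universe u v

variable {F K : Type v} [Field F] [Field K] [Algebra F K] {C : Cubic F K}
variable {G : Type u} [Group G] [Finite G] (S : Sylow 2 G) (co : Coord C (S : Subgroup G))

/-- fusion of involutions (piece F): `z^G ∩ S` is the union of the `V^n`, `n ∈ N(Da)`, and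
`C_S(x3(k))` is a Sylow 2-subgroup of `C_G(x3(k))` -/
structure OutFus : Prop where
  fus : ∀ z ∈ Z co, z ≠ 1 → ∀ g : G, g * z * g⁻¹ ∈ (S : Subgroup G) →
    ∃ n ∈ normalizer ((Da co : Subgroup G) : Set G), ∃ v ∈ E2 co, g * z * g⁻¹ = n * v * n⁻¹
  syl : ∀ k : K, k ≠ 0 → ∃ P : Sylow 2 (centralizer ({((co.x3 k : (S : Subgroup G)) : G)} : Set G)),
    (P : Subgroup (centralizer ({((co.x3 k : (S : Subgroup G)) : G)} : Set G))) =
      (S : Subgroup G).subgroupOf (centralizer ({((co.x3 k : (S : Subgroup G)) : G)} : Set G))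

end Cfsg.Agent.HexGlob.CenUSpec
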