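import Cfsg.Agent.HexGlob.Spec
import Cfsg.Agent.HexEss.Step4

/-!
# Characteristic subgroups of a hexagonal 2-group

`Z = Z(P)`, `E2 = Z₂(P) = Z(Db)`, `RR = P'`, `Da = {x ∈ P : [x, RR] ≤ Z}`, `Db = C_P(E2)`, and the
resulting inclusions between normalizers.
-/

set_option autoImplicit false

namespace Cfsg.Agent.HexGlob.Facts

open Cfsg.Agent.HexRec Cfsg.Agent.HexEss Subgroup Cfsg.Agent.Lib.GoldschmidtFusion
open scoped commutatorElement

universe u v

variable {F K : Type v} [Field F] [Field K] [Algebra F K] {C : Cubic F K}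

theorem finite_F (hD : Dat C) : Finite F := Nat.finite_of_card_ne_zero (by have := hD.q4; omega)

theorem exists_scalar (hD : Dat C) : ∃ l : F, l ≠ 0 ∧ l ≠ 1 := by
  have := finite_F hD
  by_contra hcon
  push Not at hcon
  have h1 : Nat.card F ≤ 2 := by
    rw [← Set.ncard_univ]
    have h2 : (Set.univ : Set F) ⊆ {0, 1} := by
      intro x _
      by_cases hx : x = 0
      · left; exact hx
      · right; exact hcon x hx
    exact (Set.ncard_le_ncard h2 (Set.toFinite _)).trans (Set.ncard_insert_le _ _ |>.trans (by simp))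
  have := hD.q4
  omega

theorem exists_smul_sh (C : Cubic F K) (k : K) : ∃ (f : F) (a : K), k = f • C.sh a := by
  by_cases hk : k = 0
  · exact ⟨0, 0, by rw [hk, zero_smul]⟩
  · refine ⟨(C.N k)⁻¹, C.sh k, ?_⟩
    rw [C.sh_sh k hk, ← Algebra.smul_def, smul_smul, inv_mul_cancel₀ (C.N_ne_zero hk), one_smul]

theorem eq_zero_of_T_sh {s : K} (h : ∀ y, C.T (C.sh y) s = 0) : s = 0 := by
  apply C.T_nondeg
  intro b
  obtain ⟨f, a, rfl⟩ := exists_smul_sh C b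
  rw [C.T_smul_right, C.T_comm, h, mul_zero]

section

variable {G : Type u} [Group G] {P : Subgroup G} {co : Coord C P}

theorem cx_inv_a1 {g : G} (hg : g ∈ P) : (cx co g⁻¹).a1 = (cx co g).a1 := by
  have h1 := a1_mul (co := co) hg (inv_mem hg)
  rw [mul_inv_cancel, cx_one] at h1
  exact (C.eq_of_add_eq_zeroK h1.symm).symm

theorem cx_inv_a6 {g : G} (hg : g ∈ P) : (cx co g⁻¹).a6 = (cx co g).a6 := by
  have h1 := a6_mul (co := co) hg (inv_mem hg)
  rw [mul_inv_cancel, cx_one] at h1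
  exact (C.eq_of_add_eq_zero h1.symm).symm

theorem cm_mem_swap {B : Subgroup G} {g h : G} : cm g h ∈ B ↔ cm h g ∈ B :=
  ⟨cm_inv_swap_mem, cm_inv_swap_mem⟩

theorem cm_one_swap {g h : G} : cm g h = 1 ↔ cm h g = 1 := by
  rw [cm_eq_one, cm_eq_one]; exact eq_comm

variable [Finite G]

/-- `Z = Z(P)` -/
theorem mem_Z_of_center {x : G} (hx : x ∈ P) (h : ∀ y ∈ P, cm y x = 1) : x ∈ Z co := by
  have h0 : x ∈ F0 co := mem_F0_of_cm_eq_one hx (fun y hy => cm_one_swap.1 (h y hy.1))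
  refine ⟨hx, h0.2.1, ?_, ?_, h0.2.2.1, h0.2.2.2⟩
  · obtain ⟨y, hy, hyc⟩ := exists_cx (co := co) ⟨0, 0, 0, 0, 0, 1⟩
    have h1 := a4_cm_F0 (co := co) hy hx h0.2.1 h0.2.2.1 h0.2.2.2
    rw [h y hy, cx_one, hyc, one_mul, C.T_zero_left, add_zero] at h1
    exact h1.symm
  · apply C.T_nondeg
    intro s
    obtain ⟨y, hy, hyc⟩ := exists_cx (co := co) ⟨0, 0, 0, 0, s, 0⟩
    have h1 := a4_cm_F0 (co := co) hy hx h0.2.1 h0.2.2.1 h0.2.2.2
    rw [h y hy, cx_one, hyc, zero_mul, zero_add, C.T_comm] at h1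
    exact h1.symm

/-- `E2 = Z₂(P)` -/
theorem mem_E2_of_Z2 (hD : Dat C) {x : G} (hx : x ∈ P) (h : ∀ y ∈ P, cm y x ∈ Z co) : x ∈ E2 co := by
  have h1 : (cx co x).a1 = 0 := mem_F0_of_comm hx (fun y hy => cm_mem_swap.1 (h y hy.1))
  have h6 : (cx co x).a6 = 0 := by
    obtain ⟨y, hy, hyc⟩ := exists_cx (co := co) ⟨1, 0, 0, 0, 0, 0⟩
    have h2 := a5_cm_Da (co := co) hy hx h1
    rw [(h y hy).2.2.2.2.1, hyc] at h2
    rcases smul_eq_zero.1 h2.symm with h3 | h3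
    · exact h3
    · exact absurd h3 one_ne_zero
  have key : ∀ t : K, C.T t (cx co x).a3 + C.T (C.sh t) (cx co x).a5 = 0 := by
    intro t
    obtain ⟨y, hy, hyc⟩ := exists_cx (co := co) ⟨t, 0, 0, 0, 0, 0⟩
    have h2 := a2_cm_R (co := co) hy hx h1 h6
    rw [(h y hy).2.2.1, hyc] at h2
    exact h2.symm
  have h5 : (cx co x).a5 = 0 := by
    obtain ⟨l, hl0, hl1⟩ := exists_scalar hD
    apply eq_zero_of_T_sh (C := C)
    intro t
    have e1 := key t
    have e2 := key (l • t)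
    rw [C.sh_smul, C.T_smul_left, C.T_smul_left] at e2
    have e3 : l * (l + 1) * C.T (C.sh t) (cx co x).a5 = 0 := by
      have := charPF C
      linear_combination e2 - l * e1 + l * C.T (C.sh t) (cx co x).a5 * C.two_F
    rcases mul_eq_zero.1 e3 with h2 | h2
    · exfalso
      rcases mul_eq_zero.1 h2 with h3 | h3
      · exact hl0 h3
      · exact hl1 (C.eq_of_add_eq_zero h3)
    · exact h2
  refine ⟨hx, h1, ?_, h5, h6⟩
  apply C.T_nondeg
  intro t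
  have e1 := key t
  rw [h5, C.T_zero_right, add_zero] at e1
  rw [C.T_comm]; exact e1

theorem cenMod_Z : cenMod P P (⊥ : Subgroup G) (Step4.le_normalizer_bot P) = Z co := by
  ext x
  rw [mem_cenMod]
  constructor
  · rintro ⟨hx, h⟩
    refine mem_Z_of_center hx (fun y hy => cm_one_swap.1 ?_)
    exact mem_bot.1 (h y hy)
  · intro hx
    exact ⟨hx.1, fun y hy => mem_bot.2 (cm_one_swap.1 (cm_Z hy hx))⟩

theorem P_le_normalizer_Z : P ≤ normalizer ((Z co : Subgroup G) : Set G) := by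
  refine le_normalizer_of fun n hn x hx => ?_
  rw [conj_eq_cm_mul, cm_Z hn hx, one_mul]
  exact hx

theorem cenMod_E2 (hD : Dat C) : cenMod P P (Z co) P_le_normalizer_Z = E2 co := by
  ext x
  rw [mem_cenMod]
  constructor
  · rintro ⟨hx, h⟩
    exact mem_E2_of_Z2 hD hx (fun y hy => cm_mem_swap.1 (h y hy))
  · intro hx
    exact ⟨hx.1, fun y hy => cm_mem_swap.1 (cm_mem_Z hy hx)⟩

theorem cenMod_Db : cenMod P (E2 co) (⊥ : Subgroup G) (Step4.le_normalizer_bot P) = Db co := by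
  ext x
  rw [mem_cenMod]
  constructor
  · rintro ⟨hx, h⟩
    exact ⟨hx, a6_eq_zero_of_comm hx (fun y hy => mem_bot.1 (h y hy))⟩
  · intro hx
    exact ⟨hx.1, fun y hy => mem_bot.2 (cm_Db_E2 hx hy)⟩

theorem cenMod_Da : cenMod P (RR co) (Z co) P_le_normalizer_Z = Da co := by
  ext x
  rw [mem_cenMod]
  constructor
  · rintro ⟨hx, h⟩
    exact ⟨hx, mem_F0_of_comm hx (fun y hy => h y (F0_le_RR hy))⟩
  · intro hx
    exact ⟨hx.1, fun y hy => cm_mem_Z_of_Da hx (RR_le_Da hy)⟩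

/-- `E2 = Z(Db)` -/
theorem cenMod_Db_Db : cenMod (Db co) (Db co) (⊥ : Subgroup G) (Step4.le_normalizer_bot _) = E2 co := by
  ext g
  rw [mem_cenMod]
  constructor
  · rintro ⟨hg, hgc⟩
    have h0 : g ∈ F0 co := mem_F0_of_cm_eq_one hg.1 (fun x hx => by
      have := hgc x (F0_le_Db hx); rwa [mem_bot] at this)
    refine ⟨hg.1, h0.2.1, ?_, h0.2.2.1, h0.2.2.2⟩
    apply C.T_nondeg
    intro s
    obtain ⟨x, hx, hxc⟩ := exists_cx (co := co) ⟨0, 0, 0, 0, s, 0⟩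
    have hx' : x ∈ RR co := ⟨hx, by rw [hxc], by rw [hxc]⟩
    have h1 := hgc x (RR_le_Db hx')
    rw [mem_bot] at h1
    have h2 := a4_cm_Da_Da (co := co) hg.1 hx h0.2.1 hx'.2.1
    rw [h1, cx_one, hxc, h0.2.2.1, h0.2.2.2] at h2
    simpa [C.T_zero_left, C.T_zero_right] using h2.symm
  · intro hg
    refine ⟨E2_le_Db hg, fun d hd => ?_⟩
    rw [mem_bot]
    exact cm_one_swap.1 (cm_Db_E2 hd hg)

/-- `Z = Z(Da)` -/
theorem cenMod_Da_Da : cenMod (Da co) (Da co) (⊥ : Subgroup G) (Step4.le_normalizer_bot _) = Z co := by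
  ext g
  rw [mem_cenMod]
  constructor
  · rintro ⟨hg, hgc⟩
    exact Abel.mem_Z_of_Da hg (fun t ht => cm_one_swap.1 (mem_bot.1 (hgc t ht)))
  · intro hg
    exact ⟨Z_le_Da hg, fun d hd => mem_bot.2 (cm_one_swap.1 (cm_Z hd.1 hg))⟩

/-- `RR = P'` -/
theorem RR_eq (hD : Dat C) : Subgroup.closure {z : G | ∃ g ∈ P, ∃ h ∈ P, cm g h = z} = RR co := by
  set D := Subgroup.closure {z : G | ∃ g ∈ P, ∃ h ∈ P, cm g h = z} with hDdef
  have hcm : ∀ g ∈ P, ∀ h ∈ P, cm g h ∈ D := fun g hg h hh => subset_closure ⟨g, hg, h, hh, rfl⟩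
  apply le_antisymm
  · rw [hDdef, closure_le]
    rintro _ ⟨g, hg, h, hh, rfl⟩
    exact cm_mem_RR hg hh
  -- `Z ≤ D`
  have hZ : Z co ≤ D := by
    intro z hz
    obtain ⟨k, hk⟩ := C.exists_T_eq (one_ne_zero (α := K)) (cx co z).a4
    obtain ⟨x, hx, hxc⟩ := exists_cx (co := co) ⟨0, 0, 0, 0, 1, 0⟩
    obtain ⟨y, hy, hyc⟩ := exists_cx (co := co) ⟨0, 0, k, 0, 0, 0⟩
    have hx' : x ∈ Da co := ⟨hx, by rw [hxc]⟩
    have hy' : y ∈ Da co := ⟨hy, by rw [hyc]⟩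
    have h1 := cm_mem_Z_of_Da hx' hy'
    have : cm x y = z := by
      apply cx_inj (co := co) h1.1 hz.1
      refine Tup.ext ?_ ?_ ?_ ?_ ?_ ?_
      · rw [h1.2.1, hz.2.1]
      · rw [h1.2.2.1, hz.2.2.1]
      · rw [h1.2.2.2.1, hz.2.2.2.1]
      · rw [a4_cm_Da_Da hx hy hx'.2 hy'.2, hxc, hyc]
        simpa [C.T_zero_left, C.T_zero_right] using hk
      · rw [h1.2.2.2.2.1, hz.2.2.2.2.1]
      · rw [h1.2.2.2.2.2, hz.2.2.2.2.2]
    rw [← this]
    exact hcm _ hx _ hy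
  -- elements of `E2`
  have hE : E2 co ≤ D := by
    intro z hz
    obtain ⟨k, hk⟩ := C.exists_T_eq (one_ne_zero (α := K)) (cx co z).a2
    obtain ⟨x, hx, hxc⟩ := exists_cx (co := co) ⟨1, 0, 0, 0, 0, 0⟩
    obtain ⟨y, hy, hyc⟩ := exists_cx (co := co) ⟨0, 0, k, 0, 0, 0⟩
    have hy' : y ∈ F0 co := ⟨hy, by rw [hyc], by rw [hyc], by rw [hyc]⟩
    have h1 := cm_mem_E2 (co := co) hx hy'
    have h2 : (cm x y)⁻¹ * z ∈ Z co := by
      have h3 : (cm x y)⁻¹ * z ∈ E2 co := mul_mem (inv_mem h1) hz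
      refine ⟨h3.1, h3.2.1, ?_, h3.2.2.1, h3.2.2.2.1, h3.2.2.2.2⟩
      have h4 := a2_mul (co := co) h1.1 h3.1
      rw [mul_inv_cancel_left, h3.2.1, C.T_zero_left, C.sh_zero, C.T_zero_left, C.N_zero, mul_zero,
        add_zero, add_zero, add_zero, a2_cm_F0 hx hy hy'.2.1 hy'.2.2.1 hy'.2.2.2, hxc, hyc, hk] at h4
      simpa using h4
    have := mul_mem (hcm _ hx _ hy) (hZ h2)
    simpa using this
  -- the coordinates `(a3, a5)` of elements of `D`
  have red : ∀ x ∈ RR co, ∀ d ∈ D, (cx co d).a3 = (cx co x).a3 → (cx co d).a5 = (cx co x).a5 → x ∈ D := by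
    intro x hx d hd h3 h5
    have hdR : d ∈ RR co := by
      have : D ≤ RR co := by
        rw [hDdef, closure_le]
        rintro _ ⟨g, hg, h, hh, rfl⟩
        exact cm_mem_RR hg hh
      exact this hd
    have h6 : d⁻¹ * x ∈ E2 co := by
      have h7 : d⁻¹ * x ∈ RR co := mul_mem (inv_mem hdR) hx
      have h8 := a5_mul (co := co) hdR.1 h7.1
      rw [mul_inv_cancel_left, hdR.2.2, zero_smul, add_zero, h5] at h8
      have h9 := a3_mul (co := co) hdR.1 h7.1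
      rw [mul_inv_cancel_left, hdR.2.2, zero_smul, add_zero, h7.2.1, C.cr_zero_left, add_zero, h3] at h9
      exact ⟨h7.1, h7.2.1, by simpa using h9, by simpa using h8, h7.2.2⟩
    have := mul_mem hd (hE h6)
    simpa using this
  obtain ⟨l, hl0, hl1⟩ := exists_scalar hD
  -- `[x1(t), x6(u)]` has coordinates `a3 = u t#`, `a5 = u t`
  have h16 : ∀ (t : K) (u : F), ∃ d ∈ D, (cx co d).a1 = 0 ∧ (cx co d).a6 = 0 ∧ (cx co d).a3 = u • C.sh t ∧
      (cx co d).a5 = u • t := by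
    intro t u
    obtain ⟨x, hx, hxc⟩ := exists_cx (co := co) ⟨t, 0, 0, 0, 0, 0⟩
    obtain ⟨y, hy, hyc⟩ := exists_cx (co := co) ⟨0, 0, 0, 0, 0, u⟩
    have hy1 : (cx co y).a1 = 0 := by rw [hyc]
    refine ⟨cm x y, hcm _ hx _ hy, a1_cm hx hy, a6_cm hx hy, ?_, ?_⟩
    · rw [a3_cm_Da hx hy hy1, hxc, hyc, C.cr_zero_right, add_zero]
    · rw [a5_cm_Da hx hy hy1, hxc, hyc]
  have hprod : ∀ d e : G, d ∈ P → e ∈ P → (cx co d).a1 = 0 → (cx co d).a6 = 0 → (cx co e).a1 = 0 →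
      (cx co e).a6 = 0 → (cx co (d * e)).a1 = 0 ∧ (cx co (d * e)).a6 = 0 ∧
      (cx co (d * e)).a3 = (cx co d).a3 + (cx co e).a3 ∧ (cx co (d * e)).a5 = (cx co d).a5 + (cx co e).a5 := by
    intro d e hd he d1 d6 e1 e6
    refine ⟨?_, ?_, ?_, ?_⟩
    · rw [a1_mul hd he, d1, e1, add_zero]
    · rw [a6_mul hd he, d6, e6, add_zero]
    · rw [a3_mul hd he, d6, e1, zero_smul, C.cr_zero_left, add_zero, add_zero]
    · rw [a5_mul hd he, d6, zero_smul, add_zero]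
  have hDP : D ≤ P := by
    rw [hDdef, closure_le]
    rintro _ ⟨g, hg, h, hh, rfl⟩
    exact cm_mem hg hh
  -- `U3`
  have h3 : ∀ k : K, ∃ d ∈ D, (cx co d).a1 = 0 ∧ (cx co d).a6 = 0 ∧ (cx co d).a3 = k ∧ (cx co d).a5 = 0 := by
    intro k
    obtain ⟨f, t, rfl⟩ := exists_smul_sh C k
    -- `(u t#, u t)` and `((u/l) (l t)#, (u/l) (l t)) = (u l t#, u t)`
    obtain ⟨d, hd, d1, d6, d3, d5⟩ := h16 t (f / (l + 1))
    obtain ⟨e, he, e1, e6, e3, e5⟩ := h16 (l • t) (f / (l + 1) / l)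
    obtain ⟨p1, p6, p3, p5⟩ := hprod d e (hDP hd) (hDP he) d1 d6 e1 e6
    have hl' : l + 1 ≠ 0 := fun h => hl1 (C.eq_of_add_eq_zero h)
    refine ⟨d * e, mul_mem hd he, p1, p6, ?_, ?_⟩
    · rw [p3, d3, e3, C.sh_smul, smul_smul, ← add_smul]
      congr 1
      field_simp
      ring
    · rw [p5, d5, e5, smul_smul, ← add_smul]
      have : f / (l + 1) + f / (l + 1) / l * l = 0 := by
        rw [div_mul_cancel₀ _ hl0, C.add_self]
      rw [this, zero_smul]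
  intro x hx
  obtain ⟨d, hd, d1, d6, d3, d5⟩ := h16 (cx co x).a5 1
  obtain ⟨e, he, e1, e6, e3, e5⟩ := h3 ((cx co x).a3 + C.sh (cx co x).a5)
  obtain ⟨p1, p6, p3, p5⟩ := hprod d e (hDP hd) (hDP he) d1 d6 e1 e6
  refine red x hx (d * e) (mul_mem hd he) ?_ ?_
  · rw [p3, d3, e3, one_smul]
    have := charPK C
    linear_combination C.sh (cx co x).a5 * C.two_K
  · rw [p5, d5, e5, one_smul, add_zero]

/-- `Z ≤ P'` -/
theorem Z_le_commutator (hD : Dat C) : Z co ≤ ⁅P, P⁆ := by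
  refine Z_le_RR.trans ?_
  rw [← RR_eq (co := co) hD, closure_le]
  rintro _ ⟨g, hg, h, hh, rfl⟩
  exact commutator_mem_commutator hg hh

/-! ### normalizers -/

theorem le_normalizer_Z_of_P {N : Subgroup G} (hN : N ≤ normalizer (P : Set G)) :
    N ≤ normalizer ((Z co : Subgroup G) : Set G) := by
  rw [← cenMod_Z (co := co)]
  exact le_normalizer_cenMod hN hN (Step4.le_normalizer_bot N)

theorem le_normalizer_E2_of_P (hD : Dat C) {N : Subgroup G} (hN : N ≤ normalizer (P : Set G)) :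
    N ≤ normalizer ((E2 co : Subgroup G) : Set G) := by
  rw [← cenMod_E2 (co := co) hD]
  exact le_normalizer_cenMod hN hN (le_normalizer_Z_of_P hN)

theorem le_normalizer_Db_of_P (hD : Dat C) {N : Subgroup G} (hN : N ≤ normalizer (P : Set G)) :
    N ≤ normalizer ((Db co : Subgroup G) : Set G) := by
  rw [← cenMod_Db (co := co)]
  exact le_normalizer_cenMod hN (le_normalizer_E2_of_P hD hN) (Step4.le_normalizer_bot N)

theorem le_normalizer_RR_of_P (hD : Dat C) {N : Subgroup G} (hN : N ≤ normalizer (P : Set G)) :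
    N ≤ normalizer ((RR co : Subgroup G) : Set G) := by
  rw [← RR_eq (co := co) hD]
  refine le_normalizer_closure ?_
  rintro n hn _ ⟨g, hg, h, hh, rfl⟩
  exact ⟨n * g * n⁻¹, conj_mem_of_le hN hn hg, n * h * n⁻¹, conj_mem_of_le hN hn hh,
    (conj_cm n g h).symm⟩

theorem le_normalizer_Da_of_P (hD : Dat C) {N : Subgroup G} (hN : N ≤ normalizer (P : Set G)) :
    N ≤ normalizer ((Da co : Subgroup G) : Set G) := by
  rw [← cenMod_Da (co := co)]
  exact le_normalizer_cenMod hN (le_normalizer_RR_of_P hD hN) (le_normalizer_Z_of_P hN)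

theorem le_normalizer_E2_of_Db {N : Subgroup G} (hN : N ≤ normalizer ((Db co : Subgroup G) : Set G)) :
    N ≤ normalizer ((E2 co : Subgroup G) : Set G) := by
  rw [← cenMod_Db_Db (co := co)]
  exact le_normalizer_cenMod hN hN (Step4.le_normalizer_bot N)

theorem le_normalizer_Z_of_Da {N : Subgroup G} (hN : N ≤ normalizer ((Da co : Subgroup G) : Set G)) :
    N ≤ normalizer ((Z co : Subgroup G) : Set G) := by
  rw [← cenMod_Da_Da (co := co)]
  exact le_normalizer_cenMod hN hN (Step4.le_normalizer_bot N)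

/-- `Q12 = {x ∈ Q2 : [x, W] ≤ Z}` -/
theorem mem_RR_of_Db {x : G} (hx : x ∈ Db co) (h : ∀ w ∈ F0 co, cm x w ∈ Z co) : x ∈ RR co :=
  ⟨hx.1, mem_F0_of_comm hx.1 h, hx.2⟩

theorem mem_Z_of_RR_F0 {x w : G} (hx : x ∈ RR co) (hw : w ∈ F0 co) : cm x w ∈ Z co :=
  cm_mem_Z_of_Da (RR_le_Da hx) (F0_le_Da hw)

end

end Cfsg.Agent.HexGlob.Facts
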