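import Mathlib
import Cfsg.Agent.S1301
import Cfsg.Agent.SignalizersComponents.IntrinsicBalance
import Cfsg.Agent.SignalizersComponents.QuasisimpleQuotient
import Cfsg.Agent.SignalizersComponents.PConstrained
import Cfsg.Prelude.Def_CaseTheorems

/-!
# Components centralised by an involution, and L-balance

`u`, `a` commuting involutions.  If `C(a)/O(C(a))` has no component then no component of `C(u)/O(C(u))` is
centralised by the image of `a`.
-/

set_option autoImplicit false

namespace Cfsg.Agent.HexGlob.NoCompCent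

open Subgroup Cfsg Cfsg.Agent.SignalizersComponents

/-- components lift through homomorphisms with odd kernel, modulo the odd core -/
theorem hasComponent_of_surjective {H Q : Type*} [Group H] [Finite H] [Group Q] [Finite Q] (f : H →* Q)
    (hf : Function.Surjective f) (hk : (Nat.card f.ker).Coprime 2) {K : Subgroup Q} (hK : IsComponent K)
    (hKO : ¬ K ≤ oddCore Q) : HasComponent (H ⧸ oddCore H) := by
  have hOn : (oddCore H).Normal := Cfsg.Agent.Lib.Cores.pPrimeCore_normal 2
  have hker : f.ker ≤ oddCore H := Cfsg.Agent.Lib.Cores.le_pPrimeCore (MonoidHom.normal_ker f) hk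
  -- `f(O(H)) ≤ O(Q)`
  have hle : (oddCore H).map f ≤ oddCore Q := by
    apply Cfsg.Agent.Lib.Cores.le_pPrimeCore
    · exact Cfsg.Agent.Lib.Cores.map_normal_of_surjective hf hOn
    · exact Nat.Coprime.coprime_dvd_left (Subgroup.card_map_dvd (oddCore H) f)
        (Cfsg.Agent.Lib.Cores.pPrimeCore_coprime 2)
  set N := (oddCore H).map f with hN
  have hNn : N.Normal := Cfsg.Agent.Lib.Cores.map_normal_of_surjective hf hOn
  have h1 := QuasisimpleQuotient.isComponent_map_mk' (N := N) hK (fun h => hKO (h.trans hle))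
  -- the isomorphism
  let g : H →* Q ⧸ N := (QuotientGroup.mk' N).comp f
  have hg : Function.Surjective g := (QuotientGroup.mk'_surjective N).comp hf
  have hgk : g.ker = oddCore H := by
    ext x
    rw [MonoidHom.mem_ker]
    show (QuotientGroup.mk' N) (f x) = 1 ↔ _
    rw [QuotientGroup.mk'_apply, QuotientGroup.eq_one_iff]
    constructor
    · rintro ⟨y, hy, e⟩
      have h2 : y⁻¹ * x ∈ f.ker := by rw [MonoidHom.mem_ker, map_mul, map_inv, e, inv_mul_cancel]
      have h3 := mul_mem hy (hker h2)
      rwa [mul_inv_cancel_left] at h3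
    · exact fun h => ⟨x, h, rfl⟩
  let e : (H ⧸ oddCore H) ≃* (Q ⧸ N) :=
    (QuotientGroup.quotientMulEquivOfEq hgk.symm).trans (QuotientGroup.quotientKerEquivOfSurjective g hg)
  have h2 := Components.isComponent_map_equiv e.symm h1
  exact ⟨_, h2.1, h2.2⟩

/-- components of a group with trivial odd core do not have odd order -/
theorem not_le_oddCore {G : Type*} [Group G] [Finite G] (hO : oddCore G = ⊥) {Q K : Subgroup G} (hKQ : K ≤ Q)
    (hK : IsComponent K) : ¬ K.subgroupOf Q ≤ oddCore Q := by
  intro h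
  have h1 : (Nat.card K).Coprime 2 := by
    rw [← Nat.card_congr (Subgroup.subgroupOfEquivOfLe hKQ).toEquiv]
    exact Nat.Coprime.coprime_dvd_left (Subgroup.card_dvd_of_le h) (Cfsg.Agent.Lib.Cores.pPrimeCore_coprime 2)
  have h2 := CompBasic.subnormal_coprime_le_pPrimeCore hK.1 h1
  have h3 : K ≤ ⊥ := h2.trans hO.le
  exact Components.component_ne_bot hK (le_bot_iff.1 h3)

variable {G : Type*} [Group G] [Finite G]

/-- if `C(a)/O(C(a))` has no component then `C(a) ∩ C(u)` has trivial 2-layer -/
theorem not_hasComponent_inf {u a : G} (hu : u * u = 1) (hau : a * u = u * a)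
    (hX : ¬ HasComponent (centralizer ({a} : Set G) ⧸ oddCore (centralizer ({a} : Set G)))) :
    ¬ HasComponent (↥(centralizer ({a} : Set G) ⊓ centralizer ({u} : Set G)) ⧸
      oddCore ↥(centralizer ({a} : Set G) ⊓ centralizer ({u} : Set G))) := by
  have : Fact (Nat.Prime 2) := ⟨Nat.prime_two⟩
  rintro ⟨L, hL1, hL2⟩
  obtain ⟨A, hA, -⟩ := PConstrained.exists_isPComponent_map_eq 2 (K := L) ⟨hL1, hL2⟩
  have huY : u ∈ centralizer ({a} : Set G) := mem_centralizer_singleton_iff.2 hau.symm
  have hT : IsPGroup 2 ↥(zpowers (⟨u, huY⟩ : ↥(centralizer ({a} : Set G)))) := by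
    rintro ⟨_, n, rfl⟩
    refine ⟨1, ?_⟩
    apply Subtype.ext
    have h1 : (⟨u, huY⟩ : ↥(centralizer ({a} : Set G))) ^ 2 = 1 := by
      apply Subtype.ext
      simpa [pow_two] using hu
    change ((⟨u, huY⟩ : ↥(centralizer ({a} : Set G))) ^ n) ^ (2 ^ 1) = 1
    rw [pow_one, ← zpow_natCast, ← zpow_mul, mul_comm, zpow_mul, zpow_natCast, h1, one_zpow]
  have h1 := Cfsg.Agent.S1301.result (X := ↥(centralizer ({a} : Set G))) (zpowers (⟨u, huY⟩ : ↥(centralizer ({a} : Set G)))) hT
  have h0 : pLayer 2 ↥(centralizer ({a} : Set G)) = ⊥ := by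
    unfold pLayer
    rw [sSup_eq_bot]
    intro K hK
    exact absurd ⟨_, hK.2.1⟩ hX
  rw [h0, le_bot_iff, Subgroup.map_eq_bot_iff_of_injective _ (Subgroup.subtype_injective _)] at h1
  have h2 := PLayerAut.isPComponent_map_equiv 2 (IntrinsicBalance.centEquiv (centralizer ({a} : Set G)) u huY) hA
  have h3 := (le_sSup (show _ ∈ {K | IsPComponent 2 K} from h2))
  have h4 : pLayer 2 ↥(centralizer ((zpowers (⟨u, huY⟩ : ↥(centralizer ({a} : Set G))) : Subgroup ↥(centralizer ({a} : Set G))) :
      Set ↥(centralizer ({a} : Set G)))) = sSup {K | IsPComponent 2 K} := rfl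
  rw [← h4, h1, le_bot_iff, Subgroup.map_eq_bot_iff_of_injective _ (MulEquiv.injective _)] at h3
  have h5 := hA.2.1
  rw [h3, Subgroup.map_bot] at h5
  exact Components.component_ne_bot h5 rfl

/-- **(na)** -/
theorem false_of_central {u a : G} (hu : u * u = 1) (ha : a * a = 1) (hau : a * u = u * a)
    (hX : ¬ HasComponent (centralizer ({a} : Set G) ⧸ oddCore (centralizer ({a} : Set G))))
    {K : Subgroup (centralizer ({u} : Set G) ⧸ oddCore (centralizer ({u} : Set G)))} (hK : IsComponent K)
    (hc : ∀ k ∈ K, (QuotientGroup.mk' (oddCore (centralizer ({u} : Set G))) ⟨a, mem_centralizer_singleton_iff.2 hau⟩) * k =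
      k * (QuotientGroup.mk' (oddCore (centralizer ({u} : Set G))) ⟨a, mem_centralizer_singleton_iff.2 hau⟩)) :
    False := by
  have haX : a ∈ centralizer ({u} : Set G) := mem_centralizer_singleton_iff.2 hau
  have hKQ : K ≤ centralizer ({(QuotientGroup.mk' (oddCore (centralizer ({u} : Set G)))) ⟨a, haX⟩} :
      Set (centralizer ({u} : Set G) ⧸ oddCore (centralizer ({u} : Set G)))) :=
    fun k hk => mem_centralizer_singleton_iff.2 (hc k hk).symm
  have hKc := Components.isComponent_subgroupOf hKQ hK
  have hOX : oddCore (centralizer ({u} : Set G) ⧸ oddCore (centralizer ({u} : Set G))) = ⊥ :=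
    Cfsg.Agent.Lib.Cores.pPrimeCore_quotient_pPrimeCore 2
  have h1 : HasComponent (↥(centralizer ({u} : Set G) ⊓ centralizer ({a} : Set G)) ⧸
      oddCore ↥(centralizer ({u} : Set G) ⊓ centralizer ({a} : Set G))) := by
    refine hasComponent_of_surjective (IntrinsicIntr.centMap _ a haX) (IntrinsicIntr.centMap_surjective _ a haX ha)
      ?_ hKc (not_le_oddCore hOX hKQ hK)
    -- the kernel is odd
    let j : (IntrinsicIntr.centMap _ a haX).ker →* oddCore (centralizer ({u} : Set G)) :=
      { toFun := fun m => ⟨⟨m.1, m.1.2.1⟩, by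
          have h2 := m.2
          rw [MonoidHom.mem_ker] at h2
          have h3 := congrArg Subtype.val h2
          rw [IntrinsicIntr.centMap_coe] at h3
          exact (QuotientGroup.eq_one_iff _).1 h3⟩
        map_one' := rfl
        map_mul' := fun _ _ => rfl }
    have hj : Function.Injective j := by
      intro m m' h
      apply Subtype.ext
      apply Subtype.ext
      exact congrArg (fun t : oddCore (centralizer ({u} : Set G)) => ((t : centralizer ({u} : Set G)) : G)) h
    exact Nat.Coprime.coprime_dvd_left (Subgroup.card_dvd_of_injective j hj)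
      (Cfsg.Agent.Lib.Cores.pPrimeCore_coprime 2)
  rw [inf_comm] at h1
  exact not_hasComponent_inf hu hau hX h1

end Cfsg.Agent.HexGlob.NoCompCent
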