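import Mathlib
import Cfsg.Agent.HexGlob.CenUSpec
import Cfsg.Agent.HexGlob.Facts
import Cfsg.Agent.HexGlob.NoCompCent
import Cfsg.Agent.SignalizersComponents.IntrinsicBasic

/-!
# The centraliser of `u = x3(k)`: `V` is strongly closed in `C_S(u)` with respect to `C_G(u)`

`EZ z = Da O(C_G(z))` (`z ∈ Z`, normal in `C_G(z)`); `EE a` its conjugate for `a ∈ z^G`.
-/

set_option autoImplicit false

namespace Cfsg.Agent.HexGlob.CenU

open Cfsg.Agent.HexRec Cfsg.Agent.HexEss Subgroup Cfsg.Agent.Lib.GoldschmidtFusion Cfsg.Agent.HexGlob.Facts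
open Cfsg.Agent.SignalizersComponents.PLayerAut (relCore relCore_le relCore_def)
open Cfsg.Agent.HexGlob.CenUSpec
open Cfsg.Agent.SignalizersComponents

universe u v

variable {F K : Type v} [Field F] [Field K] [Algebra F K] {C : Cubic F K}
variable {G : Type u} [Group G] [Finite G] {S : Sylow 2 G} {co : Coord C (S : Subgroup G)}

/-! ### The groups `EZ z`, `EE a` -/

/-- `Da O(C_G(z))` -/
noncomputable def EZ (co : Coord C (S : Subgroup G)) (z : G) : Subgroup G :=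
  Da co ⊔ relCore 2 (centralizer ({z} : Set G))

theorem S_le_cent {z : G} (hz : z ∈ Z co) : (S : Subgroup G) ≤ centralizer ({z} : Set G) := fun _ hs =>
  mem_centralizer_singleton_iff.2 (cm_eq_one.1 (cm_Z hs hz))

theorem Da_le_cent {z : G} (hz : z ∈ Z co) : Da co ≤ centralizer ({z} : Set G) := Da_le.trans (S_le_cent hz)

theorem mem_EZ {z x : G} (hz : z ∈ Z co) : x ∈ EZ co z ↔
    ∃ d ∈ Da co, ∃ o ∈ relCore 2 (centralizer ({z} : Set G)), x = d * o :=
  Cfsg.Agent.TypeL3.mem_sup_of_le_normalizer (le_normalizer_of fun _ hn _ hx =>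
    IntrinsicBasic.conj_mem_relCore' (Da_le_cent hz hn) hx)

theorem conj_mem_EZ (oZ : OutZ S co) {z : G} (hz : z ∈ Z co) (hz1 : z ≠ 1) {c : G}
    (hc : c ∈ centralizer ({z} : Set G)) {x : G} (hx : x ∈ EZ co z) : c * x * c⁻¹ ∈ EZ co z := by
  obtain ⟨d, hd, o, ho, rfl⟩ := (mem_EZ hz).1 hx
  obtain ⟨y, hy, o', ho', e⟩ := oZ.norm z hz hz1 c hc d hd
  have h1 : c * (d * o) * c⁻¹ = (c * d * c⁻¹) * (c * o * c⁻¹) := by group
  rw [h1, e]
  refine mul_mem (mul_mem (mem_sup_left hy) (mem_sup_right ho')) (mem_sup_right ?_)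
  exact IntrinsicBasic.conj_mem_relCore' hc ho

theorem mem_Da_of_EZ {z s : G} (hz : z ∈ Z co) (hs : s ∈ (S : Subgroup G)) (h : s ∈ EZ co z) : s ∈ Da co := by
  obtain ⟨d, hd, o, ho, rfl⟩ := (mem_EZ hz).1 h
  have h1 : o ∈ (S : Subgroup G) := by
    have := mul_mem (inv_mem (Da_le hd)) hs
    rwa [inv_mul_cancel_left] at this
  obtain ⟨n, hn⟩ := S.isPGroup' ⟨o, h1⟩
  have h2 : o = 1 := IntrinsicBasic.eq_one_of_mem_relCore ho (congrArg Subtype.val hn)
  rw [h2, mul_one]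
  exact hd

theorem wd (hD : Dat C) (oZ : OutZ S co) {z z' m x : G} (hz : z ∈ Z co) (hz' : z' ∈ Z co)
    (hz1' : z' ≠ 1) (hm : m * z * m⁻¹ = z') (hx : x ∈ EZ co z) : m * x * m⁻¹ ∈ EZ co z' := by
  have hcent : (centralizer ({z} : Set G)).map (MulAut.conj m).toMonoidHom = centralizer ({z'} : Set G) := by
    rw [← hm]; exact IntrinsicBasic.cj_centralizer m z
  have hSm : (S : Subgroup G).map (MulAut.conj m).toMonoidHom ≤ centralizer ({z'} : Set G) := by
    rw [← hcent]; exact Subgroup.map_mono (S_le_cent hz)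
  obtain ⟨c, hc, hle⟩ := exists_conj_le_in (p := 2) S.isPGroup' (Cfsg.Agent.TypeL3.sylow_not_dvd_relIndex S (S_le_cent hz')) hSm
    (S.isPGroup'.map _)
  rw [map_conj_map_conj] at hle
  have hcm : c * m ∈ normalizer ((S : Subgroup G) : Set G) :=
    mem_normalizer_iff_map_conj.2 (map_conj_le_of_le_normalizer hle)
  have hcm' := le_normalizer_Da_of_P (co := co) hD le_rfl hcm
  obtain ⟨d, hd, o, ho, rfl⟩ := (mem_EZ hz).1 hx
  have h1 : m * (d * o) * m⁻¹ = (c⁻¹ * ((c * m) * d * (c * m)⁻¹) * c⁻¹⁻¹) * (m * o * m⁻¹) := by group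
  rw [h1]
  refine mul_mem (conj_mem_EZ oZ hz' hz1' (inv_mem hc) (mem_sup_left ?_)) (mem_sup_right ?_)
  · exact (mem_normalizer_iff.1 hcm' d).1 hd
  · have h2 := IntrinsicBasic.cj_relCore m (centralizer ({z} : Set G))
    rw [IntrinsicBasic.cj_def, IntrinsicBasic.cj_def, hcent] at h2
    rw [← h2]
    exact conj_mem_map_conj ho m

/-- the conjugate of `EZ z` belonging to `a ∈ z^G` -/
def EE (co : Coord C (S : Subgroup G)) (a : G) : Set G :=
  {y | ∃ z ∈ Z co, z ≠ 1 ∧ ∃ g : G, g * z * g⁻¹ = a ∧ g⁻¹ * y * g ∈ EZ co z}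

theorem mem_EE_iff (hD : Dat C) (oZ : OutZ S co) {z g a y : G} (hz : z ∈ Z co) (hz1 : z ≠ 1)
    (h : g * z * g⁻¹ = a) : y ∈ EE co a ↔ g⁻¹ * y * g ∈ EZ co z := by
  constructor
  · rintro ⟨z', hz', hz1', g', h', hy⟩
    have h1 : (g⁻¹ * g') * z' * (g⁻¹ * g')⁻¹ = z := by
      calc (g⁻¹ * g') * z' * (g⁻¹ * g')⁻¹ = g⁻¹ * (g' * z' * g'⁻¹) * g := by group
        _ = z := by rw [h', ← h]; group
    have h2 := wd hD oZ hz' hz hz1 h1 hy
    have h3 : (g⁻¹ * g') * (g'⁻¹ * y * g') * (g⁻¹ * g')⁻¹ = g⁻¹ * y * g := by group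
    rwa [h3] at h2
  · intro hy
    exact ⟨z, hz, hz1, g, h, hy⟩

theorem conj_mem_EE {a y : G} (c : G) (hy : y ∈ EE co a) : c * y * c⁻¹ ∈ EE co (c * a * c⁻¹) := by
  obtain ⟨z, hz, hz1, g, h, hy⟩ := hy
  refine ⟨z, hz, hz1, c * g, ?_, ?_⟩
  · rw [← h]; group
  · have : (c * g)⁻¹ * (c * y * c⁻¹) * (c * g) = g⁻¹ * y * g := by group
    rw [this]; exact hy

/-! ### Frattini -/

theorem frattini {N : Subgroup G} {n : G} (hn : n ∈ N) (hSN : (S : Subgroup G) ≤ N) :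
    ∃ g ∈ conjClosure N (S : Subgroup G), ∃ s ∈ normalizer ((S : Subgroup G) : Set G), n = g * s := by
  have h1 : (S : Subgroup G).map (MulAut.conj n).toMonoidHom ≤ conjClosure N (S : Subgroup G) := by
    rintro _ ⟨s, hs, rfl⟩
    exact conj_mem_conjClosure hn hs
  obtain ⟨g, hg, hle⟩ := exists_conj_le_in (p := 2) S.isPGroup'
    (Cfsg.Agent.TypeL3.sylow_not_dvd_relIndex S (le_conjClosure N (S : Subgroup G))) h1 (S.isPGroup'.map _)
  rw [map_conj_map_conj] at hle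
  exact ⟨g⁻¹, inv_mem hg, g * n, mem_normalizer_iff_map_conj.2 (map_conj_le_of_le_normalizer hle), by group⟩

theorem S_le_normalizer_Da : (S : Subgroup G) ≤ normalizer ((Da co : Subgroup G) : Set G) := by
  refine le_normalizer_of fun n hn x hx => ?_
  rw [conj_eq_cm_mul]
  exact mul_mem (RR_le_Da (cm_mem_RR hn hx.1)) hx

theorem L1_le : L1 S co ≤ normalizer ((Da co : Subgroup G) : Set G) := conjClosure_le_self S_le_normalizer_Da

theorem S_le_normalizer_Db : (S : Subgroup G) ≤ normalizer ((Db co : Subgroup G) : Set G) := by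
  refine le_normalizer_of fun n hn x hx => ?_
  rw [conj_eq_cm_mul]
  exact mul_mem (RR_le_Db (cm_mem_RR hn hx.1)) hx

theorem L2_le : L2 S co ≤ normalizer ((Db co : Subgroup G) : Set G) := conjClosure_le_self S_le_normalizer_Db

/-! ### `V` is strongly closed -/

theorem exists_Z_ne_one (co : Coord C (S : Subgroup G)) : ∃ z ∈ Z co, z ≠ 1 := by
  obtain ⟨x, hx, hxc⟩ := exists_cx (co := co) ⟨0, 0, 0, 1, 0, 0⟩
  refine ⟨x, ⟨hx, by rw [hxc], by rw [hxc], by rw [hxc], by rw [hxc], by rw [hxc]⟩, ?_⟩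
  rintro rfl
  rw [cx_one] at hxc
  have := congrArg Tup.a4 hxc
  exact zero_ne_one this

/-- `[y, b] = 1`, `b ∈ V ∖ Z`, `y ∈ Da` implies `y ∈ RR` -/
theorem mem_RR_of_comm {y b : G} (hy : y ∈ Da co) (hb : b ∈ E2 co) (hbZ : b ∉ Z co) (h : cm y b = 1) :
    y ∈ RR co := by
  refine ⟨hy.1, hy.2, ?_⟩
  have h1 := a4_cm_F0 (co := co) hy.1 hb.1 hb.2.1 hb.2.2.2.1 hb.2.2.2.2
  rw [h, cx_one, hb.2.2.1, C.T_zero_right, add_zero] at h1
  rcases mul_eq_zero.1 h1.symm with h2 | h2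
  · exact h2
  · exact absurd ⟨hb.1, hb.2.1, h2, hb.2.2.1, hb.2.2.2.1, hb.2.2.2.2⟩ hbZ

theorem conj_mem_E2 (hD : Dat C) (o1 : Out1 S co) (o2 : Out2 S co) (oZ : OutZ S co) (oF : OutFus S co)
    {u : G} (hu : u ∈ F0 co) (huZ : u ∉ Z co) {v c : G} (hv : v ∈ E2 co) (hc : c * u = u * c)
    (hcS : c * v * c⁻¹ ∈ (S : Subgroup G)) : c * v * c⁻¹ ∈ E2 co := by
  by_contra hcon
  have hv1 : v ≠ 1 := by
    rintro rfl
    apply hcon
    rw [mul_one, mul_inv_cancel]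
    exact one_mem _
  obtain ⟨z, hz, hz1⟩ := exists_Z_ne_one co
  have hzE := Z_le_E2 hz
  obtain ⟨l, hl, hlv⟩ := o2.trans z hzE hz1 v hv hv1
  -- `a' = c v c⁻¹` is a conjugate of `z`
  have ha' : (c * l) * z * (c * l)⁻¹ = c * v * c⁻¹ := by rw [← hlv]; group
  obtain ⟨n, hn, b0, hb0, e0⟩ := oF.fus z hz hz1 (c * l) (by rw [ha']; exact hcS)
  rw [ha'] at e0
  obtain ⟨g, hg, s, hs, rfl⟩ := frattini hn S_le_normalizer_Da
  change g ∈ L1 S co at hg
  set b := s * b0 * s⁻¹ with hbdef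
  have hb : b ∈ E2 co := conj_mem_of_le (le_normalizer_E2_of_P hD le_rfl) hs hb0
  have e : c * v * c⁻¹ = g * b * g⁻¹ := by rw [e0, hbdef]; group
  have hgN : g ∉ normalizer ((E2 co : Subgroup G) : Set G) := by
    intro h
    apply hcon
    rw [e]
    exact (mem_normalizer_iff.1 h b).1 hb
  have hbZ : b ∉ Z co := by
    intro h
    apply hcon
    rw [e, o1.cent g hg b h, mul_inv_cancel_right]
    exact hb
  have hb1 : b ≠ 1 := by
    rintro h
    apply hbZ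
    rw [h]
    exact one_mem _
  -- `u ∈ EE a'`
  have huv : u ∈ EE co v := by
    rw [mem_EE_iff hD oZ hz hz1 hlv]
    apply mem_sup_left
    apply F0_le_Da
    have := conj_mem_of_le (o2.inv) (inv_mem (L2_le hl)) hu
    simpa using this
  have hu' : u ∈ EE co (c * v * c⁻¹) := by
    have := conj_mem_EE c huv
    rwa [hc, mul_inv_cancel_right] at this
  -- `y = g⁻¹ u g`
  set y := g⁻¹ * u * g with hydef
  have hyE : y ∈ EE co b := by
    have := conj_mem_EE g⁻¹ hu'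
    rw [e] at this
    have e1 : g⁻¹ * (g * b * g⁻¹) * g⁻¹⁻¹ = b := by group
    have e2 : g⁻¹ * u * g⁻¹⁻¹ = y := by rw [hydef]; group
    rwa [e1, e2] at this
  have hyDa : y ∈ Da co := by
    have := conj_mem_of_le (L1_le (co := co)) (inv_mem hg) (F0_le_Da hu)
    simpa [hydef] using this
  have huv' : u * v = v * u := cm_eq_one.1 (cm_F0_F0 hu (E2_le_F0 hv))
  have hyb : cm y b = 1 := by
    rw [cm_eq_one]
    have h1 : u * (c * v * c⁻¹) = (c * v * c⁻¹) * u := by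
      have hc' : c⁻¹ * u = u * c⁻¹ := by
        rw [inv_mul_eq_iff_eq_mul, ← mul_assoc, hc, mul_inv_cancel_right]
      calc u * (c * v * c⁻¹) = (u * c) * v * c⁻¹ := by group
        _ = c * (u * v) * c⁻¹ := by rw [← hc]; group
        _ = c * v * (u * c⁻¹) := by rw [huv']; group
        _ = (c * v * c⁻¹) * u := by rw [← hc']; group
    rw [e] at h1
    calc y * b = g⁻¹ * (u * (g * b * g⁻¹)) * g := by rw [hydef]; group
      _ = b * y := by rw [h1, hydef]; group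
  have hyR : y ∈ RR co := mem_RR_of_comm hyDa hb hbZ hyb
  obtain ⟨l', hl', hlb⟩ := o2.trans z hzE hz1 b hb hb1
  have hl'N : l' ∉ normalizer ((Z co : Subgroup G) : Set G) := by
    intro h
    apply hbZ
    rw [← hlb]
    exact (mem_normalizer_iff.1 h z).1 hz
  have hl'i : l'⁻¹ ∉ normalizer ((Z co : Subgroup G) : Set G) := fun h => hl'N (by simpa using inv_mem h)
  -- `y' = l'⁻¹ y l'`
  have hy'E : l'⁻¹ * y * l' ∈ EZ co z := (mem_EE_iff hD oZ hz hz1 hlb).1 hyE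
  have hy'Db : l'⁻¹ * y * l' ∈ Db co := by
    have := conj_mem_of_le (L2_le (co := co)) (inv_mem hl') (RR_le_Db hyR)
    simpa using this
  have hy'Da : l'⁻¹ * y * l' ∈ Da co := mem_Da_of_EZ hz hy'Db.1 hy'E
  have hyF : y ∈ F0 co := by
    apply mem_F0_of_cm_eq_one hyR.1
    intro w hw
    by_contra hne
    have h1 : cm y w ∈ Z co := cm_mem_Z_of_Da hyDa (F0_le_Da hw)
    apply hl'i
    refine o2.ti l'⁻¹ (inv_mem (L2_le hl')) _ h1 hne ?_
    rw [conj_cm]
    have hw' : l'⁻¹ * w * l'⁻¹⁻¹ ∈ F0 co := conj_mem_of_le o2.inv (inv_mem (L2_le hl')) hw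
    refine cm_mem_Z_of_Da ?_ (F0_le_Da hw')
    simpa using hy'Da
  have hyZ : y ∈ Z co := by
    refine o1.f2 g hg hgN y hyF ?_
    have : g * y * g⁻¹ = u := by rw [hydef]; group
    rw [this]; exact hu
  apply huZ
  have : u = g * y * g⁻¹ := by rw [hydef]; group
  rw [this, o1.cent g hg y hyZ, mul_inv_cancel_right]
  exact hyZ

end Cfsg.Agent.HexGlob.CenU
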