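import Mathlib
import Cfsg.Agent.HexGlob.CompTools

/-!
# A criterion for the absence of components (piece A6)

`X` finite, `O(X) = 1`, `P` a Sylow 2-subgroup, `V ≤ P` elementary abelian and strongly closed in `P`,
`1 ≠ Z < V`, `N_X(V)` transitive on the nontrivial elements of `V`, `x, y ∈ P` generate a four-group with
`C_V(x) = C_V(y) = C_V(xy) = Z`, no component is centralised by a nontrivial element of `V`. Then `X` has
no component.
-/

set_option autoImplicit false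

namespace Cfsg.Agent.HexGlob.CompFour

open Subgroup Cfsg.Agent.Lib.GoldschmidtFusion Cfsg.Agent.TypeL3 Cfsg.Agent.HexGlob.MinPlus
open Cfsg.Agent.HexGlob.CompTools
open Cfsg.Agent.SignalizersComponents.CompBasic Cfsg.Agent.SignalizersComponents.Components
open scoped commutatorElement

universe u

variable {X : Type u} [Group X]

/-- `H` is generated by the fixed points of the involutions of a four-group modulo a normal subgroup `D` of
odd index -/
theorem le_of_klein_mod {D H M : Subgroup X} (hHD : H ≤ normalizer (D : Set X)) (hDM : D ≤ M)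
    (hodd : ¬ 2 ∣ D.relIndex H) {x y : X} (hx : x * x = 1) (hy : y * y = 1) (hxy : x * y = y * x)
    (hxD : x ∈ normalizer (D : Set X)) (hyD : y ∈ normalizer (D : Set X))
    (hxH : ∀ h ∈ H, x * h * x⁻¹ ∈ H) (hyH : ∀ h ∈ H, y * h * y⁻¹ ∈ H)
    (h1 : ∀ h ∈ H, h⁻¹ * (x * h * x⁻¹) ∈ D → h ∈ M) (h2 : ∀ h ∈ H, h⁻¹ * (y * h * y⁻¹) ∈ D → h ∈ M)
    (h3 : ∀ h ∈ H, h⁻¹ * (x * y * h * (x * y)⁻¹) ∈ D → h ∈ M) : H ≤ M := by
  let N := normalizer (D : Set X)
  let D' : Subgroup N := D.subgroupOf N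
  have hD'n : D'.Normal := normal_subgroupOf_of_le_normalizer le_rfl
  let f : N →* N ⧸ D' := QuotientGroup.mk' D'
  have hfe : ∀ {a b : N}, f a = f b → (a : X)⁻¹ * b ∈ D := by
    intro a b h
    have h1 : a⁻¹ * b ∈ D' := QuotientGroup.eq.1 h
    exact h1
  have hcard : Odd (Nat.card ((H.subgroupOf N).map f)) := by
    have e0 : f.ker = D' := QuotientGroup.ker_mk' D'
    have e1 : Nat.card ((H.subgroupOf N).map f) = D.relIndex H := by
      rw [← Subgroup.relIndex_ker, e0]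
      exact Subgroup.relIndex_subgroupOf hHD
    rw [e1, ← Nat.not_even_iff_odd, even_iff_two_dvd]
    exact hodd
  have hsq : ∀ {z : X} (hz : z ∈ N), z * z = 1 → f ⟨z, hz⟩ * f ⟨z, hz⟩ = 1 := by
    intro z hz e
    rw [← map_mul]
    have : (⟨z, hz⟩ * ⟨z, hz⟩ : N) = 1 := Subtype.ext e
    rw [this, map_one]
  have key : ∀ {z : X} (hz : z ∈ N), (∀ h ∈ H, h⁻¹ * (z * h * z⁻¹) ∈ D → h ∈ M) →
      (H.subgroupOf N).map f ⊓ Subgroup.centralizer {f ⟨z, hz⟩} ≤ (M.subgroupOf N).map f := by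
    rintro z hz hM1 _ ⟨⟨h, hh, rfl⟩, hc⟩
    replace hc : f h * f ⟨z, hz⟩ = f ⟨z, hz⟩ * f h := mem_centralizer_singleton_iff.1 hc
    rw [← map_mul, ← map_mul] at hc
    have h4 : ((h : X) * z)⁻¹ * (z * h) ∈ D := hfe hc
    have h5 : (h : X)⁻¹ * (z * h * z⁻¹) ∈ D := by
      have h8 := conj_mem_of_mem_normalizer hz h4
      convert h8 using 1
      group
    exact ⟨h, hM1 h hh h5, rfl⟩
  have hle : (H.subgroupOf N).map f ≤ (M.subgroupOf N).map f := by
    apply Cfsg.Agent.Lib.KleinGen.le_of_klein _ _ hcard (f ⟨x, hxD⟩) (f ⟨y, hyD⟩) (hsq hxD hx) (hsq hyD hy)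
    · rw [← map_mul, ← map_mul]
      congr 1
      exact Subtype.ext hxy
    · rintro _ ⟨h, hh, rfl⟩
      rw [← map_inv, ← map_mul, ← map_mul]
      exact ⟨_, hxH h hh, rfl⟩
    · rintro _ ⟨h, hh, rfl⟩
      rw [← map_inv, ← map_mul, ← map_mul]
      exact ⟨_, hyH h hh, rfl⟩
    · exact key hxD h1
    · exact key hyD h2
    · rw [← map_mul]
      exact key (mul_mem hxD hyD) h3
  intro h hh
  obtain ⟨m, hm, e⟩ := hle ⟨⟨h, hHD hh⟩, hh, rfl⟩
  have h4 : (m : X)⁻¹ * h ∈ D := hfe e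
  have h5 := mul_mem (show (m : X) ∈ M from hm) (hDM h4)
  rwa [mul_inv_cancel_left] at h5

variable [Finite X]

/-- **A6** -/
theorem no_component (h1169 : H1169.{u}) (h1171 : H1171.{u}) (hbend : HBend.{u}) (hcore : Cfsg.oddCore X = ⊥)
    (P : Sylow 2 X) {V Z : Subgroup X} (hV : Cfsg.IsStronglyClosed V (P : Subgroup X))
    (hVc : ∀ x ∈ V, ∀ y ∈ V, x * y = y * x) (hV2 : ∀ x ∈ V, x * x = 1)
    (hZV : Z ≤ V) (hZ0 : Z ≠ ⊥) (hZ1 : ¬ V ≤ Z)
    (htr : ∀ a ∈ V, a ≠ 1 → ∀ b ∈ V, b ≠ 1 → ∃ n : X, n * a * n⁻¹ = b)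
    {x y : X} (hxP : x ∈ (P : Subgroup X)) (hyP : y ∈ (P : Subgroup X)) (hx2 : x * x = 1) (hy2 : y * y = 1)
    (hxy : x * y = y * x) (hCx : ∀ v ∈ V, v * x = x * v → v ∈ Z)
    (hCy : ∀ v ∈ V, v * y = y * v → v ∈ Z) (hCxy : ∀ v ∈ V, v * (x * y) = x * y * v → v ∈ Z)
    (hZx : ∀ z ∈ Z, z * x = x * z) (hZy : ∀ z ∈ Z, z * y = y * z)
    (hna : ∀ K : Subgroup X, Cfsg.IsComponent K → ∀ a ∈ V, a ≠ 1 → ∃ k ∈ K, a * k ≠ k * a) :
    ¬ Cfsg.HasComponent X := by
  rintro ⟨K, hK⟩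
  have ctx : ∀ {K : Subgroup X}, Cfsg.IsComponent K → Ctx K := fun h => ⟨hcore, h⟩
  have hK : Cfsg.IsComponent K := hK
  obtain ⟨z0, hz0, hz01⟩ : ∃ z ∈ Z, z ≠ 1 := by
    by_contra h0
    push Not at h0
    exact hZ0 ((Subgroup.eq_bot_iff_forall _).2 h0)
  -- steps 1, 2
  have s2 : ∀ {K : Subgroup X}, Cfsg.IsComponent K → ∃ v ∈ V ⊓ K, v ∉ centralizer (K : Set X) := by
    intro K hK
    by_contra h0
    push Not at h0
    have h1 := (ctx hK).comm_of_inf_le h1171 P hV ((ctx hK).normalises_of_comm P hV hVc) h0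
    obtain ⟨k, hk, hne⟩ := hna K hK z0 (hZV hz0) hz01
    exact hne (h1 z0 (hZV hz0) k hk)
  -- step 3
  have s3 : ∀ v ∈ V, v ≠ 1 → ∃ L : Subgroup X, Cfsg.IsComponent L ∧ v ∈ L ∧ v ∉ centralizer (L : Set X) := by
    intro v hv hv1
    obtain ⟨w, hw, hwC⟩ := s2 hK
    obtain ⟨hwV, hwK⟩ := mem_inf.1 hw
    have hw1 : w ≠ 1 := fun h => hwC (h ▸ one_mem _)
    obtain ⟨n, hn⟩ := htr w hwV hw1 v hv hv1
    refine ⟨K.map (MulAut.conj n).toMonoidHom, isComponent_conj n hK, ?_, ?_⟩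
    · rw [← hn]; exact conj_mem_map_conj hwK n
    · intro h1
      apply hwC
      rw [mem_centralizer_map_conj, ← hn] at h1
      have e : n⁻¹ * (n * w * n⁻¹) * n = w := by group
      rwa [e] at h1
  have comm_of_ne : ∀ {K L : Subgroup X}, Cfsg.IsComponent K → Cfsg.IsComponent L → K ≠ L → ∀ {v : X},
      v ∈ L → v ∈ centralizer (K : Set X) := by
    intro K L hK hL hne v hv
    exact component_le_centralizer_of_ne hL hK hne.symm hv
  -- step 4
  have s4 : ∀ {K L : Subgroup X}, Cfsg.IsComponent K → Cfsg.IsComponent L → K = L := by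
    intro K L hK hL
    by_contra hne
    obtain ⟨v, hv, hvC⟩ := s2 hK
    obtain ⟨v', hv', hvC'⟩ := s2 hL
    obtain ⟨hvV, hvK⟩ := mem_inf.1 hv
    obtain ⟨hvV', hvL'⟩ := mem_inf.1 hv'
    have hw1 : v * v' ≠ 1 := by
      intro h0
      apply hvC
      have : v = v'⁻¹ := eq_inv_of_mul_eq_one_left h0
      rw [this]
      exact comm_of_ne hK hL hne (inv_mem hvL')
    obtain ⟨M, hM, hwM, hwC⟩ := s3 (v * v') (mul_mem hvV hvV') hw1
    by_cases hMK : K = M
    · -- `M ≠ L`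
      have hML : L ≠ M := fun h => hne (hMK.trans h.symm)
      have h1 := comm_of_ne hL hM hML hwM
      have h2 := comm_of_ne hL hK (Ne.symm hne) hvK
      apply hvC'
      have h3 := mul_mem (inv_mem h2) h1
      rwa [inv_mul_cancel_left] at h3
    · have h1 := comm_of_ne hK hM hMK hwM
      have h2 := comm_of_ne hK hL hne hvL'
      apply hvC
      have h3 := mul_mem h1 (inv_mem h2)
      rwa [mul_inv_cancel_right] at h3
  -- step 5
  have hconj : ∀ g : X, K.map (MulAut.conj g).toMonoidHom = K := fun g => s4 (isComponent_conj g hK) hK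
  have hconj' : ∀ g k : X, k ∈ K → g * k * g⁻¹ ∈ K := fun g k hk => by
    have := conj_mem_map_conj hk g
    rwa [hconj g] at this
  have hVK : V ≤ K := by
    intro v hv
    by_cases hv1 : v = 1
    · rw [hv1]; exact one_mem _
    obtain ⟨L, hL, hvL, -⟩ := s3 v hv hv1
    rw [s4 hK hL]; exact hvL
  have hVC : ∀ v ∈ V, v ∈ centralizer (K : Set X) → v = 1 := by
    intro v hv hvC
    by_contra hv1
    obtain ⟨L, hL, -, hvL⟩ := s3 v hv hv1
    rw [s4 hK hL] at hvC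
    exact hvL hvC
  set S := (P : Subgroup X) ⊓ K with hS
  have hVS : V ≤ S := le_inf hV.1 hVK
  obtain ⟨R, hR⟩ := (ctx hK).exists_sylow P
  -- step 6
  have s6 : ∀ v ∈ V, ∀ s ∈ S, s * v = v * s := by
    intro v hv s hs
    have h1 := ((ctx hK).min_plus h1169 h1171 hbend P (A := V) (inf_le_left.trans hV.1)
      (fun x hx g _ hg => hV.2 x (mem_inf.1 hx).1 g hg)
      (fun x hx y hy => by
        rw [hVc x (mem_inf.1 hx).1 y (mem_inf.1 hy).1]
        have : y * x * x⁻¹ * y⁻¹ = 1 := by group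
        rw [this]; exact one_mem _)
      (fun x hx => by rw [hV2 x (mem_inf.1 hx).1]; exact one_mem _)
      (fun h0 => by
        obtain ⟨w, hw, hwC⟩ := s2 hK
        exact hwC (h0 hw)) (t := v) (hVS hv) (by rw [hV2 v hv]; exact one_mem _)).2 s hs
    have h2 : s * v * s⁻¹ ∈ V := by
      apply hV.2 v hv
      have hsP := (mem_inf.1 hs).1
      exact mul_mem (mul_mem hsP (hV.1 hv)) (inv_mem hsP)
    have h3 := hVC _ (mul_mem h2 (inv_mem hv)) h1
    rw [mul_inv_eq_one, mul_inv_eq_iff_eq_mul] at h3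
    exact h3
  -- step 7
  have hNS : ∀ {g : X}, g ∈ (P : Subgroup X) → g ∈ normalizer (S : Set X) := by
    intro g hg
    rw [mem_normalizer_iff_map_conj, hS, Subgroup.map_inf _ _ _ (MulAut.conj g).injective,
      mem_normalizer_iff_map_conj.1 (le_normalizer hg), hconj g]
  have s7 : ∀ w : X, (∀ v ∈ V, v * w = w * v → v ∈ Z) → (∀ z ∈ Z, z * w = w * z) →
      ∀ h ∈ normalizer (S : Set X) ⊓ K, h⁻¹ * (w * h * w⁻¹) ∈ S → h ∈ normalizer (Z : Set X) := by
    intro w hw hZw h hh hd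
    obtain ⟨hhS, hhK⟩ := mem_inf.1 hh
    rw [← inv_mem_iff, mem_normalizer_iff_map_conj]
    apply Subgroup.eq_of_le_of_card_ge _ (by rw [card_map_conj])
    rintro _ ⟨c, hc, rfl⟩
    show h⁻¹ * c * h⁻¹⁻¹ ∈ Z
    rw [inv_inv]
    have hcS := hVS (hZV hc)
    have h1 : h⁻¹ * c * h ∈ S := by
      have := conj_mem_of_mem_normalizer (inv_mem hhS) hcS
      rwa [inv_inv] at this
    have h2 : h⁻¹ * c * h ∈ V := by
      have := hV.2 c (hZV hc) h⁻¹ (by rw [inv_inv]; exact (mem_inf.1 h1).1)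
      rwa [inv_inv] at this
    apply hw _ h2
    set s0 := h⁻¹ * (w * h * w⁻¹) with hs0
    have e1 : h⁻¹ * w * h = s0 * w := by rw [hs0]; group
    have h3 : h⁻¹ * c * h * (h⁻¹ * w * h) = h⁻¹ * w * h * (h⁻¹ * c * h) := by
      calc h⁻¹ * c * h * (h⁻¹ * w * h) = h⁻¹ * (c * w) * h := by group
        _ = h⁻¹ * w * h * (h⁻¹ * c * h) := by rw [hZw c hc]; group
    rw [e1] at h3
    have h4 := s6 _ h2 s0 hd
    calc h⁻¹ * c * h * w = s0⁻¹ * (s0 * (h⁻¹ * c * h)) * w := by group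
      _ = s0⁻¹ * (h⁻¹ * c * h * (s0 * w)) := by rw [h4]; group
      _ = w * (h⁻¹ * c * h) := by rw [h3]; group
  -- step 8
  have hodd : ¬ 2 ∣ S.relIndex (normalizer (S : Set X) ⊓ K) := by
    intro hd
    apply R.not_dvd_index
    have e1 : (R : Subgroup K).index = S.relIndex K := by
      rw [hR, hS, Subgroup.inf_relIndex_right]
      rfl
    rw [e1, ← relIndex_mul_relIndex S (normalizer (S : Set X) ⊓ K) K
      (le_inf le_normalizer inf_le_right) inf_le_right]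
    exact hd.mul_right _
  have hSZ : S ≤ normalizer (Z : Set X) := by
    intro s hs
    apply centralizer_le_normalizer
    rw [mem_centralizer_iff]
    intro z hz
    exact (s6 z (hZV hz) s hs).symm
  have hcj : ∀ {g : X}, g ∈ (P : Subgroup X) → ∀ h ∈ normalizer (S : Set X) ⊓ K,
      g * h * g⁻¹ ∈ normalizer (S : Set X) ⊓ K := by
    intro g hg h hh
    obtain ⟨hhS, hhK⟩ := mem_inf.1 hh
    exact mem_inf.2 ⟨mul_mem (mul_mem (hNS hg) hhS) (inv_mem (hNS hg)), hconj' g h hhK⟩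
  have s8 : normalizer (S : Set X) ⊓ K ≤ normalizer (Z : Set X) :=
    le_of_klein_mod inf_le_left hSZ hodd hx2 hy2 hxy (hNS hxP) (hNS hyP)
      (hcj hxP) (hcj hyP) (s7 x hCx hZx) (s7 y hCy hZy)
      (s7 (x * y) hCxy (fun z hz => by
        calc z * (x * y) = (z * x) * y := by group
          _ = x * (z * y) := by rw [hZx z hz]; group
          _ = x * y * z := by rw [hZy z hz]; group))
  -- step 9
  have hcR : ∀ v : X, (hv : v ∈ V) → (⟨v, hVK hv⟩ : K) ∈ centralizer ((R : Subgroup K) : Set K) := by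
    intro v hv
    rw [mem_centralizer_iff]
    intro s hs
    have hsP : (s : X) ∈ (P : Subgroup X) := by
      have hs' : s ∈ (P : Subgroup X).subgroupOf K := hR ▸ hs
      rwa [mem_subgroupOf] at hs'
    exact Subtype.ext (s6 v hv s (mem_inf.2 ⟨hsP, s.2⟩))
  have s9 : ∀ z ∈ Z ⊓ K, ∀ g ∈ K, g * z * g⁻¹ ∈ (P : Subgroup X) → g * z * g⁻¹ ∈ Z := by
    intro z hz g hg hgz
    have hzV := hZV (mem_inf.1 hz).1
    have h1 := hV.2 z hzV g hgz
    obtain ⟨n, hn, e⟩ := R.conj_eq_normalizer_conj_of_mem_centralizer ⟨z, hVK hzV⟩ ⟨g⁻¹, inv_mem hg⟩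
      (hcR z hzV) (by
        have h2 := hcR _ h1
        have e2 : (⟨g⁻¹, inv_mem hg⟩ : K)⁻¹ * ⟨z, hVK hzV⟩ * (⟨g⁻¹, inv_mem hg⟩ : K) =
            ⟨g * z * g⁻¹, hVK h1⟩ := by
          apply Subtype.ext
          show g⁻¹⁻¹ * z * g⁻¹ = g * z * g⁻¹
          rw [inv_inv]
        rw [e2]
        exact h2)
    have e' : g⁻¹⁻¹ * z * g⁻¹ = (n : X)⁻¹ * z * n := congrArg Subtype.val e
    rw [inv_inv] at e'
    have hnN : (n : X) ∈ normalizer (S : Set X) := by
      have h3 := coe_mem_normalizer_map.2 hn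
      rwa [hR, subgroupOf_map_subtype] at h3
    have h4 := conj_mem_of_mem_normalizer (inv_mem (s8 (mem_inf.2 ⟨hnN, n.2⟩))) (mem_inf.1 hz).1
    rw [inv_inv] at h4
    rw [e']
    exact h4
  -- step 10
  apply hZ1
  intro v hv
  obtain ⟨q, hq, c, hc, e⟩ := ((ctx hK).min_plus h1169 h1171 hbend P (A := Z)
    (inf_le_left.trans (hZV.trans hV.1)) s9
    (fun x hx y hy => by
      rw [hVc x (hZV (mem_inf.1 hx).1) y (hZV (mem_inf.1 hy).1)]
      have : y * x * x⁻¹ * y⁻¹ = 1 := by group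
      rw [this]; exact one_mem _)
    (fun x hx => by rw [hV2 x (hZV (mem_inf.1 hx).1)]; exact one_mem _)
    (fun h0 => hz01 (hVC z0 (hZV hz0) (h0 (mem_inf.2 ⟨hz0, hVK (hZV hz0)⟩))))
    (t := v) (hVS hv) (by rw [hV2 v hv]; exact one_mem _)).1
  have hcV : c ∈ V := by
    have h1 : c = q⁻¹ * v := by rw [e]; group
    rw [h1]
    exact mul_mem (inv_mem (hZV (mem_inf.1 hq).1)) hv
  have hc1 := hVC c hcV (mem_inf.1 hc).2
  rw [e, hc1, mul_one]
  exact (mem_inf.1 hq).1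

end Cfsg.Agent.HexGlob.CompFour
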