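import Mathlib
import Cfsg.Agent.HexGlob.Facts

/-!
# Fusion of involutions (piece F = [G4]), part 1

`D0`: the conjugates of the nontrivial elements of `V = E2` under `N_G(Da)`.  `D0` is the set of elements of
`S` conjugate to an element of `V#`; no element of `F0 - E2` is conjugate to an element of `E2`.
-/

set_option autoImplicit false

namespace Cfsg.Agent.HexGlob.InvolFus

open Cfsg.Agent.HexRec Cfsg.Agent.HexEss Subgroup Cfsg.Agent.Lib.GoldschmidtFusion Cfsg.Agent.Lib.EssDefs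

universe u v

variable {F K : Type v} [Field F] [Field K] [Algebra F K] {C : Cubic F K}
variable {G : Type u} [Group G]

section

variable [Finite G] {S : Sylow 2 G} {co : Coord C (S : Subgroup G)}

theorem S_le_Da : (S : Subgroup G) ≤ normalizer ((Da co : Subgroup G) : Set G) :=
  le_normalizer_of fun n hn x hx => by
    rw [conj_eq_cm_mul]
    exact mul_mem (RR_le_Da (cm_mem_RR hn hx.1)) hx

theorem S_le_Db : (S : Subgroup G) ≤ normalizer ((Db co : Subgroup G) : Set G) :=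
  le_normalizer_of fun n hn x hx => by
    rw [conj_eq_cm_mul]
    exact mul_mem (RR_le_Db (cm_mem_RR hn hx.1)) hx

theorem S_le_E2 : (S : Subgroup G) ≤ normalizer ((E2 co : Subgroup G) : Set G) :=
  le_normalizer_of fun n hn x hx => by
    rw [conj_eq_cm_mul]
    exact mul_mem (Z_le_E2 (cm_mem_Z hn hx)) hx

theorem S_le_F0 : (S : Subgroup G) ≤ normalizer ((F0 co : Subgroup G) : Set G) :=
  le_normalizer_of fun n hn x hx => by
    rw [conj_eq_cm_mul]
    exact mul_mem (E2_le_F0 (cm_mem_E2 hn hx)) hx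

theorem L1_le : L1 S co ≤ normalizer ((Da co : Subgroup G) : Set G) := conjClosure_le_self S_le_Da

theorem L2_le : L2 S co ≤ normalizer ((Db co : Subgroup G) : Set G) := conjClosure_le_self S_le_Db

theorem S_le_L1 : (S : Subgroup G) ≤ L1 S co := le_conjClosure _ _

theorem S_le_L2 : (S : Subgroup G) ≤ L2 S co := le_conjClosure _ _

/-- Frattini: `N_G(Da) = L₁ N_G(S)` -/
theorem exists_L1_mul {n : G} (hn : n ∈ normalizer ((Da co : Subgroup G) : Set G)) :
    ∃ l ∈ L1 S co, ∃ m ∈ normalizer ((S : Subgroup G) : Set G), n = l * m := by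
  obtain ⟨r, hr, hrn⟩ := TypeL3.exists_conj_normalizer S (S_le_L1 (co := co)) (g := n)
    (fun r hr => conj_mem_of_le (le_normalizer_conjClosure _ _) hn hr)
  exact ⟨r⁻¹, inv_mem hr, r * n, hrn, by group⟩

/-- Frattini: `N_G(Db) = L₂ N_G(S)` -/
theorem exists_L2_mul {n : G} (hn : n ∈ normalizer ((Db co : Subgroup G) : Set G)) :
    ∃ l ∈ L2 S co, ∃ m ∈ normalizer ((S : Subgroup G) : Set G), n = l * m := by
  obtain ⟨r, hr, hrn⟩ := TypeL3.exists_conj_normalizer S (S_le_L2 (co := co)) (g := n)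
    (fun r hr => conj_mem_of_le (le_normalizer_conjClosure _ _) hn hr)
  exact ⟨r⁻¹, inv_mem hr, r * n, hrn, by group⟩

/-- the conjugates of the nontrivial elements of `V` under `N_G(Da)` -/
def D0 (co : Coord C (S : Subgroup G)) : Set G :=
  {x | ∃ n ∈ normalizer ((Da co : Subgroup G) : Set G), ∃ v ∈ E2 co, v ≠ 1 ∧ x = n * v * n⁻¹}

theorem D0_of_E2 {v : G} (hv : v ∈ E2 co) (h1 : v ≠ 1) : v ∈ D0 co := ⟨1, one_mem _, v, hv, h1, by group⟩

theorem D0_le_Da {x : G} (hx : x ∈ D0 co) : x ∈ Da co := by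
  obtain ⟨n, hn, v, hv, -, rfl⟩ := hx
  exact conj_mem_of_le le_rfl hn (E2_le_Da hv)

/-- `D0 ∩ Db = V#` -/
theorem E2_of_D0 (h1 : Out1 S co) (hD : Dat C) {x : G} (hx : x ∈ D0 co) (hxb : x ∈ Db co) : x ∈ E2 co := by
  have hxa := D0_le_Da hx
  obtain ⟨n, hn, v, hv, -, rfl⟩ := hx
  obtain ⟨l, hl, m, hm, rfl⟩ := exists_L1_mul hn
  have hv' : m * v * m⁻¹ ∈ E2 co := conj_mem_of_le (Facts.le_normalizer_E2_of_P hD le_rfl) hm hv
  have e : l * m * v * (l * m)⁻¹ = l * (m * v * m⁻¹) * l⁻¹ := by group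
  rw [e] at hxa hxb ⊢
  by_cases hlV : l ∈ normalizer ((E2 co : Subgroup G) : Set G)
  · exact conj_mem_of_le le_rfl hlV hv'
  · have hz := h1.f1 l hl hlV _ hv' ⟨hxa.1, hxa.2, hxb.2⟩
    rw [h1.cent l hl _ hz, mul_inv_cancel_right]
    exact hv'

/-- `D0` is a union of fusion classes of `S` -/
theorem D0_fusion (hE : HEss.{u, v} C) (h1 : Out1 S co) (hD : Dat C) {x g : G} (hx : x ∈ (S : Subgroup G))
    (hg : g * x * g⁻¹ ∈ (S : Subgroup G)) : g * x * g⁻¹ ∈ D0 co ↔ x ∈ D0 co := by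
  have hgen := Lib.EssBridge.gen_of_conj S (fun X => X = (S : Subgroup G) ∨ X = Da co ∨ X = Db co) (Or.inl rfl)
    (fun X hX => by
      rcases hE G S co X hX with h | h
      · exact Or.inr (Or.inl h)
      · exact Or.inr (Or.inr h)) (zpowers_le.2 hx) (zpowers_map_conj_le (P := (S : Subgroup G)) hg)
  have key : ∀ X : Subgroup G, (X = (S : Subgroup G) ∨ X = Da co ∨ X = Db co) → ∀ g ∈ normalizer (X : Set G),
      ∀ x ∈ X, x ∈ D0 co → g * x * g⁻¹ ∈ D0 co := by
    rintro X hX g hg x hx hxD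
    have hDa : ∀ g ∈ normalizer ((Da co : Subgroup G) : Set G), g * x * g⁻¹ ∈ D0 co := by
      intro g hg
      obtain ⟨n, hn, v, hv, hv1, rfl⟩ := hxD
      exact ⟨g * n, mul_mem hg hn, v, hv, hv1, by group⟩
    rcases hX with rfl | rfl | rfl
    · exact hDa g ((Facts.le_normalizer_Da_of_P hD le_rfl hg))
    · exact hDa g hg
    · have hxV := E2_of_D0 h1 hD hxD hx
      have hx1 : x ≠ 1 := by
        obtain ⟨n, hn, v, hv, hv1, rfl⟩ := hxD
        intro h
        apply hv1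
        have := congrArg (fun t => n⁻¹ * t * n) h
        simpa [mul_assoc] using this
      refine D0_of_E2 (conj_mem_of_le (Facts.le_normalizer_E2_of_Db le_rfl) hg hxV) fun h => hx1 ?_
      have := congrArg (fun t => g⁻¹ * t * g) h
      simpa [mul_assoc] using this
  have hinv := hgen.invariant (fun x => x ∈ D0 co) (fun X _ hX g hg x hx => by
    apply propext
    constructor
    · intro h
      have h2 := key X hX g⁻¹ (inv_mem hg) (g * x * g⁻¹) (conj_mem_of_le le_rfl hg hx) h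
      have e : g⁻¹ * (g * x * g⁻¹) * g⁻¹⁻¹ = x := by group
      rwa [e] at h2
    · exact key X hX g hg x hx) x (mem_zpowers x)
  exact iff_of_eq hinv

/-- the elements of `S` conjugate to an element of `V#` are those of `D0` -/
theorem D0_of_conj (hE : HEss.{u, v} C) (h1 : Out1 S co) (hD : Dat C) {v g : G} (hv : v ∈ E2 co) (hv1 : v ≠ 1)
    (hg : g * v * g⁻¹ ∈ (S : Subgroup G)) : g * v * g⁻¹ ∈ D0 co :=
  (D0_fusion hE h1 hD hv.1 hg).2 (D0_of_E2 hv hv1)

/-- a conjugate in `Db` of an element of `V` is in `V` -/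
theorem E2_of_conj (hE : HEss.{u, v} C) (h1 : Out1 S co) (hD : Dat C) {v g : G} (hv : v ∈ E2 co)
    (hg : g * v * g⁻¹ ∈ Db co) : g * v * g⁻¹ ∈ E2 co := by
  by_cases hv1 : v = 1
  · rw [hv1]; simp [one_mem]
  · exact E2_of_D0 h1 hD (D0_of_conj hE h1 hD hv hv1 hg.1) hg

/-- no element of `W - V` is conjugate to an element of `V` -/
theorem F0_not_conj (hE : HEss.{u, v} C) (h1 : Out1 S co) (hD : Dat C) {w v g : G} (hw : w ∈ F0 co)
    (hwV : w ∉ E2 co) (hv : v ∈ E2 co) : g * v * g⁻¹ ≠ w := by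
  rintro rfl
  exact hwV (E2_of_conj hE h1 hD hv (F0_le_Db hw))

end

end Cfsg.Agent.HexGlob.InvolFus
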