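import Mathlib
import Cfsg.Agent.HexGlob.InvolFus
import Cfsg.Agent.HexGlob.LevSpec

/-!
# Involutions (piece F = [G4]), part 2

Every involution of `S` is conjugate in `⟨L₁, L₂⟩` to an element of `W = F0`; the elements of `W - V` are
`S`-conjugate to elements of `U₃`; `C_S(u)` is Sylow in `C_G(u)` for `u ∈ W - V`.
-/

set_option autoImplicit false

namespace Cfsg.Agent.HexGlob.Invol

open Cfsg.Agent.HexRec Cfsg.Agent.HexEss Subgroup Cfsg.Agent.Lib.GoldschmidtFusion Cfsg.Agent.Lib.EssDefs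
open Cfsg.Agent.HexGlob.InvolFus

universe u v

variable {F K : Type v} [Field F] [Field K] [Algebra F K] {C : Cubic F K}
variable {G : Type u} [Group G]

/-! ### Coordinates -/

section coords

variable [Finite G] {P : Subgroup G} {co : Coord C P}

omit [Finite G] in
theorem eq_of_cm {s t v : G} (h : s * v * s⁻¹ = t * v * t⁻¹) : cm s v = cm t v := by
  unfold cm; rw [h]

omit [Finite G] in
theorem conj_eq_iff {s t v : G} : s * v * s⁻¹ = t * v * t⁻¹ ↔ cm s v = cm t v := by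
  refine ⟨eq_of_cm, fun h => ?_⟩
  unfold cm at h
  exact mul_right_cancel h

/-- coordinates of the commutator with an element of `F0` -/
theorem cm_F0_coords {g h : G} (hg : g ∈ P) (hh : h ∈ F0 co) : cx co (cm g h) =
    ⟨0, C.T (cx co g).a1 (cx co h).a3, 0, (cx co g).a6 * (cx co h).a2 + C.T (cx co g).a5 (cx co h).a3, 0, 0⟩ :=
  Tup.ext (a1_cm hg hh.1) (a2_cm_F0 hg hh.1 hh.2.1 hh.2.2.1 hh.2.2.2)
    (a3_cm_F0 hg hh.1 hh.2.1 hh.2.2.1 hh.2.2.2) (a4_cm_F0 hg hh.1 hh.2.1 hh.2.2.1 hh.2.2.2)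
    (a5_cm_R hg hh.1 hh.2.1 hh.2.2.2) (a6_cm hg hh.1)

/-- an element of `W - V` is `S`-conjugate to an element of `U₃` -/
theorem exists_conj_x3 {w : G} (hw : w ∈ F0 co) (hwV : w ∉ E2 co) :
    (cx co w).a3 ≠ 0 ∧ ∃ s ∈ P, cx co (s * w * s⁻¹) = ⟨0, 0, (cx co w).a3, 0, 0, 0⟩ := by
  have h3 : (cx co w).a3 ≠ 0 := fun h => hwV ⟨hw.1, hw.2.1, h, hw.2.2.1, hw.2.2.2⟩
  refine ⟨h3, ?_⟩
  obtain ⟨t, ht⟩ := C.exists_T_eq h3 (cx co w).a2
  obtain ⟨t', ht'⟩ := C.exists_T_eq h3 (cx co w).a4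
  obtain ⟨s, hs, hsc⟩ := exists_cx (co := co) ⟨t, 0, 0, 0, t', 0⟩
  refine ⟨s, hs, ?_⟩
  have h1 := cm_F0_coords (co := co) hs hw
  rw [hsc] at h1
  simp only [zero_mul, zero_add] at h1
  rw [C.T_comm t, C.T_comm t', ht, ht'] at h1
  rw [conj_eq_cm_mul, cx_mul (cm_mem hs hw.1) hw.1, h1]
  obtain ⟨hw0, hw1, hw5, hw6⟩ := hw
  apply Tup.ext <;> simp [Cubic.mul, hw1, hw5, hw6, C.T_zero_left, C.T_zero_right, C.sh_zero, C.N_zero,
    C.cr_zero_left, C.add_self]

/-- `[g, v] ` for `v ∈ Db`, `g ∈ F0` -/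
theorem cm_F0_left {g v : G} (hg : g ∈ F0 co) (hv : v ∈ P) : cx co (cm g v) =
    ⟨0, C.T (cx co v).a1 (cx co g).a3, 0, (cx co v).a6 * (cx co g).a2 + C.T (cx co v).a5 (cx co g).a3, 0, 0⟩ := by
  have h1 := cm_F0_coords (co := co) hv hg
  have h2 : cm v g * cm g v = 1 := by unfold cm; group
  have h3 := cm_mem_E2 (co := co) hv hg
  have h4 : cm g v ∈ E2 co := by rw [cm_swap]; exact inv_mem h3
  have h5 : cx co (cm v g * cm g v) = ⟨0, 0, 0, 0, 0, 0⟩ := by rw [h2, cx_one]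
  rw [cx_mul h3.1 h4.1, h1] at h5
  have e2 := congrArg Tup.a2 h5
  have e4 := congrArg Tup.a4 h5
  obtain ⟨h40, h41, h43, h45, h46⟩ := h4
  simp only [Cubic.mul, h41, h43, h45, h46, C.T_zero_left, C.T_zero_right, C.sh_zero, C.N_zero, mul_zero, zero_mul,
    add_zero, ne_eq, OfNat.ofNat_ne_zero, not_false_eq_true, zero_pow] at e2 e4
  refine Tup.ext h41 ?_ h43 ?_ h45 h46
  · exact (C.eq_of_add_eq_zero e2).symm
  · exact (C.eq_of_add_eq_zero e4).symm

end coords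

/-! ### Number of conjugates in `S` -/

section count

variable [Finite G] {P : Subgroup G} {co : Coord C P}

theorem card_ge_of_inj {v : G} (s : F × F → G) (hs : ∀ p, s p ∈ P) (hinj : ∀ p p', cm (s p) v = cm (s p') v → p = p') :
    Nat.card F ^ 2 * Nat.card (P ⊓ centralizer {v} : Subgroup G) ≤ Nat.card P := by
  have e : Nat.card F ^ 2 = Nat.card (F × F) := by rw [Nat.card_prod, pow_two]
  rw [e, ← Nat.card_prod]
  apply Nat.card_le_card_of_injective (fun p : (F × F) × (P ⊓ centralizer {v} : Subgroup G) =>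
    (⟨s p.1 * p.2, mul_mem (hs _) (p.2.2).1⟩ : P))
  rintro ⟨p, c⟩ ⟨p', c'⟩ h
  have h1 : s p * (c : G) = s p' * (c' : G) := congrArg Subtype.val h
  have hc : (c : G) * v = v * c := (mem_centralizer_singleton_iff.1 c.2.2)
  have hc' : (c' : G) * v = v * c' := (mem_centralizer_singleton_iff.1 c'.2.2)
  have h2 : cm (s p) v = cm (s p') v := by
    rw [← conj_eq_iff]
    calc s p * v * (s p)⁻¹ = s p * (v * c) * (s p * c)⁻¹ := by group
      _ = (s p * c) * v * (s p * c)⁻¹ := by rw [← hc]; group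
      _ = (s p' * c') * v * (s p' * c')⁻¹ := by rw [h1]
      _ = s p' * (v * c') * (s p' * c')⁻¹ := by rw [← hc']; group
      _ = s p' * v * (s p')⁻¹ := by group
  have h3 : p = p' := hinj _ _ h2
  subst h3
  have h4 : c = c' := Subtype.ext (mul_left_cancel h1)
  rw [h4]

theorem card_F0 {u : G} (hu : u ∈ F0 co) :
    Nat.card P ≤ Nat.card F ^ 2 * Nat.card (P ⊓ centralizer {u} : Subgroup G) := by
  have hF := Abel.finite_F co
  have e : Nat.card F ^ 2 = Nat.card (F × F) := by rw [Nat.card_prod, pow_two]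
  have h1 := Abel.card_le_image (A := P) (Z := (P ⊓ centralizer {u} : Subgroup G))
    (fun g => ((cx co (cm g u)).a2, (cx co (cm g u)).a4)) (fun g hg h hh he => by
      refine mem_inf.2 ⟨mul_mem (inv_mem hg) hh, ?_⟩
      have hg' := cm_mem_E2 (co := co) hg hu
      have hh' := cm_mem_E2 (co := co) hh hu
      have h2 : cm g u = cm h u := by
        apply cx_inj (co := co) hg'.1 hh'.1
        have e2 := congrArg Prod.fst he
        have e4 := congrArg Prod.snd he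
        exact Tup.ext (hg'.2.1.trans hh'.2.1.symm) e2 (hg'.2.2.1.trans hh'.2.2.1.symm) e4
          (hg'.2.2.2.1.trans hh'.2.2.2.1.symm) (hg'.2.2.2.2.trans hh'.2.2.2.2.symm)
      rw [← conj_eq_iff] at h2
      rw [mem_centralizer_singleton_iff]
      calc g⁻¹ * h * u = g⁻¹ * (h * u * h⁻¹) * h := by group
        _ = g⁻¹ * (g * u * g⁻¹) * h := by rw [h2]
        _ = u * (g⁻¹ * h) := by group)
  refine h1.trans (Nat.mul_le_mul_right _ ?_)
  rw [e]
  exact Nat.card_le_card_of_injective (fun x => x.1) Subtype.val_injective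

/-- an involution of `S - V` has at least `q²` conjugates in `S` -/
theorem card_ge (hR : Reg C) {v : G} (hv : v ∈ P) (hvv : v * v = 1) (hvV : v ∉ E2 co) :
    Nat.card F ^ 2 * Nat.card (P ⊓ centralizer {v} : Subgroup G) ≤ Nat.card P := by
  have e5 : (cx co v).a6 • (cx co v).a1 = 0 := by rw [← a5_sq hv, hvv, cx_one]
  by_cases h6 : (cx co v).a6 = 0
  swap
  · -- `v ∈ Da - RR`
    have h1 : (cx co v).a1 = 0 := (smul_eq_zero.1 e5).resolve_left h6
    have hvDa : v ∈ Da co := ⟨hv, h1⟩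
    have hvZ : v ∉ Z co := fun h => h6 h.2.2.2.2.2
    choose z hz hzc using fun d : F => exists_cx (co := co) ⟨0, 0, 0, d, 0, 0⟩
    have hzZ : ∀ d, z d ∈ Z co := fun d => ⟨hz d, by rw [hzc], by rw [hzc], by rw [hzc], by rw [hzc], by rw [hzc]⟩
    choose t ht htc using fun d : F => Abel.exists_cm_Da hvDa hvZ (hzZ d)
    choose x hx hxc using fun c : F => exists_cx (co := co) ⟨algebraMap F K c, 0, 0, 0, 0, 0⟩
    refine card_ge_of_inj (fun p => x p.1 * t p.2) (fun p => mul_mem (hx _) (ht _).1) ?_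
    have key : ∀ p : F × F, cm (x p.1 * t p.2) v = z p.2 * cm (x p.1) v := by
      intro p
      have e : cm (x p.1 * t p.2) v = x p.1 * cm (t p.2) v * (x p.1)⁻¹ * cm (x p.1) v := by unfold cm; group
      rw [e, htc, cm_eq_one.1 (cm_Z (hx p.1) (hzZ p.2)), mul_inv_cancel_right]
    rintro ⟨c, d⟩ ⟨c', d'⟩ h
    rw [key, key] at h
    simp only at h
    have hmem : ∀ c, cm (x c) v ∈ P := fun c => cm_mem (hx c) hv
    have h5 := congrArg (fun y => (cx co y).a5) h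
    rw [a5_mul (hz d) (hmem c), a5_mul (hz d') (hmem c'), hzc, hzc, a5_cm_Da (hx c) hv h1,
      a5_cm_Da (hx c') hv h1, hxc, hxc] at h5
    simp only [zero_smul, add_zero, zero_add] at h5
    have h7 : c = c' := by
      have h8 := smul_right_injective K h6 h5
      exact (algebraMap F K).injective h8
    subst h7
    have h9 := mul_right_cancel h
    have h10 := congrArg (fun y => (cx co y).a4) h9
    simp only [hzc] at h10
    rw [h10]
  by_cases h1 : (cx co v).a1 = 0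
  swap
  · -- `v ∈ Db - RR`
    obtain ⟨k0, hk0⟩ := C.exists_T_eq h1 1
    choose t ht htc using fun d : F => exists_cx (co := co) ⟨0, 0, d • k0, 0, 0, 0⟩
    have htF : ∀ d, t d ∈ F0 co := fun d => ⟨ht d, by rw [htc], by rw [htc], by rw [htc]⟩
    choose x hx hxc using fun c : F => exists_cx (co := co) ⟨0, 0, 0, 0, 0, c⟩
    refine card_ge_of_inj (fun p => x p.1 * t p.2) (fun p => mul_mem (hx _) (ht _)) ?_
    have key : ∀ p : F × F, cm (x p.1 * t p.2) v = (x p.1 * cm (t p.2) v * (x p.1)⁻¹) * cm (x p.1) v := by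
      intro p; unfold cm; group
    have hcmt : ∀ d, cm (t d) v ∈ E2 co := fun d => by
      rw [cm_swap]; exact inv_mem (cm_mem_E2 hv (htF d))
    have hcmt' : ∀ c d, x c * cm (t d) v * (x c)⁻¹ ∈ E2 co := fun c d => by
      rw [conj_eq_cm_mul]
      exact mul_mem (Z_le_E2 (cm_mem_Z (hx c) (hcmt d))) (hcmt d)
    rintro ⟨c, d⟩ ⟨c', d'⟩ h
    rw [key, key] at h
    simp only at h
    have hmem : ∀ c, cm (x c) v ∈ P := fun c => cm_mem (hx c) hv
    have h5 := congrArg (fun y => (cx co y).a5) h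
    rw [a5_mul (hcmt' c d).1 (hmem c), a5_mul (hcmt' c' d').1 (hmem c'), (hcmt' c d).2.2.2.1, (hcmt' c' d').2.2.2.1,
      (hcmt' c d).2.2.2.2, (hcmt' c' d').2.2.2.2, a5_cm (hx c) hv, a5_cm (hx c') hv, hxc, hxc, h6] at h5
    simp only [zero_smul, add_zero, zero_add] at h5
    have h7 : c = c' := by
      by_contra hne
      have h8 : (c - c') • (cx co v).a1 = 0 := by rw [sub_smul, h5, sub_self]
      rcases smul_eq_zero.1 h8 with h9 | h9
      · exact hne (sub_eq_zero.1 h9)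
      · exact h1 h9
    subst h7
    have h9 := mul_right_cancel h
    have h10 : cm (t d) v = cm (t d') v := mul_left_cancel (mul_right_cancel h9)
    have h11 := congrArg (fun y => (cx co y).a2) h10
    simp only [cm_F0_left (htF _) hv, htc, C.T_smul_right, hk0, mul_one] at h11
    rw [h11]
  by_cases h5 : (cx co v).a5 = 0
  · -- `v ∈ F0 - E2`
    have hvF : v ∈ F0 co := ⟨hv, h1, h5, h6⟩
    have h3 : (cx co v).a3 ≠ 0 := fun h => hvV ⟨hv, h1, h, h5, h6⟩
    obtain ⟨t0, ht0⟩ := C.exists_T_eq h3 1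
    choose s hs hsc using fun p : F × F => exists_cx (co := co) ⟨p.1 • t0, 0, 0, 0, p.2 • t0, 0⟩
    refine card_ge_of_inj s hs ?_
    rintro ⟨c, d⟩ ⟨c', d'⟩ h
    have h7 := congrArg (cx co) h
    rw [cm_F0_coords (hs _) hvF, cm_F0_coords (hs _) hvF, hsc, hsc] at h7
    have e2 := congrArg Tup.a2 h7
    have e4 := congrArg Tup.a4 h7
    simp only [C.T_smul_left, C.T_comm t0, ht0, mul_one, zero_mul, zero_add] at e2 e4
    rw [e2, e4]
  · -- `v ∈ RR - F0`
    have hvDa : v ∈ Da co := ⟨hv, h1⟩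
    have hvZ : v ∉ Z co := fun h => h5 h.2.2.2.2.1
    choose z hz hzc using fun d : F => exists_cx (co := co) ⟨0, 0, 0, d, 0, 0⟩
    have hzZ : ∀ d, z d ∈ Z co := fun d => ⟨hz d, by rw [hzc], by rw [hzc], by rw [hzc], by rw [hzc], by rw [hzc]⟩
    choose t ht htc using fun d : F => Abel.exists_cm_Da hvDa hvZ (hzZ d)
    have e4 : C.T (cx co v).a3 (cx co v).a5 = 0 := by
      have := a4_sq_Da hv h1
      rw [hvv, cx_one, h6, zero_mul, zero_add] at this
      exact this.symm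
    -- a line in `K` on which `t ↦ [x₁(t), v]` is injective modulo `Z`
    obtain ⟨t0, ht0⟩ : ∃ t0 : K, ∀ c c' : F, C.cr (c • t0) (cx co v).a5 = C.cr (c' • t0) (cx co v).a5 →
        C.T (c • t0) (cx co v).a3 + C.T (C.sh (c • t0)) (cx co v).a5 =
        C.T (c' • t0) (cx co v).a3 + C.T (C.sh (c' • t0)) (cx co v).a5 → c = c' := by
      by_cases hcr : ∃ t0, C.cr t0 (cx co v).a5 ≠ 0
      · obtain ⟨t0, ht0⟩ := hcr
        refine ⟨t0, fun c c' h _ => ?_⟩
        rw [cr_smul_left, cr_smul_left] at h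
        by_contra hne
        have h8 : (c - c') • C.cr t0 (cx co v).a5 = 0 := by rw [sub_smul, h, sub_self]
        rcases smul_eq_zero.1 h8 with h9 | h9
        · exact hne (sub_eq_zero.1 h9)
        · exact ht0 h9
      · push Not at hcr
        -- then `K = F a5`
        have hK : ∀ s : K, ∃ f : F, s = f • (cx co v).a5 := fun s =>
          exists_smul_of_cr_eq_zero hR h5 (by rw [C.cr_comm]; exact hcr s)
        have h3 : (cx co v).a3 = 0 := by
          apply C.T_nondeg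
          intro b
          obtain ⟨f, rfl⟩ := hK b
          rw [C.T_smul_right, e4, mul_zero]
        refine ⟨(cx co v).a5, fun c c' _ h => ?_⟩
        rw [h3, C.T_zero_right, C.T_zero_right, zero_add, zero_add, C.sh_smul, C.sh_smul, C.T_smul_left,
          C.T_smul_left, C.T_sh_self] at h
        have h8 := mul_right_cancel₀ (C.N_ne_zero h5) h
        have h9 : (c + c') ^ 2 = 0 := by
          have := C.add_self (c' ^ 2)
          have h2 := C.two_F
          linear_combination h8 + this + c * c' * h2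
        exact C.eq_of_add_eq_zero (pow_eq_zero_iff (two_ne_zero)|>.1 h9)
    choose x hx hxc using fun c : F => exists_cx (co := co) ⟨c • t0, 0, 0, 0, 0, 0⟩
    refine card_ge_of_inj (fun p => x p.1 * t p.2) (fun p => mul_mem (hx _) (ht _).1) ?_
    have key : ∀ p : F × F, cm (x p.1 * t p.2) v = z p.2 * cm (x p.1) v := by
      intro p
      have e : cm (x p.1 * t p.2) v = x p.1 * cm (t p.2) v * (x p.1)⁻¹ * cm (x p.1) v := by unfold cm; group
      rw [e, htc, cm_eq_one.1 (cm_Z (hx p.1) (hzZ p.2)), mul_inv_cancel_right]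
    rintro ⟨c, d⟩ ⟨c', d'⟩ h
    rw [key, key] at h
    simp only at h
    have hmem : ∀ c, cm (x c) v ∈ P := fun c => cm_mem (hx c) hv
    have h7 : c = c' := by
      apply ht0
      · have h8 := congrArg (fun y => (cx co y).a3) h
        rw [a3_mul (hz d) (hmem c), a3_mul (hz d') (hmem c'), a3_cm_R (hx c) hv h1 h6, a3_cm_R (hx c') hv h1 h6,
          a1_cm (hx c) hv, a1_cm (hx c') hv, hzc, hzc, hxc, hxc] at h8
        simpa [C.sh_zero, C.cr_zero_left] using h8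
      · have h8 := congrArg (fun y => (cx co y).a2) h
        rw [a2_mul (hz d) (hmem c), a2_mul (hz d') (hmem c'), a2_cm_R (hx c) hv h1 h6, a2_cm_R (hx c') hv h1 h6,
          a1_cm (hx c) hv, a1_cm (hx c') hv, hzc, hzc, hxc, hxc] at h8
        simpa [C.sh_zero, C.N_zero, C.T_zero_left] using h8
    subst h7
    have h9 := mul_right_cancel h
    have h10 := congrArg (fun y => (cx co y).a4) h9
    simp only [hzc] at h10
    rw [h10]

end count


/-! ### Involutions of `Db` -/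

section db

variable [Finite G] {S : Sylow 2 G} {co : Coord C (S : Subgroup G)}

/-- `N_G(Db)`-conjugates of `Z` other than `Z` are the lines `a4 = f a2` of `V`. -/
theorem exists_slope (hR : Reg C) (h2 : Out2 S co) {n : G} (hn : n ∈ normalizer ((Db co : Subgroup G) : Set G))
    (hnZ : n ∉ normalizer ((Z co : Subgroup G) : Set G)) :
    ∃ f : F, ∀ v : G, n⁻¹ * v * n ∈ Z co ↔ v ∈ E2 co ∧ (cx co v).a4 = f * (cx co v).a2 := by
  have hFfin := Abel.finite_F co
  -- an element of `RR^n` with `a1 ≠ 0`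
  have hnV := (Facts.le_normalizer_E2_of_Db (co := co) le_rfl) hn
  have hnW := h2.inv hn
  have hn' := inv_mem hn
  have hE2inv : ∀ v, n⁻¹ * v * n ∈ Z co → v ∈ E2 co := fun v hv => by
    have := conj_mem_of_le le_rfl hnV (Z_le_E2 hv)
    have e : n * (n⁻¹ * v * n) * n⁻¹ = v := by group
    rwa [e] at this
  -- `Z ∩ Z^n = 1`
  have hdisj : ∀ v, v ∈ Z co → n⁻¹ * v * n ∈ Z co → v = 1 := by
    intro v hv hv'
    by_contra hv1
    apply hnZ
    have h3 := h2.ti n⁻¹ hn' v hv hv1 (by rwa [inv_inv])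
    have := inv_mem h3
    rwa [inv_inv] at this
  obtain ⟨y, hy, hy1⟩ : ∃ y ∈ RR co, (cx co (n * y * n⁻¹)).a1 ≠ 0 := by
    by_contra hcon
    push Not at hcon
    -- then `RR^n = RR`, so `RR` centralises `F0` modulo `Z ∩ Z^n`
    obtain ⟨y, hy, hyc⟩ := exists_cx (co := co) ⟨0, 0, 0, 0, 1, 0⟩
    have hyR : y ∈ RR co := ⟨hy, by rw [hyc], by rw [hyc]⟩
    have hyn : n * y * n⁻¹ ∈ RR co := by
      have h3 := conj_mem_of_le le_rfl hn (RR_le_Db hyR)
      exact ⟨h3.1, hcon y hyR, h3.2⟩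
    obtain ⟨k, hk⟩ := C.exists_T_eq (one_ne_zero (α := K)) 1
    obtain ⟨w, hw, hwc⟩ := exists_cx (co := co) ⟨0, 0, k, 0, 0, 0⟩
    have hwF : w ∈ F0 co := ⟨hw, by rw [hwc], by rw [hwc], by rw [hwc]⟩
    have hwn := conj_mem_of_le le_rfl hnW hwF
    have h4 := Facts.mem_Z_of_RR_F0 hyR hwF
    have h5 := Facts.mem_Z_of_RR_F0 hyn hwn
    have e : n⁻¹ * cm (n * y * n⁻¹) (n * w * n⁻¹) * n = cm y w := by unfold cm; group
    have h6 := hdisj (cm (n * y * n⁻¹) (n * w * n⁻¹)) h5 (by rw [e]; exact h4)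
    rw [h6] at e
    have h7 : cm y w = 1 := by rw [← e]; group
    have h8 := congrArg Tup.a4 (cm_F0_coords (co := co) hy hwF)
    rw [h7, cx_one, hyc, hwc] at h8
    simp only [zero_mul, zero_add, hk] at h8
    exact one_ne_zero h8.symm
  set x := n * y * n⁻¹ with hx
  have hxDb : x ∈ Db co := conj_mem_of_le le_rfl hn (RR_le_Db hy)
  -- `x² ∈ V`
  have hyy : y * y ∈ E2 co := by
    refine ⟨mul_mem hy.1 hy.1, a1_sq hy.1, a3_sq_Da hy.1 hy.2.1, ?_, a6_sq hy.1⟩
    rw [a5_sq hy.1, hy.2.2, zero_smul]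
  have hxx : x * x ∈ E2 co := by
    have := conj_mem_of_le le_rfl hnV hyy
    have e : n * (y * y) * n⁻¹ = x * x := by rw [hx]; group
    rwa [e] at this
  obtain ⟨f, hf⟩ : ∃ f : F, (cx co x).a5 = f • (cx co x).a1 := by
    apply exists_smul_of_cr_eq_zero hR hy1
    rw [← a3_sq_Db hxDb.1 hxDb.2]
    exact hxx.2.2.1
  -- commutators `[x, w]`
  have hcm : ∀ w ∈ F0 co, n⁻¹ * cm x w * n ∈ Z co := by
    intro w hw
    have h3 : n⁻¹ * w * n ∈ F0 co := by
      have := conj_mem_of_le le_rfl (inv_mem hnW) hw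
      rwa [inv_inv] at this
    have h4 := Facts.mem_Z_of_RR_F0 hy h3
    have e : n⁻¹ * cm x w * n = cm y (n⁻¹ * w * n) := by rw [hx]; unfold cm; group
    rw [e]; exact h4
  have hcmc : ∀ w ∈ F0 co, (cx co (cm x w)).a4 = f * (cx co (cm x w)).a2 := by
    intro w hw
    rw [a4_cm_F0 hxDb.1 hw.1 hw.2.1 hw.2.2.1 hw.2.2.2, a2_cm_F0 hxDb.1 hw.1 hw.2.1 hw.2.2.1 hw.2.2.2, hxDb.2, hf,
      C.T_smul_left, zero_mul, zero_add]
  -- every element of the line is such a commutator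
  have hline : ∀ v ∈ E2 co, (cx co v).a4 = f * (cx co v).a2 → ∃ w ∈ F0 co, cm x w = v := by
    intro v hv hv4
    obtain ⟨k, hk⟩ := C.exists_T_eq hy1 (cx co v).a2
    obtain ⟨w, hw, hwc⟩ := exists_cx (co := co) ⟨0, 0, k, 0, 0, 0⟩
    have hwF : w ∈ F0 co := ⟨hw, by rw [hwc], by rw [hwc], by rw [hwc]⟩
    refine ⟨w, hwF, ?_⟩
    have h3 := cm_mem_E2 (co := co) hxDb.1 hwF
    apply cx_inj (co := co) h3.1 hv.1
    have h4 : (cx co (cm x w)).a2 = (cx co v).a2 := by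
      rw [a2_cm_F0 hxDb.1 hw hwF.2.1 hwF.2.2.1 hwF.2.2.2, hwc, hk]
    exact Tup.ext (h3.2.1.trans hv.2.1.symm) h4 (h3.2.2.1.trans hv.2.2.1.symm)
      (by rw [hcmc w hwF, hv4, h4]) (h3.2.2.2.1.trans hv.2.2.2.1.symm) (h3.2.2.2.2.trans hv.2.2.2.2.symm)
  refine ⟨f, fun v => ⟨fun hv => ?_, fun hv => ?_⟩⟩
  · have hvE := hE2inv v hv
    refine ⟨hvE, ?_⟩
    -- compare with the element `v'` of the line with the same `a2`
    obtain ⟨v', hv', hv'c⟩ := exists_cx (co := co) ⟨0, (cx co v).a2, 0, f * (cx co v).a2, 0, 0⟩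
    have hv'E : v' ∈ E2 co := ⟨hv', by rw [hv'c], by rw [hv'c], by rw [hv'c], by rw [hv'c]⟩
    obtain ⟨w, hw, hwv⟩ := hline v' hv'E (by rw [hv'c])
    have h3 := hcm w hw
    rw [hwv] at h3
    have h4 : v'⁻¹ * v ∈ E2 co := mul_mem (inv_mem hv'E) hvE
    have h5 : n⁻¹ * (v'⁻¹ * v) * n ∈ Z co := by
      have e : n⁻¹ * (v'⁻¹ * v) * n = (n⁻¹ * v' * n)⁻¹ * (n⁻¹ * v * n) := by group
      rw [e]; exact mul_mem (inv_mem h3) hv
    have h6 : v'⁻¹ * v ∈ Z co := by
      refine ⟨h4.1, h4.2.1, ?_, h4.2.2.1, h4.2.2.2.1, h4.2.2.2.2⟩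
      have h7 := a2_mul (co := co) hv'E.1 h4.1
      rw [mul_inv_cancel_left, h4.2.1, C.T_zero_left, C.sh_zero, C.T_zero_left, C.N_zero, mul_zero,
        add_zero, add_zero, add_zero, hv'c] at h7
      simpa using h7
    have h8 := hdisj _ h6 h5
    have h9 : v = v' := by rw [← mul_one v', ← h8]; group
    rw [h9, hv'c]
  · obtain ⟨w, hw, rfl⟩ := hline v hv.1 hv.2
    exact hcm w hw

/-- all the lines `a4 = f a2` of `V` are `L₂`-conjugates of `Z` -/
theorem exists_of_slope (hR : Reg C) (h2 : Out2 S co) (f : F) : ∃ n ∈ L2 S co,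
    ∀ v : G, n⁻¹ * v * n ∈ Z co ↔ v ∈ E2 co ∧ (cx co v).a4 = f * (cx co v).a2 := by
  obtain ⟨z, hz, hzc⟩ := exists_cx (co := co) ⟨0, 0, 0, 1, 0, 0⟩
  have hzZ : z ∈ Z co := ⟨hz, by rw [hzc], by rw [hzc], by rw [hzc], by rw [hzc], by rw [hzc]⟩
  have hz1 : z ≠ 1 := by
    rintro rfl
    rw [cx_one] at hzc
    exact one_ne_zero (congrArg Tup.a4 hzc).symm
  obtain ⟨v, hv, hvc⟩ := exists_cx (co := co) ⟨0, 1, 0, f, 0, 0⟩
  have hvE : v ∈ E2 co := ⟨hv, by rw [hvc], by rw [hvc], by rw [hvc], by rw [hvc]⟩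
  have hvZ : v ∉ Z co := fun h => one_ne_zero (α := F) (by
    have := h.2.2.1
    rwa [hvc] at this)
  have hv1 : v ≠ 1 := fun h => hvZ (h ▸ one_mem _)
  obtain ⟨n, hn, hnv⟩ := h2.trans z (Z_le_E2 hzZ) hz1 v hvE hv1
  have hnb := L2_le hn
  have hnZ : n ∉ normalizer ((Z co : Subgroup G) : Set G) := fun h => hvZ (by
    rw [← hnv]; exact conj_mem_of_le le_rfl h hzZ)
  obtain ⟨f', hf'⟩ := exists_slope hR h2 hnb hnZ
  have h3 : f = f' := by
    have h4 := ((hf' v).1 (by rw [← hnv]; have e : n⁻¹ * (n * z * n⁻¹) * n = z := by group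
                              rw [e]; exact hzZ)).2
    rw [hvc] at h4
    simpa using h4
  exact ⟨n, hn, h3 ▸ hf'⟩

/-- `{x ∈ Db : x² ∈ V}` is the union of the `L₂`-conjugates of `RR` -/
theorem exists_conj_RR (hR : Reg C) (h2 : Out2 S co) {x : G} (hx : x ∈ Db co) (hxx : (cx co (x * x)).a3 = 0) :
    ∃ n ∈ L2 S co, n⁻¹ * x * n ∈ RR co := by
  by_cases h1 : (cx co x).a1 = 0
  · refine ⟨1, one_mem _, ?_⟩
    have e : (1 : G)⁻¹ * x * 1 = x := by group
    rw [e]
    exact ⟨hx.1, h1, hx.2⟩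
  obtain ⟨f, hf⟩ : ∃ f : F, (cx co x).a5 = f • (cx co x).a1 := by
    apply exists_smul_of_cr_eq_zero hR h1
    rw [← a3_sq_Db hx.1 hx.2]
    exact hxx
  obtain ⟨n, hn, hnf⟩ := exists_of_slope hR h2 f
  have hnb := L2_le hn
  refine ⟨n, hn, ?_⟩
  have h3 : n⁻¹ * x * n ∈ Db co := by
    have := conj_mem_of_le le_rfl (inv_mem hnb) hx
    rwa [inv_inv] at this
  refine Facts.mem_RR_of_Db h3 fun w hw => ?_
  have hw' : n * w * n⁻¹ ∈ F0 co := conj_mem_of_le le_rfl (h2.inv hnb) hw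
  have e : cm (n⁻¹ * x * n) w = n⁻¹ * cm x (n * w * n⁻¹) * n := by unfold cm; group
  rw [e, hnf]
  refine ⟨cm_mem_E2 hx.1 hw', ?_⟩
  rw [a4_cm_F0 hx.1 hw'.1 hw'.2.1 hw'.2.2.1 hw'.2.2.2, a2_cm_F0 hx.1 hw'.1 hw'.2.1 hw'.2.2.1 hw'.2.2.2, hx.2, hf,
    C.T_smul_left, zero_mul, zero_add]

/-- every involution of `S` is conjugate under `⟨L₁, L₂⟩` to an element of `F0` -/
theorem exists_conj_F0 (hR : Reg C) (h1 : Out1 S co) (h2 : Out2 S co) {t : G} (ht : t ∈ (S : Subgroup G))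
    (htt : t * t = 1) : ∃ m ∈ L1 S co ⊔ L2 S co, m * t * m⁻¹ ∈ F0 co := by
  have e5 : (cx co t).a6 • (cx co t).a1 = 0 := by rw [← a5_sq ht, htt, cx_one]
  rcases smul_eq_zero.1 e5 with h6 | h6
  · obtain ⟨n, hn, hnx⟩ := exists_conj_RR hR h2 (x := t) ⟨ht, h6⟩ (by rw [htt, cx_one])
    have htt' : n⁻¹ * t * n * (n⁻¹ * t * n) = 1 := by
      have e : n⁻¹ * t * n * (n⁻¹ * t * n) = n⁻¹ * (t * t) * n := by group
      rw [e, htt]; group
    obtain ⟨g, hg, hgx⟩ := h1.sing _ (RR_le_Da hnx) htt'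
    refine ⟨g * n⁻¹, mul_mem (mem_sup_left hg) (mem_sup_right (inv_mem hn)), ?_⟩
    have e : g * n⁻¹ * t * (g * n⁻¹)⁻¹ = g * (n⁻¹ * t * n) * g⁻¹ := by group
    rw [e]; exact hgx
  · obtain ⟨g, hg, hgx⟩ := h1.sing t ⟨ht, h6⟩ htt
    exact ⟨g, mem_sup_left hg, hgx⟩

/-- **(F2)** every involution of `S` is conjugate under `⟨L₁, L₂⟩` to an element of `Z` or to some `x₃(k)` -/
theorem exists_conj (hR : Reg C) (h1 : Out1 S co) (h2 : Out2 S co) {t : G} (ht : t ∈ (S : Subgroup G))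
    (htt : t * t = 1) (ht1 : t ≠ 1) : ∃ m ∈ L1 S co ⊔ L2 S co,
      (m * t * m⁻¹ ∈ Z co ∧ m * t * m⁻¹ ≠ 1) ∨
      ∃ k : K, k ≠ 0 ∧ m * t * m⁻¹ = ((co.x3 k : (S : Subgroup G)) : G) := by
  obtain ⟨m, hm, hmt⟩ := exists_conj_F0 hR h1 h2 ht htt
  have hmt1 : m * t * m⁻¹ ≠ 1 := fun h => ht1 (by
    have := congrArg (fun y => m⁻¹ * y * m) h
    simpa [mul_assoc] using this)
  by_cases hE : m * t * m⁻¹ ∈ E2 co
  · obtain ⟨z, hz, hzc⟩ := exists_cx (co := co) ⟨0, 0, 0, 1, 0, 0⟩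
    have hzZ : z ∈ Z co := ⟨hz, by rw [hzc], by rw [hzc], by rw [hzc], by rw [hzc], by rw [hzc]⟩
    have hz1 : z ≠ 1 := by
      rintro rfl
      rw [cx_one] at hzc
      exact one_ne_zero (congrArg Tup.a4 hzc).symm
    obtain ⟨l, hl, hlz⟩ := h2.trans _ hE hmt1 z (Z_le_E2 hzZ) hz1
    refine ⟨l * m, mul_mem (mem_sup_right hl) hm, Or.inl ?_⟩
    have e : l * m * t * (l * m)⁻¹ = z := by rw [← hlz]; group
    rw [e]
    exact ⟨hzZ, hz1⟩
  · obtain ⟨h3, s, hs, hsc⟩ := exists_conj_x3 hmt hE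
    refine ⟨s * m, mul_mem (mem_sup_left (S_le_L1 hs)) hm, Or.inr ⟨_, h3, ?_⟩⟩
    have e : s * m * t * (s * m)⁻¹ = s * (m * t * m⁻¹) * s⁻¹ := by group
    rw [e]
    apply cx_inj (co := co) (mul_mem (mul_mem hs hmt.1) (inv_mem hs)) (co.x3 _).2
    rw [hsc, cx_eq (co.x3 _).2]
    exact (co.e_x3 _).symm

theorem x3_mem (k : K) : ((co.x3 k : (S : Subgroup G)) : G) ∈ F0 co := by
  have h : cx co ((co.x3 k : (S : Subgroup G)) : G) = ⟨0, 0, k, 0, 0, 0⟩ := by
    rw [cx_eq (co.x3 k).2]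
    exact co.e_x3 k
  exact ⟨(co.x3 k).2, by rw [h], by rw [h], by rw [h]⟩

theorem x3_notMem {k : K} (hk : k ≠ 0) : ((co.x3 k : (S : Subgroup G)) : G) ∉ E2 co := by
  have h : cx co ((co.x3 k : (S : Subgroup G)) : G) = ⟨0, 0, k, 0, 0, 0⟩ := by
    rw [cx_eq (co.x3 k).2]
    exact co.e_x3 k
  intro h'
  have := h'.2.2.1
  rw [h] at this
  exact hk this

/-- **piece F** -/
theorem outInv (hD : Dat C) (hE : HEss.{u, v} C) (h1 : Out1 S co) (h2 : Out2 S co) : OutInv S co where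
  conj := by
    intro t ht htt ht1
    obtain ⟨m, hm, h⟩ := exists_conj hD.reg h1 h2 ht htt ht1
    refine ⟨m, sup_le_sup L1_le L2_le hm, ?_⟩
    rcases h with h | h
    · exact Or.inl h.1
    · exact Or.inr h
  ne := by
    intro z hz _ k hk g
    exact F0_not_conj hE h1 hD (x3_mem k) (x3_notMem hk) (Z_le_E2 hz)

end db

/-! ### `C_S(u)` is a Sylow subgroup of `C_G(u)` -/

section sylow

variable [Finite G] {S : Sylow 2 G} {co : Coord C (S : Subgroup G)}

/-- **(F3)** `C_S(u)` is a Sylow 2-subgroup of `C_G(u)` for `u ∈ W - V` -/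
theorem exists_sylow (hD : Dat C) (hE : HEss.{u, v} C) (h1 : Out1 S co) {u : G} (hu : u ∈ F0 co)
    (huV : u ∉ E2 co) : ∃ P : Sylow 2 (centralizer ({u} : Set G)),
      (P : Subgroup (centralizer ({u} : Set G))) = (S : Subgroup G).subgroupOf (centralizer {u}) := by
  have hFfin := Abel.finite_F co
  set H := centralizer ({u} : Set G) with hH
  have hpg : IsPGroup 2 ((S : Subgroup G).subgroupOf H) :=
    S.isPGroup'.comap_of_injective H.subtype H.subtype_injective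
  obtain ⟨P, hP⟩ := hpg.exists_le_sylow
  refine ⟨P, ?_⟩
  symm
  apply Subgroup.eq_of_le_of_card_ge hP
  -- move `P` into `S`
  have hP' : IsPGroup 2 ((P : Subgroup H).map H.subtype) := P.isPGroup'.map _
  obtain ⟨T, hT⟩ := hP'.exists_le_sylow
  obtain ⟨g, hg⟩ := MulAction.exists_smul_eq G T S
  have hgS : ∀ x ∈ (T : Subgroup G), g * x * g⁻¹ ∈ (S : Subgroup G) := by
    intro x hx
    rw [← hg]
    exact Subgroup.smul_mem_pointwise_smul x (MulAut.conj g) _ hx
  have huP : u ∈ (P : Subgroup H).map H.subtype := by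
    refine ⟨⟨u, mem_centralizer_singleton_iff.2 rfl⟩, hP ?_, rfl⟩
    rw [mem_subgroupOf]
    exact hu.1
  have hguS : g * u * g⁻¹ ∈ (S : Subgroup G) := hgS u (hT huP)
  have huu := sq_F0 hu
  have hgu : g * u * g⁻¹ * (g * u * g⁻¹) = 1 := by
    have e : g * u * g⁻¹ * (g * u * g⁻¹) = g * (u * u) * g⁻¹ := by group
    rw [e, huu]; group
  have hguV : g * u * g⁻¹ ∉ E2 co := by
    intro h
    have h3 := F0_not_conj (g := g⁻¹) hE h1 hD hu huV h
    apply h3
    group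
  have hge := card_ge hD.reg hguS hgu hguV
  have hle := card_F0 (P := (S : Subgroup G)) hu
  have hcard : Nat.card (P : Subgroup H) ≤ Nat.card ((S : Subgroup G) ⊓ centralizer {g * u * g⁻¹} : Subgroup G) := by
    refine Nat.card_le_card_of_injective
      (fun x => (⟨g * (x : H) * g⁻¹, ?_⟩ : ((S : Subgroup G) ⊓ centralizer {g * u * g⁻¹} : Subgroup G))) ?_
    · refine mem_inf.2 ⟨hgS _ (hT ⟨x, x.2, rfl⟩), ?_⟩
      rw [mem_centralizer_singleton_iff]
      have h4 : ((x : H) : G) * u = u * ((x : H) : G) := mem_centralizer_singleton_iff.1 (x : H).2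
      calc g * ((x : H) : G) * g⁻¹ * (g * u * g⁻¹) = g * (((x : H) : G) * u) * g⁻¹ := by group
        _ = g * u * g⁻¹ * (g * ((x : H) : G) * g⁻¹) := by rw [h4]; group
    · intro x y hxy
      have h4 : g * ((x : H) : G) * g⁻¹ = g * ((y : H) : G) * g⁻¹ := congrArg Subtype.val hxy
      have h5 : ((x : H) : G) = ((y : H) : G) := mul_left_cancel (mul_right_cancel h4)
      exact Subtype.ext (Subtype.ext h5)
  have e1 : Nat.card ((S : Subgroup G).subgroupOf H) = Nat.card ((S : Subgroup G) ⊓ centralizer {u} : Subgroup G) := by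
    rw [Nat.card_congr (Subgroup.equivMapOfInjective _ H.subtype H.subtype_injective).toEquiv,
      Subgroup.subgroupOf_map_subtype]
  rw [e1]
  refine hcard.trans ?_
  have hq : 0 < Nat.card F ^ 2 := pow_pos Nat.card_pos 2
  exact Nat.le_of_mul_le_mul_left (hge.trans hle) hq

end sylow

end Cfsg.Agent.HexGlob.Invol
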