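import Mathlib
import Cfsg.Agent.HexGlob.CenU
import Cfsg.Agent.HexGlob.Invol
import Cfsg.Agent.HexGlob.CompFour
import Cfsg.Agent.S1250

/-!
# `C_G(u)/O(C_G(u))` has no component, `u = x3(k)`
-/

set_option autoImplicit false

namespace Cfsg.Agent.HexGlob.CenUComp

open Cfsg.Agent.HexRec Cfsg.Agent.HexEss Subgroup Cfsg.Agent.Lib.GoldschmidtFusion Cfsg.Agent.HexGlob.Facts
open Cfsg.Agent.HexGlob.CenU Cfsg.Agent.HexGlob.CenUSpec
open Cfsg.Agent.TypeL3 (H1169 H1171)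
open Cfsg.Agent.HexGlob.MinPlus (HBend)

universe u v

variable {F K : Type v} [Field F] [Field K] [Algebra F K] {C : Cubic F K}
variable {G : Type u} [Group G] [Finite G] {S : Sylow 2 G} {co : Coord C (S : Subgroup G)}

/-- the interface `OutFus` from piece F -/
theorem outFus (hD : Dat C) (hE : HEss.{u, v} C) (h1 : Out1 S co) : OutFus S co where
  fus := by
    intro z hz hz1 g hg
    obtain ⟨n, hn, v, hv, -, e⟩ := InvolFus.D0_of_conj hE h1 hD (Z_le_E2 hz) hz1 hg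
    exact ⟨n, hn, v, hv, e⟩
  syl := fun k hk => Invol.exists_sylow hD hE h1 (Invol.x3_mem k) (Invol.x3_notMem hk)

/-! ### The subgroup `U6` -/

/-- `U6` -/
noncomputable def U6 (co : Coord C (S : Subgroup G)) : Subgroup G :=
  mkSub co (fun a => a.a1 = 0 ∧ a.a2 = 0 ∧ a.a3 = 0 ∧ a.a4 = 0 ∧ a.a5 = 0) ⟨rfl, rfl, rfl, rfl, rfl⟩ (by
    rintro a b ⟨a1, a2, a3, a4, a5⟩ ⟨b1, b2, b3, b4, b5⟩
    simp [Cubic.mul, a1, a2, a3, a4, a5, b1, b2, b3, b4, b5, C.T_zero_left, C.T_zero_right, C.sh_zero,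
      C.cr_zero_left, C.N_zero])

theorem mem_U6 {g : G} : g ∈ U6 co ↔ g ∈ (S : Subgroup G) ∧ (cx co g).a1 = 0 ∧ (cx co g).a2 = 0 ∧
    (cx co g).a3 = 0 ∧ (cx co g).a4 = 0 ∧ (cx co g).a5 = 0 := Iff.rfl

theorem U6_sq {x : G} (hx : x ∈ U6 co) : x * x = 1 := by
  have h := mul_mem hx hx
  exact eq_one_of_cx (co := co) h.1 h.2.1 h.2.2.1 h.2.2.2.1 h.2.2.2.2.1 h.2.2.2.2.2 (a6_sq hx.1)

theorem U6_comm {x y : G} (hx : x ∈ U6 co) (hy : y ∈ U6 co) : x * y = y * x := by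
  have h1 := U6_sq hx
  have h2 := U6_sq hy
  have h3 := U6_sq (mul_mem hx hy)
  have hx' : x⁻¹ = x := inv_eq_of_mul_eq_one_left h1
  have hy' : y⁻¹ = y := inv_eq_of_mul_eq_one_left h2
  have h4 : (x * y)⁻¹ = x * y := inv_eq_of_mul_eq_one_left h3
  rw [mul_inv_rev, hx', hy'] at h4
  exact h4.symm

/-- a four-group in `U6` -/
theorem exists_four (hD : Dat C) (co : Coord C (S : Subgroup G)) : ∃ x ∈ U6 co, ∃ y ∈ U6 co, x ≠ 1 ∧ y ≠ 1 ∧ x * y ≠ 1 := by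
  obtain ⟨r, hr0, hr1⟩ : ∃ r : F, r ≠ 0 ∧ r ≠ 1 := by
    by_contra hcon
    push Not at hcon
    classical
    have h1 : Nat.card F ≤ Nat.card Bool := by
      apply Nat.card_le_card_of_injective (fun r : F => decide (r = 0))
      intro a b h
      have h' : (a = 0) ↔ (b = 0) := by simpa using h
      by_cases ha : a = 0
      · rw [ha, h'.1 ha]
      · rw [hcon a ha, hcon b (fun hb => ha (h'.2 hb))]
    have h2 : Nat.card Bool = 2 := by simp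
    have := hD.q4
    omega
  obtain ⟨x, hx, hxc⟩ := exists_cx (co := co) ⟨0, 0, 0, 0, 0, 1⟩
  obtain ⟨y, hy, hyc⟩ := exists_cx (co := co) ⟨0, 0, 0, 0, 0, r⟩
  have hxU : x ∈ U6 co := ⟨hx, by rw [hxc], by rw [hxc], by rw [hxc], by rw [hxc], by rw [hxc]⟩
  have hyU : y ∈ U6 co := ⟨hy, by rw [hyc], by rw [hyc], by rw [hyc], by rw [hyc], by rw [hyc]⟩
  refine ⟨x, hxU, y, hyU, ?_, ?_, ?_⟩
  · intro h
    rw [h, cx_one] at hxc
    exact zero_ne_one (congrArg Tup.a6 hxc)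
  · intro h
    rw [h, cx_one] at hyc
    exact hr0 (congrArg Tup.a6 hyc).symm
  · intro h
    have h1 : x = y := by
      rw [mul_eq_one_iff_eq_inv.1 h, inv_eq_of_mul_eq_one_left (U6_sq hyU)]
    rw [h1, hyc] at hxc
    exact hr1 (congrArg Tup.a6 hxc)

theorem U6_comm_iff {x v : G} (hx : x ∈ U6 co) (hx1 : x ≠ 1) (hv : v ∈ E2 co) : x * v = v * x ↔ v ∈ Z co := by
  have h6 : (cx co x).a6 ≠ 0 := fun h =>
    hx1 (eq_one_of_cx (co := co) hx.1 hx.2.1 hx.2.2.1 hx.2.2.2.1 hx.2.2.2.2.1 hx.2.2.2.2.2 h)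
  have h1 := a4_cm_F0 (co := co) hx.1 hv.1 hv.2.1 hv.2.2.2.1 hv.2.2.2.2
  rw [hx.2.2.2.2.2, C.T_zero_left, add_zero] at h1
  constructor
  · intro h
    rw [cm_eq_one.2 h, cx_one] at h1
    rcases mul_eq_zero.1 h1.symm with h2 | h2
    · exact absurd h2 h6
    · exact ⟨hv.1, hv.2.1, h2, hv.2.2.1, hv.2.2.2.1, hv.2.2.2.2⟩
  · intro h
    exact cm_eq_one.1 (cm_Z hx.1 h)

theorem U6_comm_u {x w : G} (hx : x ∈ U6 co) (hw : w ∈ F0 co) (hw2 : (cx co w).a2 = 0) : x * w = w * x := by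
  rw [← cm_eq_one]
  have h := cm_mem_E2 (co := co) hx.1 hw
  refine eq_one_of_cx (co := co) h.1 h.2.1 ?_ h.2.2.1 ?_ h.2.2.2.1 h.2.2.2.2
  · rw [a2_cm_F0 hx.1 hw.1 hw.2.1 hw.2.2.1 hw.2.2.2, hx.2.1, C.T_zero_left]
  · rw [a4_cm_F0 hx.1 hw.1 hw.2.1 hw.2.2.1 hw.2.2.2, hw2, mul_zero, zero_add, hx.2.2.2.2.2, C.T_zero_left]

/-- `[Db, u] = V` for `u ∈ F0 ∖ V` -/
theorem exists_cm {w v : G} (hw : w ∈ F0 co) (hwV : w ∉ E2 co) (hv : v ∈ E2 co) :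
    ∃ y ∈ Db co, cm y w = v := by
  have h3 : (cx co w).a3 ≠ 0 := fun h => hwV ⟨hw.1, hw.2.1, h, hw.2.2.1, hw.2.2.2⟩
  obtain ⟨y1, hy1⟩ := C.exists_T_eq h3 (cx co v).a2
  obtain ⟨y5, hy5⟩ := C.exists_T_eq h3 (cx co v).a4
  obtain ⟨y, hy, hyc⟩ := exists_cx (co := co) ⟨y1, 0, 0, 0, y5, 0⟩
  refine ⟨y, ⟨hy, by rw [hyc]⟩, ?_⟩
  have h := cm_mem_E2 (co := co) hy hw
  apply cx_inj (co := co) h.1 hv.1
  refine Tup.ext ?_ ?_ ?_ ?_ ?_ ?_
  · rw [h.2.1, hv.2.1]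
  · rw [a2_cm_F0 hy hw.1 hw.2.1 hw.2.2.1 hw.2.2.2, hyc, C.T_comm, hy1]
  · rw [h.2.2.1, hv.2.2.1]
  · rw [a4_cm_F0 hy hw.1 hw.2.1 hw.2.2.1 hw.2.2.2, hyc, zero_mul, zero_add, C.T_comm, hy5]
  · rw [h.2.2.2.1, hv.2.2.2.1]
  · rw [h.2.2.2.2, hv.2.2.2.2]

/-- `N(V) ∩ C(u)` is transitive on `V#` -/
theorem exists_trans (o2 : Out2 S co) {w a b : G} (hw : w ∈ F0 co) (hwV : w ∉ E2 co) (ha : a ∈ E2 co) (ha1 : a ≠ 1)
    (hb : b ∈ E2 co) (hb1 : b ≠ 1) : ∃ n ∈ normalizer ((E2 co : Subgroup G) : Set G), n * w = w * n ∧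
      n * a * n⁻¹ = b := by
  obtain ⟨l, hl, hlb⟩ := o2.trans a ha ha1 b hb hb1
  have h1 := o2.triv l hl w hw
  obtain ⟨y, hy, hyc⟩ := exists_cm hw hwV (inv_mem h1)
  have hyV : ∀ v ∈ E2 co, y * v = v * y := fun v hv => cm_eq_one.1 (cm_Db_E2 hy hv)
  refine ⟨y * l, mul_mem ?_ (le_normalizer_E2_of_Db L2_le hl), ?_, ?_⟩
  · exact le_normalizer_of (N := Db co) (fun n hn x hx => by
      rw [conj_eq_cm_mul, cm_Db_E2 hn hx, one_mul]; exact hx) hy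
  · have e1 : l * w = cm l w * w * l := by unfold cm; group
    have e2 : y * w = (cm l w)⁻¹ * w * y := by rw [← hyc]; unfold cm; group
    calc y * l * w = y * (l * w) := by group
      _ = (y * cm l w) * w * l := by rw [e1]; group
      _ = cm l w * (y * w) * l := by rw [hyV _ h1]; group
      _ = w * (y * l) := by rw [e2]; group
  · calc y * l * a * (y * l)⁻¹ = y * (l * a * l⁻¹) * y⁻¹ := by group
      _ = b := by rw [hlb, hyV b hb, mul_inv_cancel_right]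

/-! ### No component -/

/-- `C_G(a)/O(C_G(a))` has no component for `a ∈ V#` -/
theorem not_hasComponent_E2 (o2 : Out2 S co) (oZ : OutZ S co) {a : G} (ha : a ∈ E2 co) (ha1 : a ≠ 1) :
    ¬ Cfsg.HasComponent (centralizer ({a} : Set G) ⧸ Cfsg.oddCore (centralizer ({a} : Set G))) := by
  obtain ⟨z, hz, hz1⟩ := exists_Z_ne_one co
  obtain ⟨l, -, hl⟩ := o2.trans a ha ha1 z (Z_le_E2 hz) hz1
  intro h
  apply oZ.nocomp z hz hz1
  have h3 : (centralizer ({a} : Set G)).map (MulAut.conj l).toMonoidHom = centralizer ({z} : Set G) := by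
    rw [← hl]; exact Cfsg.Agent.SignalizersComponents.IntrinsicBasic.cj_centralizer l a
  have e : centralizer ({a} : Set G) ≃* centralizer ({z} : Set G) :=
    ((MulAut.conj l).subgroupMap _).trans (MulEquiv.subgroupCongr h3)
  obtain ⟨K, hK, hq⟩ := h
  have h2 := Cfsg.Agent.SignalizersComponents.Components.isComponent_map_equiv
    (QuotientGroup.congr (Cfsg.oddCore _) (Cfsg.oddCore _) e (Lib.Cores.map_equiv_pPrimeCore e 2))
    (K := K) ⟨hK, hq⟩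
  exact ⟨_, h2.1, h2.2⟩

theorem not_hasComponent (h1169 : H1169.{u}) (h1171 : H1171.{u}) (hbend : HBend.{u}) (hD : Dat C) (o1 : Out1 S co)
    (o2 : Out2 S co) (oZ : OutZ S co) (oF : OutFus S co) {w : G} (hw : w ∈ F0 co) (hwV : w ∉ E2 co)
    (hw2 : (cx co w).a2 = 0)
    (hP : ∃ P : Sylow 2 (centralizer ({w} : Set G)), (P : Subgroup (centralizer ({w} : Set G))) =
      (S : Subgroup G).subgroupOf (centralizer ({w} : Set G))) :
    ¬ Cfsg.HasComponent (centralizer ({w} : Set G) ⧸ Cfsg.oddCore (centralizer ({w} : Set G))) := by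
  set H := centralizer ({w} : Set G) with hHdef
  obtain ⟨P, hP'⟩ := hP
  set O := Cfsg.oddCore H with hO
  have hOn : O.Normal := Cfsg.Agent.Lib.Cores.pPrimeCore_normal 2
  have hOodd : (Nat.card O).Coprime 2 := Cfsg.Agent.Lib.Cores.pPrimeCore_coprime 2
  let PY := P.mapSurjective (QuotientGroup.mk'_surjective O)
  have hPY : (PY : Subgroup (H ⧸ O)) = (P : Subgroup H).map (QuotientGroup.mk' O) := rfl
  have hcomm : ∀ {x : H}, (x : G) * w = w * x := fun {x} => mem_centralizer_singleton_iff.1 x.2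
  have hww : w * w = 1 := sq_F0 hw
  have hVH : E2 co ≤ H := fun v hv => mem_centralizer_singleton_iff.2
    (cm_eq_one.1 (cm_F0_F0 (E2_le_F0 hv) hw))
  have hUH : U6 co ≤ H := fun x hx => mem_centralizer_singleton_iff.2 (U6_comm_u hx hw hw2)
  have hmemP : ∀ {x : H}, x ∈ (P : Subgroup H) ↔ (x : G) ∈ (S : Subgroup G) := by
    intro x; rw [hP', mem_subgroupOf]
  -- injectivity on `P`
  have hinj : ∀ x ∈ (P : Subgroup H), QuotientGroup.mk' O x = 1 → x = 1 := by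
    intro x hx hx1
    have hxO : x ∈ O := (QuotientGroup.eq_one_iff _).1 hx1
    have h1 : orderOf x ∣ Nat.card O := by
      have := orderOf_dvd_natCard (⟨x, hxO⟩ : O)
      rwa [← Subgroup.orderOf_coe] at this
    obtain ⟨k, hk⟩ := P.isPGroup' ⟨x, hx⟩
    have h2 : orderOf x ∣ 2 ^ k := orderOf_dvd_of_pow_eq_one (congrArg Subtype.val hk)
    have h3 : orderOf x ∣ Nat.gcd (Nat.card O) (2 ^ k) := Nat.dvd_gcd h1 h2
    rw [Nat.Coprime.pow_right k hOodd] at h3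
    exact orderOf_eq_one_iff.1 (Nat.dvd_one.1 h3)
  have hinj2 : ∀ x ∈ (P : Subgroup H), ∀ y ∈ (P : Subgroup H), QuotientGroup.mk' O x = QuotientGroup.mk' O y →
      x = y := by
    intro x hx y hy h
    have := hinj (x⁻¹ * y) (mul_mem (inv_mem hx) hy) (by rw [map_mul, map_inv, h, inv_mul_cancel])
    exact inv_mul_eq_one.1 this
  have hclosed : Cfsg.IsStronglyClosed ((E2 co).subgroupOf H) (P : Subgroup H) := by
    refine ⟨fun x hx => hmemP.2 (E2_le (mem_subgroupOf.1 hx)), fun x hx g hg => ?_⟩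
    rw [mem_subgroupOf] at hx ⊢
    exact conj_mem_E2 hD o1 o2 oZ oF hw (fun h => hwV (Z_le_E2 h)) hx hcomm (hmemP.1 hg)
  have hV' := Cfsg.Agent.S1250.result P _ hclosed O
  obtain ⟨x0, hx0, y0, hy0, hx01, hy01, hxy01⟩ := exists_four hD co
  -- commutation modulo `O` of elements of `S`
  have hcq : ∀ {a b : G} (ha : a ∈ (S : Subgroup G)) (hb : b ∈ (S : Subgroup G)) (haH : a ∈ H) (hbH : b ∈ H),
      QuotientGroup.mk' O ⟨a, haH⟩ * QuotientGroup.mk' O ⟨b, hbH⟩ =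
        QuotientGroup.mk' O ⟨b, hbH⟩ * QuotientGroup.mk' O ⟨a, haH⟩ → a * b = b * a := by
    intro a b ha hb haH hbH h
    rw [← map_mul, ← map_mul] at h
    have ha' := hmemP (x := ⟨a, haH⟩) |>.2 ha
    have hb' := hmemP (x := ⟨b, hbH⟩) |>.2 hb
    exact congrArg Subtype.val (hinj2 _ (mul_mem ha' hb') _ (mul_mem hb' ha') h)
  have hqc : ∀ {a b : G} (haH : a ∈ H) (hbH : b ∈ H), a * b = b * a →
      QuotientGroup.mk' O ⟨a, haH⟩ * QuotientGroup.mk' O ⟨b, hbH⟩ =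
        QuotientGroup.mk' O ⟨b, hbH⟩ * QuotientGroup.mk' O ⟨a, haH⟩ := by
    intro a b haH hbH h
    rw [← map_mul, ← map_mul]
    congr 1
    exact Subtype.ext h
  -- the condition on `U6`
  have hU : ∀ {x : G} (hx : x ∈ U6 co) (hxH : x ∈ H), x ≠ 1 → ∀ v ∈ ((E2 co).subgroupOf H).map (QuotientGroup.mk' O),
      v * QuotientGroup.mk' O ⟨x, hxH⟩ = QuotientGroup.mk' O ⟨x, hxH⟩ * v →
      v ∈ ((Z co).subgroupOf H).map (QuotientGroup.mk' O) := by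
    rintro x hx hxH hx1 _ ⟨v, hv, rfl⟩ h
    have hv' : (v : G) ∈ E2 co := hv
    have h1 := hcq (E2_le hv') hx.1 v.2 hxH h
    exact ⟨v, (U6_comm_iff hx hx1 hv').1 h1.symm, rfl⟩
  have hUZ : ∀ {x : G} (hx : x ∈ U6 co) (hxH : x ∈ H), ∀ z ∈ ((Z co).subgroupOf H).map (QuotientGroup.mk' O),
      z * QuotientGroup.mk' O ⟨x, hxH⟩ = QuotientGroup.mk' O ⟨x, hxH⟩ * z := by
    rintro x hx hxH _ ⟨z, hz, rfl⟩
    have hz' : (z : G) ∈ Z co := hz
    exact hqc z.2 hxH (cm_eq_one.1 (cm_Z hx.1 hz')).symm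
  have hxyU := mul_mem hx0 hy0
  have hne1 : ∀ {a : H}, QuotientGroup.mk' O a ≠ 1 → (a : G) ≠ 1 := by
    intro a h h1
    apply h
    have : a = 1 := Subtype.ext h1
    rw [this, map_one]
  refine CompFour.no_component h1169 h1171 hbend (Cfsg.Agent.Lib.Cores.pPrimeCore_quotient_pPrimeCore 2) PY
    (V := ((E2 co).subgroupOf H).map (QuotientGroup.mk' O)) (Z := ((Z co).subgroupOf H).map (QuotientGroup.mk' O))
    hV' ?_ ?_ ?_ ?_ ?_ ?_
    (x := QuotientGroup.mk' O ⟨x0, hUH hx0⟩) (y := QuotientGroup.mk' O ⟨y0, hUH hy0⟩)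
    ⟨_, hmemP.2 hx0.1, rfl⟩ ⟨_, hmemP.2 hy0.1, rfl⟩ ?_ ?_ (hqc _ _ (U6_comm hx0 hy0))
    (hU hx0 _ hx01) (hU hy0 _ hy01) (hU hxyU (hUH hxyU) hxy01) (hUZ hx0 _) (hUZ hy0 _) ?_
  · rintro _ ⟨x, hx, rfl⟩ _ ⟨y, hy, rfl⟩
    exact hqc x.2 y.2 (cm_eq_one.1 (cm_F0_F0 (E2_le_F0 hx) (E2_le_F0 hy)))
  · rintro _ ⟨x, hx, rfl⟩
    rw [← map_mul]
    have : x * x = 1 := Subtype.ext (sq_F0 (E2_le_F0 hx))
    rw [this, map_one]
  · exact Subgroup.map_mono (Subgroup.comap_mono Z_le_E2)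
  · obtain ⟨z, hz, hz1⟩ := exists_Z_ne_one co
    intro h
    apply hz1
    have h1 : QuotientGroup.mk' O ⟨z, hVH (Z_le_E2 hz)⟩ ∈ (⊥ : Subgroup (H ⧸ O)) := by
      rw [← h]; exact ⟨_, hz, rfl⟩
    exact congrArg Subtype.val (hinj ⟨z, hVH (Z_le_E2 hz)⟩ (hmemP.2 hz.1) (mem_bot.1 h1))
  · -- `Z ≠ V`
    obtain ⟨v, hv, hvc⟩ := exists_cx (co := co) ⟨0, 1, 0, 0, 0, 0⟩
    have hvE : v ∈ E2 co := ⟨hv, by rw [hvc], by rw [hvc], by rw [hvc], by rw [hvc]⟩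
    have hvZ : v ∉ Z co := fun h => by
      have := h.2.2.1
      rw [hvc] at this
      exact one_ne_zero this
    intro h
    obtain ⟨z, hz, e⟩ := h ⟨⟨v, hVH hvE⟩, hvE, rfl⟩
    have hz' : (z : G) ∈ Z co := hz
    have := hinj2 z (hmemP.2 hz'.1) ⟨v, hVH hvE⟩ (hmemP.2 hv) e
    apply hvZ
    rw [this] at hz'
    exact hz'
  · -- transitivity
    rintro _ ⟨a, ha, rfl⟩ ha1 _ ⟨b, hb, rfl⟩ hb1
    obtain ⟨n, hn, hnw, hnab⟩ := exists_trans o2 hw hwV ha (hne1 ha1) hb (hne1 hb1)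
    have hnH : n ∈ H := mem_centralizer_singleton_iff.2 hnw
    refine ⟨QuotientGroup.mk' O ⟨n, hnH⟩, ?_⟩
    rw [← map_inv, ← map_mul, ← map_mul]
    congr 1
    exact Subtype.ext hnab
  · rw [← map_mul]
    have : (⟨x0, hUH hx0⟩ : H) * ⟨x0, hUH hx0⟩ = 1 := Subtype.ext (U6_sq hx0)
    rw [this, map_one]
  · rw [← map_mul]
    have : (⟨y0, hUH hy0⟩ : H) * ⟨y0, hUH hy0⟩ = 1 := Subtype.ext (U6_sq hy0)
    rw [this, map_one]
  · -- (na)
    rintro Kb hKb _ ⟨a, ha, rfl⟩ ha1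
    have ha' : (a : G) ∈ E2 co := ha
    by_contra hcon
    push Not at hcon
    exact NoCompCent.false_of_central hww (sq_F0 (E2_le_F0 ha')) (mem_centralizer_singleton_iff.1 a.2)
      (not_hasComponent_E2 o2 oZ ha' (hne1 ha1)) hKb hcon

end Cfsg.Agent.HexGlob.CenUComp
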