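import Mathlib
import Cfsg.Agent.HexGlob.CenUComp
import Cfsg.Agent.HexEss.Count
import Cfsg.Agent.J2Sylow.J3EndAux

/-!
# `G` is of characteristic 2 type; the centralisers of involutions (piece H)

`C_G(z) ≤ N_G(Da)`, `C_G(w) ≤ N_G(V) = N_G(Db)` (`w ∈ W ∖ V`), `C_G(Da) ≤ Da`, `C_G(Db) ≤ Db`.
-/

set_option autoImplicit false

namespace Cfsg.Agent.HexGlob.CharTwo

open Cfsg.Agent.HexRec Cfsg.Agent.HexEss Subgroup Cfsg.Agent.Lib.GoldschmidtFusion Cfsg.Agent.HexGlob.Facts
open Cfsg.Agent.HexGlob.CenU Cfsg.Agent.HexGlob.CenUSpec Cfsg.Agent.HexGlob.CenUComp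
open Cfsg.Agent.TypeL3 (H1169 H1171 H1296)
open Cfsg.Agent.HexGlob.MinPlus (HBend)

universe u v

section general

variable {G : Type u} [Group G] [Finite G]

/-- components of `C(a)/O(C(a))` are transported by conjugation -/
theorem hasComponent_conj {a b g : G} (h : g * a * g⁻¹ = b)
    (hc : Cfsg.HasComponent (centralizer ({a} : Set G) ⧸ Cfsg.oddCore (centralizer ({a} : Set G)))) :
    Cfsg.HasComponent (centralizer ({b} : Set G) ⧸ Cfsg.oddCore (centralizer ({b} : Set G))) := by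
  have h3 : (centralizer ({a} : Set G)).map (MulAut.conj g).toMonoidHom = centralizer ({b} : Set G) := by
    rw [← h]
    exact Cfsg.Agent.SignalizersComponents.IntrinsicBasic.cj_centralizer g a
  have e : centralizer ({a} : Set G) ≃* centralizer ({b} : Set G) :=
    ((MulAut.conj g).subgroupMap _).trans (MulEquiv.subgroupCongr h3)
  obtain ⟨K, hK, hq⟩ := hc
  have h2 := Cfsg.Agent.SignalizersComponents.Components.isComponent_map_equiv
    (QuotientGroup.congr (Cfsg.oddCore _) (Cfsg.oddCore _) e (Lib.Cores.map_equiv_pPrimeCore e 2))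
    (K := K) ⟨hK, hq⟩
  exact ⟨_, h2.1, h2.2⟩

/-- a 2-subgroup normalised by `S` lies in `S` -/
theorem le_sylow_of_normalized {S : Sylow 2 G} {X : Subgroup G} (hX : IsPGroup 2 X)
    (hS : (S : Subgroup G) ≤ normalizer (X : Set G)) : X ≤ (S : Subgroup G) := by
  have h1 : IsPGroup 2 (X ⊔ (S : Subgroup G) : Subgroup G) := hX.to_sup_of_normal_left' S.isPGroup' hS
  have h2 := S.is_maximal' h1 le_sup_right
  rw [← h2]
  exact le_sup_left

/-- centralisers of involutions in a group of characteristic 2 type -/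
theorem char_centralizer (h : Cfsg.IsCharacteristicTwoType G) {z : G} (hz2 : z * z = 1) (hz1 : z ≠ 1) :
    Cfsg.IsOfCharacteristicTwo (centralizer ({z} : Set G)) := by
  have h1 := h.2 (zpowers z) (by
    rw [IsPGroup.iff_card]
    exact ⟨1, by rw [Nat.card_zpowers, Cfsg.Agent.TypeL3.orderOf_eq_two_of_sq hz2 hz1, pow_one]⟩)
    (by rw [Ne, zpowers_eq_bot]; exact hz1)
  rwa [Cfsg.Agent.TypeL3.IsL3.centralizer_eq_normalizer_zpowers hz2] at h1

end general

variable {F K : Type v} [Field F] [Field K] [Algebra F K] {C : Cubic F K}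
variable {G : Type u} [Group G] [Finite G] {S : Sylow 2 G} {co : Coord C (S : Subgroup G)}

theorem four_lt_card_E2 (hD : Dat C) (co : Coord C (S : Subgroup G)) : 4 < Nat.card (E2 co) := by
  rw [card_E2]
  have := hD.q4
  nlinarith

/-- elements of `S` commuting with `F0` are in `F0`; with `Db`: in `V`; with `Da`: in `Z` -/
theorem mem_E2_of_comm {s : G} (hs : s ∈ (S : Subgroup G)) (h : ∀ x ∈ RR co, cm x s = 1) : s ∈ E2 co := by
  have h0 : s ∈ F0 co := mem_F0_of_cm_eq_one hs (fun x hx => cm_one_swap.1 (h x (F0_le_RR hx)))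
  refine ⟨hs, h0.2.1, ?_, h0.2.2.1, h0.2.2.2⟩
  apply C.T_nondeg
  intro t
  obtain ⟨x, hx, hxc⟩ := exists_cx (co := co) ⟨0, 0, 0, 0, t, 0⟩
  have hx' : x ∈ RR co := ⟨hx, by rw [hxc], by rw [hxc]⟩
  have h1 := a4_cm_F0 (co := co) hx hs h0.2.1 h0.2.2.1 h0.2.2.2
  rw [h x hx', cx_one, hxc, zero_mul, zero_add, C.T_comm] at h1
  exact h1.symm

theorem mem_Z_of_comm {s : G} (hs : s ∈ (S : Subgroup G)) (h : ∀ x ∈ Da co, cm x s = 1) : s ∈ Z co := by
  have h0 : s ∈ E2 co := mem_E2_of_comm hs (fun x hx => h x (RR_le_Da hx))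
  exact Abel.mem_Z_of_Da ⟨hs, h0.2.1⟩ (fun t ht => h t ht)

/-- `G` is of characteristic 2 type -/
theorem characteristicTwoType (h1169 : H1169.{u}) (h1171 : H1171.{u}) (h1296 : H1296.{u}) (hbend : HBend.{u})
    [IsSimpleGroup G] (hD : Dat C) (o1 : Out1 S co) (o2 : Out2 S co) (oZ : OutZ S co) (oI : OutInv S co)
    (oF : OutFus S co) : Cfsg.IsCharacteristicTwoType G := by
  have hcard := four_lt_card_E2 hD co
  have hle : Nat.card (E2 co) ≤ Nat.card G := Nat.card_le_card_of_injective _ (E2 co).subtype_injective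
  obtain ⟨z, hz, hz1⟩ := exists_Z_ne_one co
  have hz2 : z * z = 1 := sq_F0 (E2_le_F0 (Z_le_E2 hz))
  have heven : Even (Nat.card G) := by
    have h1 := orderOf_dvd_natCard z
    rw [Cfsg.Agent.TypeL3.orderOf_eq_two_of_sq hz2 hz1] at h1
    exact (even_iff_two_dvd).2 h1
  have hS : (S : Subgroup G) ≠ ⊥ := by
    intro h0
    have h1 := hz.1
    rw [h0, mem_bot] at h1
    exact hz1 h1
  have hidx : ∀ N : Subgroup G, N.Normal → N.index ≠ 2 := by
    intro N hN hind
    rcases hN.eq_bot_or_eq_top with h2 | h2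
    · rw [h2, Subgroup.index_bot] at hind
      omega
    · rw [h2, Subgroup.index_top] at hind
      omega
  rcases h1296 G heven hidx (Cfsg.Agent.TypeL3.oddCore_eq_bot_of_simple S hS) with h1 | h1 | h1
  · exfalso
    have hc : IsMulCommutative (E2 co) := ⟨⟨fun x y => Subtype.ext
      (cm_eq_one.1 (cm_F0_F0 (E2_le_F0 x.2) (E2_le_F0 y.2)))⟩⟩
    have := h1 (E2 co) hc (fun a ha => by rw [pow_two]; exact sq_F0 (E2_le_F0 ha))
    omega
  · exfalso
    obtain ⟨t, ht, hcomp⟩ := h1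
    have ht2 : t * t = 1 := by rw [← pow_two, ← ht]; exact pow_orderOf_eq_one t
    have ht1 : t ≠ 1 := by
      rintro rfl
      rw [orderOf_one] at ht
      omega
    have hzp : IsPGroup 2 (zpowers t) := by
      rw [IsPGroup.iff_card]
      exact ⟨1, by rw [Nat.card_zpowers, ht, pow_one]⟩
    obtain ⟨g, -, hle⟩ := exists_conj_le_in (p := 2) (N := ⊤) S.isPGroup'
      (Cfsg.Agent.TypeL3.sylow_not_dvd_relIndex S le_top) (le_top : zpowers t ≤ ⊤) hzp
    have hg : g * t * g⁻¹ ∈ (S : Subgroup G) := hle ⟨t, mem_zpowers t, by simp⟩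
    have hg2 : g * t * g⁻¹ * (g * t * g⁻¹) = 1 := by
      calc g * t * g⁻¹ * (g * t * g⁻¹) = g * (t * t) * g⁻¹ := by group
        _ = 1 := by rw [ht2]; group
    have hg1 : g * t * g⁻¹ ≠ 1 := by
      intro h
      apply ht1
      have := congrArg (fun t => g⁻¹ * t * g) h
      simpa [mul_assoc] using this
    obtain ⟨m, -, hm⟩ := oI.conj _ hg hg2 hg1
    have e : (m * g) * t * (m * g)⁻¹ = m * (g * t * g⁻¹) * m⁻¹ := by group
    have hne : m * (g * t * g⁻¹) * m⁻¹ ≠ 1 := by
      intro h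
      apply hg1
      have := congrArg (fun t => m⁻¹ * t * m) h
      simpa [mul_assoc] using this
    rcases hm with hm | ⟨k, hk, hm⟩
    · exact oZ.nocomp _ hm hne (hasComponent_conj e hcomp)
    · have h3 := Invol.x3_mem (co := co) k
      have h4 := Invol.x3_notMem (co := co) hk
      refine not_hasComponent h1169 h1171 hbend hD o1 o2 oZ oF h3 h4 ?_ (oF.syl k hk)
        (hasComponent_conj (e.trans hm) hcomp)
      rw [cx_eq (SetLike.coe_mem _)]
      exact congrArg Tup.a2 (co.e.apply_symm_apply _)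
  · exact h1

section

variable (hc2 : Cfsg.IsCharacteristicTwoType G) (oZ : OutZ S co)

include hc2 oZ

/-- `C_G(z) ≤ N_G(Da)` -/
theorem cz {z : G} (hz : z ∈ Z co) (hz1 : z ≠ 1) :
    centralizer ({z} : Set G) ≤ normalizer ((Da co : Subgroup G) : Set G) := by
  have hz2 : z * z = 1 := sq_F0 (E2_le_F0 (Z_le_E2 hz))
  have h1 := Cfsg.Agent.J2Sylow.J3EndAux.oddCore_eq_bot (char_centralizer hc2 hz2 hz1)
  apply le_normalizer_of
  intro c hc x hx
  obtain ⟨y, hy, o, ho, e⟩ := oZ.norm z hz hz1 c hc x hx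
  rw [h1, Subgroup.map_bot, mem_bot] at ho
  rw [e, ho, mul_one]
  exact hy

/-- `C_G(Da) ≤ Z` -/
theorem cDa_Z : centralizer ((Da co : Subgroup G) : Set G) ≤ Z co := by
  obtain ⟨z, hz, hz1⟩ := exists_Z_ne_one co
  have hz2 : z * z = 1 := sq_F0 (E2_le_F0 (Z_le_E2 hz))
  have hchar := char_centralizer hc2 hz2 hz1
  have hN := cz hc2 oZ hz hz1
  set H := centralizer ({z} : Set G) with hH
  have hSH : (S : Subgroup G) ≤ H := S_le_cent hz
  have hRS : ∀ r ∈ Cfsg.pCore 2 H, (r : G) ∈ (S : Subgroup G) := by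
    intro r hr
    have h1 := Lib.Cores.pCore_le_sylow (S.subtype hSH) hr
    exact mem_subgroupOf.1 h1
  have hRn : (Cfsg.pCore 2 H).Normal := Lib.Cores.pCore_normal 2
  have hRp : IsPGroup 2 (Cfsg.pCore 2 H) := Lib.Cores.pCore_isPGroup 2
  have hXH : centralizer ((Da co : Subgroup G) : Set G) ≤ H := by
    intro x hx
    rw [hH, mem_centralizer_singleton_iff]
    exact (mem_centralizer_iff.1 hx z (Z_le_Da hz)).symm
  have hXs : ∀ s ∈ (S : Subgroup G), s ∈ centralizer ((Da co : Subgroup G) : Set G) → s ∈ Z co := by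
    intro s hs hsx
    exact mem_Z_of_comm hs (fun x hx => cm_eq_one.2 (mem_centralizer_iff.1 hsx x hx))
  have hXn : ∀ c ∈ H, ∀ x ∈ centralizer ((Da co : Subgroup G) : Set G),
      c * x * c⁻¹ ∈ centralizer ((Da co : Subgroup G) : Set G) := by
    intro c hc x hx
    rw [mem_centralizer_iff] at hx ⊢
    intro d hd
    have h1 := hx (c⁻¹ * d * c) (by
      have := conj_mem_of_le hN (inv_mem hc) hd
      simpa using this)
    calc d * (c * x * c⁻¹) = c * ((c⁻¹ * d * c) * x) * c⁻¹ := by group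
      _ = c * x * c⁻¹ * d := by rw [h1]; group
  have hp : IsPGroup 2 (centralizer ((Da co : Subgroup G) : Set G)) := by
    rintro ⟨x, hx⟩
    have hxH := hXH hx
    have h1 : (⟨x, hxH⟩ : H) * ⟨x, hxH⟩ ∈ centralizer (Cfsg.pCore 2 H : Set H) := by
      rw [mem_centralizer_iff]
      intro r hr
      apply Subtype.ext
      change (r : G) * (x * x) = x * x * r
      have hc : x * r * x⁻¹ * (r : G)⁻¹ ∈ Z co := by
        apply hXs
        · have h2 := hRS _ (mul_mem (hRn.conj_mem r hr ⟨x, hxH⟩) (inv_mem hr))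
          exact h2
        · have h2 := hXn r r.2 _ (inv_mem hx)
          have h3 := mul_mem hx h2
          have e : x * r * x⁻¹ * (r : G)⁻¹ = x * ((r : G) * x⁻¹ * (r : G)⁻¹) := by group
          rw [e]; exact h3
      set c := x * r * x⁻¹ * (r : G)⁻¹ with hcdef
      have hcx : c * x = x * c := mem_centralizer_iff.1 hx c (Z_le_Da hc)
      have hcc : c * c = 1 := sq_F0 (E2_le_F0 (Z_le_E2 hc))
      have e1 : x * r * x⁻¹ = c * r := by rw [hcdef]; group
      have e2 : x * x * r * (x * x)⁻¹ = r := by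
        calc x * x * r * (x * x)⁻¹ = x * (x * r * x⁻¹) * x⁻¹ := by group
          _ = (c * x) * r * x⁻¹ := by rw [e1, hcx]; group
          _ = c * (x * r * x⁻¹) := by group
          _ = c * c * r := by rw [e1]; group
          _ = r := by rw [hcc, one_mul]
      calc (r : G) * (x * x) = (x * x * r * (x * x)⁻¹) * (x * x) := by rw [e2]
        _ = x * x * r := by group
    have h2 := hchar h1
    obtain ⟨k, hk⟩ := hRp ⟨_, h2⟩
    refine ⟨k + 1, Subtype.ext ?_⟩
    have hk' : (x * x) ^ 2 ^ k = 1 := congrArg (fun t => ((t : H) : G)) (congrArg Subtype.val hk)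
    show x ^ 2 ^ (k + 1) = 1
    rw [pow_succ', pow_mul, pow_two, hk']
  have hle := le_sylow_of_normalized (S := S) hp (le_normalizer_of fun s hs x hx => hXn s (hSH hs) x hx)
  exact fun x hx => hXs x (hle hx) hx

/-- `C_G(Da) ≤ Da` -/
theorem cDa : centralizer ((Da co : Subgroup G) : Set G) ≤ Da co := (cDa_Z hc2 oZ).trans Z_le_Da

/-- `C_G(Db) ≤ V` -/
theorem cDb_E2 : centralizer ((Db co : Subgroup G) : Set G) ≤ E2 co := by
  obtain ⟨z, hz, hz1⟩ := exists_Z_ne_one co
  have hN := cz hc2 oZ hz hz1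
  have hXH : centralizer ((Db co : Subgroup G) : Set G) ≤ normalizer ((Da co : Subgroup G) : Set G) := by
    refine le_trans ?_ hN
    intro x hx
    rw [mem_centralizer_singleton_iff]
    exact (mem_centralizer_iff.1 hx z (E2_le_Db (Z_le_E2 hz))).symm
  have hXs : ∀ s ∈ (S : Subgroup G), s ∈ centralizer ((Db co : Subgroup G) : Set G) → s ∈ E2 co := by
    intro s hs hsx
    exact mem_E2_of_comm hs (fun x hx => cm_eq_one.2 (mem_centralizer_iff.1 hsx x (RR_le_Db hx)))
  have hSX : (S : Subgroup G) ≤ normalizer ((centralizer ((Db co : Subgroup G) : Set G) : Subgroup G) : Set G) := by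
    apply le_normalizer_of
    intro c hc x hx
    rw [mem_centralizer_iff] at hx ⊢
    intro d hd
    have h1 := hx (c⁻¹ * d * c) (by
      have := conj_mem_of_le S_le_normalizer_Db (inv_mem hc) hd
      simpa using this)
    calc d * (c * x * c⁻¹) = c * ((c⁻¹ * d * c) * x) * c⁻¹ := by group
      _ = c * x * c⁻¹ * d := by rw [h1]; group
  have hp : IsPGroup 2 (centralizer ((Db co : Subgroup G) : Set G)) := by
    rintro ⟨x, hx⟩
    have hxN := hXH hx
    have hx' := mem_centralizer_iff.1 hx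
    have h1 : x * x ∈ centralizer ((Da co : Subgroup G) : Set G) := by
      rw [mem_centralizer_iff]
      intro d hd
      have hcDa : x * d * x⁻¹ * d⁻¹ ∈ Da co := mul_mem ((mem_normalizer_iff.1 hxN d).1 hd) (inv_mem hd)
      set c := x * d * x⁻¹ * d⁻¹ with hcdef
      have e1 : x * d * x⁻¹ = c * d := by rw [hcdef]; group
      have hcE : c ∈ E2 co := by
        apply mem_E2_of_comm hcDa.1
        intro r' hr'
        rw [cm_eq_one]
        -- `r' = d r d⁻¹`
        set r := d⁻¹ * r' * d with hrdef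
        have hr : r ∈ RR co := by
          have h2 : RR co ≤ Da co := RR_le_Da
          have h3 : cm d⁻¹ r' ∈ Z co := cm_mem_Z_of_Da (inv_mem hd) (RR_le_Da hr')
          have h4 : r = cm d⁻¹ r' * r' := by rw [hrdef]; unfold cm; group
          rw [h4]
          exact mul_mem (Z_le_RR h3) hr'
        have hxr' : r' * x = x * r' := hx' r' (RR_le_Db hr')
        have hxr : r * x = x * r := hx' r (RR_le_Db hr)
        have e2 : r' = d * r * d⁻¹ := by rw [hrdef]; group
        have e3 : x * r' * x⁻¹ = r' := by rw [← hxr']; group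
        have e4 : x * r * x⁻¹ = r := by rw [← hxr]; group
        have e5 : (c * d) * r * (c * d)⁻¹ = r' := by
          rw [← e1]
          calc x * d * x⁻¹ * r * (x * d * x⁻¹)⁻¹ = x * (d * (x⁻¹ * r * x) * d⁻¹) * x⁻¹ := by group
            _ = x * (d * r * d⁻¹) * x⁻¹ := by
              have : x⁻¹ * r * x = r := by rw [mul_assoc, hxr]; group
              rw [this]
            _ = r' := by rw [← e2, e3]
        calc r' * c = ((c * d) * r * (c * d)⁻¹) * c := by rw [e5]
          _ = c * (d * r * d⁻¹) := by group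
          _ = c * r' := by rw [← e2]
      have hcx : c * x = x * c := hx' c (E2_le_Db hcE)
      have hcc : c * c = 1 := sq_F0 (E2_le_F0 hcE)
      have e2 : x * x * d * (x * x)⁻¹ = d := by
        calc x * x * d * (x * x)⁻¹ = x * (x * d * x⁻¹) * x⁻¹ := by group
          _ = (c * x) * d * x⁻¹ := by rw [e1, hcx]; group
          _ = c * (x * d * x⁻¹) := by group
          _ = c * c * d := by rw [e1]; group
          _ = d := by rw [hcc, one_mul]
      calc d * (x * x) = (x * x * d * (x * x)⁻¹) * (x * x) := by rw [e2]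
        _ = x * x * d := by group
    have h2 := cDa hc2 oZ h1
    obtain ⟨k, hk⟩ := S.isPGroup' ⟨_, Da_le h2⟩
    refine ⟨k + 1, Subtype.ext ?_⟩
    have hk' : (x * x) ^ 2 ^ k = 1 := congrArg Subtype.val hk
    show x ^ 2 ^ (k + 1) = 1
    rw [pow_succ', pow_mul, pow_two, hk']
  have hle := le_sylow_of_normalized (S := S) hp hSX
  exact fun x hx => hXs x (hle hx) hx

/-- `C_G(Db) ≤ Db` -/
theorem cDb : centralizer ((Db co : Subgroup G) : Set G) ≤ Db co := (cDb_E2 hc2 oZ).trans E2_le_Db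

end

/-! ### `N_G(V) = N_G(Db)` -/

theorem card_RR (co : Coord C (S : Subgroup G)) : Nat.card (RR co) = Nat.card K * (Nat.card F ^ 2 * Nat.card K) := by
  rw [pow_two, ← Nat.card_prod, ← Nat.card_prod, ← Nat.card_prod]
  refine Nat.card_congr ((mkSubEquiv co _ _ _).trans ?_)
  exact
    { toFun := fun a => (a.1.a5, ((a.1.a2, a.1.a4), a.1.a3))
      invFun := fun f => ⟨⟨0, f.2.1.1, f.2.2, f.2.1.2, f.1, 0⟩, rfl, rfl⟩
      left_inv := by
        rintro ⟨⟨a1, a2, a3, a4, a5, a6⟩, h⟩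
        simp only at h
        obtain ⟨rfl, rfl⟩ := h
        rfl
      right_inv := fun _ => rfl }

/-- `Db = RR RR^n` -/
theorem sup_RR (o2 : Out2 S co) {n : G} (hn : n ∈ normalizer ((Db co : Subgroup G) : Set G))
    (hnZ : n ∉ normalizer ((Z co : Subgroup G) : Set G)) :
    RR co ⊔ (RR co).map (MulAut.conj n).toMonoidHom = Db co := by
  have hle : RR co ⊔ (RR co).map (MulAut.conj n).toMonoidHom ≤ Db co := by
    refine sup_le RR_le_Db ?_
    rintro _ ⟨x, hx, rfl⟩
    exact (mem_normalizer_iff.1 hn x).1 (RR_le_Db hx)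
  -- `RR ∩ RR^n = F0`
  have hinf : RR co ⊓ (RR co).map (MulAut.conj n).toMonoidHom ≤ F0 co := by
    intro x hx
    obtain ⟨hx1, hx2⟩ := mem_inf.1 hx
    obtain ⟨y, hy, e⟩ := hx2
    have e' : x = n * y * n⁻¹ := e.symm
    apply mem_F0_of_cm_eq_one hx1.1
    intro w hw
    by_contra hne
    have h1 : cm x w ∈ Z co := cm_mem_Z_of_Da (RR_le_Da hx1) (F0_le_Da hw)
    have hni : n⁻¹ ∉ normalizer ((Z co : Subgroup G) : Set G) := fun h => hnZ (by simpa using inv_mem h)
    apply hni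
    refine o2.ti n⁻¹ (inv_mem hn) _ h1 hne ?_
    rw [conj_cm]
    have hw' : n⁻¹ * w * n⁻¹⁻¹ ∈ F0 co := conj_mem_of_le o2.inv (inv_mem hn) hw
    refine cm_mem_Z_of_Da ?_ (F0_le_Da hw')
    rw [e']
    have : n⁻¹ * (n * y * n⁻¹) * n⁻¹⁻¹ = y := by group
    rw [this]
    exact RR_le_Da hy
  refine Subgroup.eq_of_le_of_card_ge hle ?_
  set A := RR co with hA
  set B := (RR co).map (MulAut.conj n).toMonoidHom with hB
  have hcB : Nat.card B = Nat.card A := by rw [hB, card_map_conj]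
  have h1 : Nat.card (A ⊓ B : Subgroup G) * (A ⊓ B).relIndex A = Nat.card A := by
    rw [← relIndex_bot_left, ← relIndex_bot_left]
    exact relIndex_mul_relIndex ⊥ (A ⊓ B) A bot_le inf_le_left
  have h2 : Nat.card B * B.relIndex (A ⊔ B) = Nat.card (A ⊔ B : Subgroup G) := by
    rw [← relIndex_bot_left, ← relIndex_bot_left]
    exact relIndex_mul_relIndex ⊥ B (A ⊔ B) bot_le le_sup_right
  have h3 : (A ⊓ B).relIndex A ≤ B.relIndex (A ⊔ B) := by
    rw [inf_relIndex_left]
    exact Subgroup.relIndex_le_of_le_right le_sup_left Subgroup.index_ne_zero_of_finite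
  have h4 : Nat.card (A ⊓ B : Subgroup G) ≤ Nat.card (F0 co) :=
    Nat.card_le_card_of_injective _ (inclusion_injective hinf)
  have hK0 : 0 < Nat.card A := Nat.card_pos
  have e1 : Nat.card A = Nat.card K * Nat.card (F0 co) := by rw [hA, card_RR, card_F0]
  have e2 : Nat.card (Db co) = Nat.card K * Nat.card A := by rw [card_Db, hA, card_RR]; ring
  rw [e2]
  have hF0 : 0 < Nat.card (F0 co) := Nat.card_pos
  have hI : 0 < Nat.card (A ⊓ B : Subgroup G) := Nat.card_pos
  have h5 : Nat.card K ≤ (A ⊓ B).relIndex A := by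
    by_contra hcon
    push Not at hcon
    have h6 : Nat.card (A ⊓ B : Subgroup G) * (A ⊓ B).relIndex A < Nat.card (F0 co) * Nat.card K :=
      calc Nat.card (A ⊓ B : Subgroup G) * (A ⊓ B).relIndex A < Nat.card (A ⊓ B : Subgroup G) * Nat.card K :=
            Nat.mul_lt_mul_of_pos_left hcon hI
        _ ≤ Nat.card (F0 co) * Nat.card K := Nat.mul_le_mul_right _ h4
    rw [h1, e1, mul_comm] at h6
    exact lt_irrefl _ h6
  rw [← h2, hcB, mul_comm]
  exact Nat.mul_le_mul_left _ (h5.trans h3)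

section

variable (hc2 : Cfsg.IsCharacteristicTwoType G) (oZ : OutZ S co) (o2 : Out2 S co)

include hc2 oZ o2

/-- `C_G(V) ≤ N_G(Db)` -/
theorem cV_le : centralizer ((E2 co : Subgroup G) : Set G) ≤ normalizer ((Db co : Subgroup G) : Set G) := by
  obtain ⟨z, hz, hz1⟩ := exists_Z_ne_one co
  have hN := cz hc2 oZ hz hz1
  have hRR : centralizer ((E2 co : Subgroup G) : Set G) ≤ normalizer ((RR co : Subgroup G) : Set G) := by
    apply le_normalizer_of
    intro x hx d hd
    have hxz : x ∈ centralizer ({z} : Set G) := by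
      rw [mem_centralizer_singleton_iff]
      exact (mem_centralizer_iff.1 hx z (Z_le_E2 hz)).symm
    have h1 : x * d * x⁻¹ ∈ Da co := conj_mem_of_le hN hxz (RR_le_Da hd)
    refine ⟨h1.1, h1.2, a6_eq_zero_of_comm h1.1 (fun v hv => ?_)⟩
    rw [cm_eq_one]
    have h2 : v * x = x * v := mem_centralizer_iff.1 hx v hv
    have h3 : d * v = v * d := cm_eq_one.1 (cm_Db_E2 (RR_le_Db hd) hv)
    have h2' : x⁻¹ * v = v * x⁻¹ := by
      rw [inv_mul_eq_iff_eq_mul, ← mul_assoc, ← h2, mul_inv_cancel_right]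
    calc x * d * x⁻¹ * v = x * d * (x⁻¹ * v) := by group
      _ = x * (d * v) * x⁻¹ := by rw [h2']; group
      _ = (x * v) * d * x⁻¹ := by rw [h3]; group
      _ = v * (x * d * x⁻¹) := by rw [← h2]; group
  obtain ⟨n, hn, hnZ⟩ := o2.ex
  have hnV : n ∈ normalizer ((E2 co : Subgroup G) : Set G) := le_normalizer_E2_of_Db le_rfl hn
  rw [← sup_RR o2 hn hnZ]
  apply le_normalizer_of
  intro x hx d hd
  have hxn : n⁻¹ * x * n ∈ centralizer ((E2 co : Subgroup G) : Set G) := by
    rw [mem_centralizer_iff] at hx ⊢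
    intro v hv
    have h1 := hx (n * v * n⁻¹) ((mem_normalizer_iff.1 hnV v).1 hv)
    calc v * (n⁻¹ * x * n) = n⁻¹ * ((n * v * n⁻¹) * x) * n := by group
      _ = n⁻¹ * x * n * v := by rw [h1]; group
  have key : RR co ⊔ (RR co).map (MulAut.conj n).toMonoidHom ≤
      (RR co ⊔ (RR co).map (MulAut.conj n).toMonoidHom).comap (MulAut.conj x).toMonoidHom := by
    refine sup_le ?_ ?_
    · intro r hr
      exact mem_sup_left ((mem_normalizer_iff.1 (hRR hx) r).1 hr)
    · rintro _ ⟨r, hr, rfl⟩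
      refine mem_sup_right ⟨(n⁻¹ * x * n) * r * (n⁻¹ * x * n)⁻¹, (mem_normalizer_iff.1 (hRR hxn) r).1 hr, ?_⟩
      change n * ((n⁻¹ * x * n) * r * (n⁻¹ * x * n)⁻¹) * n⁻¹ = x * (n * r * n⁻¹) * x⁻¹
      group
  exact key hd

/-- `N_G(V) ≤ N_G(Db)` -/
theorem nV : normalizer ((E2 co : Subgroup G) : Set G) ≤ normalizer ((Db co : Subgroup G) : Set G) := by
  have hX := cV_le hc2 oZ o2
  have hSN : (S : Subgroup G) ≤ normalizer ((E2 co : Subgroup G) : Set G) :=
    S_le_normalizer_Db.trans (le_normalizer_E2_of_Db le_rfl)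
  have hXN : ∀ g ∈ normalizer ((E2 co : Subgroup G) : Set G), ∀ x ∈ centralizer ((E2 co : Subgroup G) : Set G),
      g * x * g⁻¹ ∈ centralizer ((E2 co : Subgroup G) : Set G) := by
    intro g hg x hx
    rw [mem_centralizer_iff] at hx ⊢
    intro v hv
    have h1 := hx (g⁻¹ * v * g) (by
      have := (mem_normalizer_iff.1 (inv_mem hg) v).1 hv
      simpa using this)
    calc v * (g * x * g⁻¹) = g * ((g⁻¹ * v * g) * x) * g⁻¹ := by group
      _ = g * x * g⁻¹ * v := by rw [h1]; group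
  have hDbX : Db co ≤ centralizer ((E2 co : Subgroup G) : Set G) := by
    intro x hx
    rw [mem_centralizer_iff]
    intro v hv
    exact (cm_eq_one.1 (cm_Db_E2 hx hv)).symm
  have hDbN : Db co ≤ normalizer ((E2 co : Subgroup G) : Set G) := Db_le.trans hSN
  intro g hg
  have hgX : (Db co).map (MulAut.conj g).toMonoidHom ≤ centralizer ((E2 co : Subgroup G) : Set G) := by
    rintro _ ⟨x, hx, rfl⟩
    exact hXN g hg x (hDbX hx)
  have hDbp : IsPGroup 2 (Db co) := S.isPGroup'.to_le Db_le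
  have hQp : IsPGroup 2 (Db co ⊔ (Db co).map (MulAut.conj g).toMonoidHom : Subgroup G) :=
    hDbp.to_sup_of_normal_left' (hDbp.map _) (hgX.trans hX)
  have hQX : Db co ⊔ (Db co).map (MulAut.conj g).toMonoidHom ≤ centralizer ((E2 co : Subgroup G) : Set G) :=
    sup_le hDbX hgX
  have hQN : Db co ⊔ (Db co).map (MulAut.conj g).toMonoidHom ≤ normalizer ((E2 co : Subgroup G) : Set G) :=
    hQX.trans (centralizer_le_normalizer _)
  obtain ⟨r, hr, hrle⟩ := exists_conj_le_in (p := 2) S.isPGroup'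
    (Cfsg.Agent.TypeL3.sylow_not_dvd_relIndex S hSN) hQN hQp
  have h1 : (Db co ⊔ (Db co).map (MulAut.conj g).toMonoidHom).map (MulAut.conj r).toMonoidHom ≤ Db co := by
    rintro _ ⟨x, hx, rfl⟩
    have h2 : r * x * r⁻¹ ∈ (S : Subgroup G) := hrle ⟨x, hx, rfl⟩
    have h3 := hXN r hr x (hQX hx)
    exact ⟨h2, a6_eq_zero_of_comm h2 (fun v hv => cm_eq_one.2 (mem_centralizer_iff.1 h3 v hv).symm)⟩
  have h2 : Nat.card (Db co ⊔ (Db co).map (MulAut.conj g).toMonoidHom : Subgroup G) ≤ Nat.card (Db co) := by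
    have h4 := Nat.card_le_card_of_injective _ (inclusion_injective h1)
    rwa [card_map_conj] at h4
  have h3 : Db co = Db co ⊔ (Db co).map (MulAut.conj g).toMonoidHom :=
    Subgroup.eq_of_le_of_card_ge le_sup_left h2
  exact mem_normalizer_iff_map_conj.2 (map_conj_le_of_le_normalizer (by
    conv_rhs => rw [h3]
    exact le_sup_right))

/-- `C_G(w) ≤ N_G(Db)` for `w ∈ W ∖ V` -/
theorem cw (hD : Dat C) (o1 : Out1 S co) (oF : OutFus S co) {w : G} (hw : w ∈ F0 co) (hwV : w ∉ E2 co)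
    (hP : ∃ P : Sylow 2 (centralizer ({w} : Set G)), (P : Subgroup (centralizer ({w} : Set G))) =
      (S : Subgroup G).subgroupOf (centralizer ({w} : Set G))) :
    centralizer ({w} : Set G) ≤ normalizer ((Db co : Subgroup G) : Set G) := by
  refine le_trans ?_ (nV hc2 oZ o2)
  have hw2 : w * w = 1 := sq_F0 hw
  have hw1 : w ≠ 1 := by
    rintro rfl
    exact hwV (one_mem _)
  have hwZ : w ∉ Z co := fun h => hwV (Z_le_E2 h)
  have hchar := char_centralizer hc2 hw2 hw1
  obtain ⟨P, hP⟩ := hP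
  have hcl : Cfsg.IsStronglyClosed ((E2 co).subgroupOf (centralizer ({w} : Set G)))
      (P : Subgroup (centralizer ({w} : Set G))) := by
    refine ⟨fun x hx => ?_, fun x hx g hg => ?_⟩
    · rw [hP, mem_subgroupOf]
      exact E2_le (mem_subgroupOf.1 hx)
    · rw [hP, mem_subgroupOf] at hg
      rw [mem_subgroupOf] at hx ⊢
      exact conj_mem_E2 hD o1 o2 oZ oF hw hwZ hx (mem_centralizer_singleton_iff.1 g.2) hg
  have h1 := Cfsg.Agent.TypeL3.le_pCore_of_closed P hcl
    (fun x hx y hy => Subtype.ext (cm_eq_one.1 (cm_F0_F0 (E2_le_F0 hx) (E2_le_F0 hy))))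
    (fun x hx => Subtype.ext (sq_F0 (E2_le_F0 hx))) hchar
  have hn : (Cfsg.pCore 2 (centralizer ({w} : Set G))).Normal := Lib.Cores.pCore_normal 2
  have hle : Cfsg.pCore 2 (centralizer ({w} : Set G)) ≤ (P : Subgroup (centralizer ({w} : Set G))) :=
    Lib.Cores.pCore_le_sylow P
  apply le_normalizer_of
  intro c hc v hv
  have hvH : v ∈ centralizer ({w} : Set G) := mem_centralizer_singleton_iff.2
    (cm_eq_one.1 (cm_F0_F0 (E2_le_F0 hv) hw))
  have h2 : (⟨v, hvH⟩ : centralizer ({w} : Set G)) ∈ (E2 co).subgroupOf (centralizer ({w} : Set G)) := hv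
  exact hcl.2 _ h2 ⟨c, hc⟩ (hle (hn.conj_mem _ (h1 h2) ⟨c, hc⟩))

end

/-- the involutions of `N_G(Db)` are in `L₂` -/
theorem mem_L2_of_sq {x : G} (hx : x ∈ normalizer ((Db co : Subgroup G) : Set G)) (hx2 : x * x = 1) :
    x ∈ L2 S co := by
  by_cases hx1 : x = 1
  · rw [hx1]; exact one_mem _
  have hzp : IsPGroup 2 (zpowers x) := by
    rw [IsPGroup.iff_card]
    exact ⟨1, by rw [Nat.card_zpowers, Cfsg.Agent.TypeL3.orderOf_eq_two_of_sq hx2 hx1, pow_one]⟩
  obtain ⟨g, hg, hle⟩ := exists_conj_le_in (p := 2) S.isPGroup'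
    (Cfsg.Agent.TypeL3.sylow_not_dvd_relIndex S S_le_normalizer_Db) (zpowers_le.2 hx) hzp
  have h1 : g * x * g⁻¹ ∈ (S : Subgroup G) := hle ⟨x, mem_zpowers x, by simp⟩
  have h2 := conj_mem_conjClosure (inv_mem hg) h1
  have e : g⁻¹ * (g * x * g⁻¹) * g⁻¹⁻¹ = x := by group
  rw [e] at h2
  exact h2

/-! ### The output -/

/-- the output of piece H -/
structure Out (S : Sylow 2 G) (co : Coord C (S : Subgroup G)) : Prop where
  cen : OutCen S co
  two : Cfsg.IsCharacteristicTwoType G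
  nV : normalizer ((E2 co : Subgroup G) : Set G) ≤ normalizer ((Db co : Subgroup G) : Set G)
  cw : ∀ w ∈ F0 co, w ∉ E2 co → centralizer ({w} : Set G) ≤ normalizer ((Db co : Subgroup G) : Set G)

theorem out (h1169 : H1169.{u}) (h1171 : H1171.{u}) (h1296 : H1296.{u}) (hbend : HBend.{u}) [IsSimpleGroup G]
    (hD : Dat C) (hE : HEss.{u, v} C) (o1 : Out1 S co) (o2 : Out2 S co) (oZ : OutZ S co) : Out S co := by
  have oF := outFus hD hE o1
  have oI := Invol.outInv hD hE o1 o2
  have hc2 := characteristicTwoType h1169 h1171 h1296 hbend hD o1 o2 oZ oI oF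
  have hcw : ∀ w ∈ F0 co, w ∉ E2 co → centralizer ({w} : Set G) ≤ normalizer ((Db co : Subgroup G) : Set G) :=
    fun w hw hwV => cw hc2 oZ o2 hD o1 oF hw hwV (Invol.exists_sylow hD hE o1 hw hwV)
  exact
    { cen :=
        { cz := fun z hz hz1 => cz hc2 oZ hz hz1
          cu := fun k hk => hcw _ (Invol.x3_mem k) (Invol.x3_notMem hk)
          cDa := cDa hc2 oZ
          cDb := cDb hc2 oZ }
      two := hc2
      nV := nV hc2 oZ o2
      cw := hcw }

theorem outCen (h1169 : H1169.{u}) (h1171 : H1171.{u}) (h1296 : H1296.{u}) (hbend : HBend.{u}) [IsSimpleGroup G]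
    (hD : Dat C) (hE : HEss.{u, v} C) (o1 : Out1 S co) (o2 : Out2 S co) (oZ : OutZ S co) : OutCen S co :=
  (out h1169 h1171 h1296 hbend hD hE o1 o2 oZ).cen

/-- the involutions commuting with `w ∈ W ∖ V` are in `L₂` -/
theorem Out.mem_L2 (h : Out S co) {w x : G} (hw : w ∈ F0 co) (hwV : w ∉ E2 co) (hx : x * x = 1)
    (hc : Commute x w) : x ∈ L2 S co :=
  mem_L2_of_sq (h.cw w hw hwV (mem_centralizer_singleton_iff.2 hc)) hx

end Cfsg.Agent.HexGlob.CharTwo
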