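import Cfsg.Agent.HexGlob.Spec
import Cfsg.Agent.HexEss.Step2
import Cfsg.Agent.HexEss.Step3a

/-!
# The essential subgroups: assembly
-/

set_option autoImplicit false

namespace Cfsg.Agent.HexGlob

open Cfsg.Agent.HexRec Cfsg.Agent.HexEss Subgroup Cfsg.Agent.Lib.GoldschmidtFusion Cfsg.Agent.Lib.EssDefs

universe u v

variable {F K : Type v} [Field F] [Field K] [Algebra F K] {C : Cubic F K}

theorem Dat.two_lt [Finite K] (h : Dat C) : 2 < Nat.card K := by
  have h1 : Nat.card F ≤ Nat.card K := Nat.card_le_card_of_injective _ (algebraMap F K).injective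
  have := h.q4
  omega

theorem Dat.deg' [Finite F] (h : Dat C) : (∀ a b : K, C.cr a b = 0) ∨ Nat.card F ^ 2 < Nat.card K := by
  rcases h.deg with h1 | h1
  · left
    have hone : ∀ k : K, ∃ f : F, k = f • (1 : K) := by
      intro k
      obtain ⟨f, rfl⟩ := h1 k
      exact ⟨f, by rw [Algebra.smul_def, mul_one]⟩
    intro a b
    obtain ⟨f, rfl⟩ := hone a
    obtain ⟨g, rfl⟩ := hone b
    rw [cr_smul_left, cr_smul_right, C.cr_self, smul_zero, smul_zero]
  · right
    have : Module.Finite F K := Module.finite_of_finrank_pos (by omega)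
    rw [Module.natCard_eq_pow_finrank (K := F) (V := K), h1]
    exact Nat.pow_lt_pow_right (by have := h.q4; omega) (by norm_num)

/-- **The essential subgroups of a 2-group of type `G₂(q)`, `³D₄(q)`, `q ≥ 4`.** -/
theorem Dat.hEss (h : Dat C) : HEss.{u} C := by
  intro X _ _ S co D hD
  obtain ⟨H, hH⟩ := hD
  have hF := Abel.finite_F co
  have hK := Abel.finite_K co
  have h1 : F0 co ≤ D := Step2.F0_le_X S.isPGroup' hH co
    (fun t s ht hts => exists_smul_of_cr_eq_zero h.reg ht hts) h.two_lt
  exact Step3.eq_Da_or_eq_Db hH h1 h.reg h.deg'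

end Cfsg.Agent.HexGlob
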