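import Cfsg.Agent.HexGlob.Facts
import Cfsg.Agent.SignalizersComponents.Components
import Cfsg.Prelude.Def_TwoFusion

/-!
# The centralizer of an element of `Z` modulo its core: interface

`CZ P co L`: the situation in `X = C_G(z) / O(C_G(z))`, `P` the image of `S` with the transported coordinates `co`,
`L` the image of `L₁`.
-/

set_option autoImplicit false

namespace Cfsg.Agent.HexGlob.CenZ

open Cfsg.Agent.HexRec Cfsg.Agent.HexEss Cfsg.Agent.HexGlob Subgroup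

universe u v

variable {F K : Type v} [Field F] [Field K] [Algebra F K] {C : Cubic F K}
variable {X : Type u} [Group X] [Finite X]

/-- the situation in `C_G(z) / O(C_G(z))` -/
structure CZ (P : Sylow 2 X) (co : Coord C (P : Subgroup X)) (L : Subgroup X) : Prop where
  core : Cfsg.oddCore X = ⊥
  closedZ : Cfsg.IsStronglyClosed (Z co) (P : Subgroup X)
  closedDa : Cfsg.IsStronglyClosed (Da co) (P : Subgroup X)
  P_le : (P : Subgroup X) ≤ L
  L_le : L ≤ normalizer ((Da co : Subgroup X) : Set X)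
  cent : ∀ l ∈ L, ∀ z ∈ Z co, l * z = z * l
  f0 : ∃ g ∈ L, ∃ v ∈ E2 co, g * v * g⁻¹ ∉ RR co
  f1 : ∀ g ∈ L, g ∉ normalizer ((E2 co : Subgroup X) : Set X) → ∀ v ∈ E2 co, g * v * g⁻¹ ∈ RR co →
    v ∈ Z co
  f3 : ∀ Y : Subgroup X, Y ≤ Da co → L ≤ normalizer (Y : Set X) → ¬ Y ≤ Z co →
    ∀ x ∈ (P : Subgroup X), (∀ y ∈ Y, cm x y = 1) → x ∈ Z co
  f3' : ∀ Y : Subgroup X, Y ≤ Da co → L ≤ normalizer (Y : Set X) → ¬ Y ≤ Z co →
    ∀ x ∈ (P : Subgroup X), (∀ y ∈ Y, cm x y ∈ Z co) → x ∈ Da co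
  f4 : Module.finrank F K = 3 → ∀ Y : Subgroup X, Y ≤ Da co → L ≤ normalizer (Y : Set X) →
    ¬ Y ≤ Z co → Y = Da co
  simple : ∀ M : Subgroup X, M ≤ L → L ≤ normalizer (M : Set X) →
    M ≤ Da co ⊔ centralizer ((Da co : Subgroup X) : Set X) ∨
    L ≤ M ⊔ (Da co ⊔ centralizer ((Da co : Subgroup X) : Set X))

/-- what has to be shown about `X = C_G(z) / O(C_G(z))` -/
def Goal (C : Cubic F K) : Prop :=
  ∀ (X : Type u) [Group X] [Finite X] (P : Sylow 2 X) (co : Coord C (P : Subgroup X)) (L : Subgroup X),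
    CZ P co L → (Da co).Normal ∧ ¬ Cfsg.HasComponent X

end Cfsg.Agent.HexGlob.CenZ
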