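import Mathlib
import Cfsg.Agent.HexEss.Abel
import Cfsg.Agent.HexEss.Tools

/-!
# The linear group induced on `Da / Z`: interface

`MM F K = F × K × K × F` (coordinates `(u, s, k, v) = (a6, a5, a3, a2)`), `qf` the quadratic form with polar form
`formA`, `AA C t` the action of `x1(t)`.  `Lin C R`: the properties of the group `R` induced by `L₁`.
`LinOut C R`: the consequences.
-/

set_option autoImplicit false

namespace Cfsg.Agent.HexGlob.OneSpec

open Cfsg.Agent.HexRec Cfsg.Agent.HexEss Cfsg.Agent.HexEss.Abel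

/-- coordinates `(u, s, k, v)` on `Da / Z` -/
abbrev MM (F K : Type*) := F × K × K × F

variable {F K : Type*} [Field F] [Field K] [Algebra F K]

/-- the quadratic form: squares of elements of `Da` -/
def qf (C : Cubic F K) (w : MM F K) : F := w.1 * w.2.2.2 + C.T w.2.1 w.2.2.1

/-- the formula for the action of `x1(t)` -/
def aFun (C : Cubic F K) (t : K) (w : MM F K) : MM F K :=
  (w.1, w.2.1 + w.1 • t, w.2.2.1 + C.cr t w.2.1 + w.1 • C.sh t,
    w.2.2.2 + C.T t w.2.2.1 + C.T (C.sh t) w.2.1 + w.1 * C.N t)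

theorem aFun_aFun (C : Cubic F K) (t t' : K) (w : MM F K) : aFun C t (aFun C t' w) = aFun C (t + t') w := by
  obtain ⟨u, s, k, v⟩ := w
  simp only [aFun]
  refine Prod.ext rfl (Prod.ext ?_ (Prod.ext ?_ ?_))
  · simp only [smul_add]; abel
  · simp only [C.cr_add_right, C.cr_add_left, C.sh_add', smul_add, cr_smul_right]; abel
  · simp only [C.T_add_right, C.T_add_left, C.N_add', C.sh_add', C.T_smul_right, mul_add]
    rw [← C.T_cr t t' s]
    ring

theorem aFun_zero (C : Cubic F K) (w : MM F K) : aFun C 0 w = w := by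
  obtain ⟨u, s, k, v⟩ := w
  simp [aFun, C.cr_zero_left, C.sh_zero, C.T_zero_left, C.N_zero]

/-- the action of `x1(t)` on `Da / Z` -/
def AA (C : Cubic F K) (t : K) : MM F K ≃ₗ[F] MM F K where
  toFun := aFun C t
  invFun := aFun C t
  map_add' := by
    rintro ⟨u, s, k, v⟩ ⟨u', s', k', v'⟩
    simp only [aFun, Prod.mk_add_mk]
    refine Prod.ext rfl (Prod.ext ?_ (Prod.ext ?_ ?_))
    · simp only [add_smul]; abel
    · simp only [C.cr_add_right, add_smul]; abel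
    · simp only [C.T_add_right]; ring
  map_smul' := by
    rintro f ⟨u, s, k, v⟩
    simp only [aFun, Prod.smul_mk, smul_eq_mul, RingHom.id_apply]
    refine Prod.ext rfl (Prod.ext ?_ (Prod.ext ?_ ?_))
    · simp only [smul_add, mul_smul]
    · simp only [smul_add, mul_smul, cr_smul_right]
    · simp only [C.T_smul_right]; ring
  left_inv := by
    intro w
    rw [aFun_aFun, C.add_selfK, aFun_zero]
  right_inv := by
    intro w
    rw [aFun_aFun, C.add_selfK, aFun_zero]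

theorem AA_apply (C : Cubic F K) (t : K) (u : F) (s k : K) (v : F) : AA C t (u, s, k, v) =
    (u, s + u • t, k + C.cr t s + u • C.sh t, v + C.T t k + C.T (C.sh t) s + u * C.N t) := rfl

theorem AA_fst (C : Cubic F K) (t : K) (w : MM F K) : (AA C t w).1 = w.1 := rfl

theorem AA_mul (C : Cubic F K) (t t' : K) : AA C t * AA C t' = AA C (t + t') :=
  LinearEquiv.ext fun w => aFun_aFun C t t' w

theorem AA_zero (C : Cubic F K) : AA C 0 = 1 := LinearEquiv.ext fun w => aFun_zero C w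

theorem AA_mul_self (C : Cubic F K) (t : K) : AA C t * AA C t = 1 := by
  rw [AA_mul, C.add_selfK, AA_zero]

theorem AA_inj (C : Cubic F K) {t t' : K} (h : AA C t = AA C t') : t = t' := by
  have h1 := congrArg (fun g : MM F K ≃ₗ[F] MM F K => (g (1, 0, 0, 0)).2.1) h
  simpa [AA_apply] using h1

theorem AA_eq_one (C : Cubic F K) {t : K} (h : AA C t = 1) : t = 0 := AA_inj C (h.trans (AA_zero C).symm)

/-- `V̄ = {(0,0,0,v)}` -/
def Vb (F K : Type*) [Field F] [Field K] [Algebra F K] : Submodule F (MM F K) where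
  carrier := {w | w.1 = 0 ∧ w.2.1 = 0 ∧ w.2.2.1 = 0}
  add_mem' := by
    rintro ⟨u, s, k, v⟩ ⟨u', s', k', v'⟩ ⟨h1, h2, h3⟩ ⟨h1', h2', h3'⟩
    simp only at h1 h2 h3 h1' h2' h3'
    simp [h1, h2, h3, h1', h2', h3']
  zero_mem' := by simp
  smul_mem' := by
    rintro f ⟨u, s, k, v⟩ ⟨h1, h2, h3⟩
    simp only at h1 h2 h3
    simp [h1, h2, h3]

/-- `W̄ = {(0,0,k,v)}` -/
def Wb (F K : Type*) [Field F] [Field K] [Algebra F K] : Submodule F (MM F K) where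
  carrier := {w | w.1 = 0 ∧ w.2.1 = 0}
  add_mem' := by
    rintro ⟨u, s, k, v⟩ ⟨u', s', k', v'⟩ ⟨h1, h2⟩ ⟨h1', h2'⟩
    simp only at h1 h2 h1' h2'
    simp [h1, h2, h1', h2']
  zero_mem' := by simp
  smul_mem' := by
    rintro f ⟨u, s, k, v⟩ ⟨h1, h2⟩
    simp only at h1 h2
    simp [h1, h2]

theorem mem_Vb {w : MM F K} : w ∈ Vb F K ↔ w.1 = 0 ∧ w.2.1 = 0 ∧ w.2.2.1 = 0 := Iff.rfl
theorem mem_Wb {w : MM F K} : w ∈ Wb F K ↔ w.1 = 0 ∧ w.2.1 = 0 := Iff.rfl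
theorem mk_mem_Vb {u : F} {s k : K} {v : F} : (u, s, k, v) ∈ Vb F K ↔ u = 0 ∧ s = 0 ∧ k = 0 := Iff.rfl
theorem mk_mem_Wb {u : F} {s k : K} {v : F} : (u, s, k, v) ∈ Wb F K ↔ u = 0 ∧ s = 0 := Iff.rfl
theorem Vb_le_Wb : Vb F K ≤ Wb F K := fun _ h => ⟨h.1, h.2.1⟩

/-- `g` stabilises `V̄` -/
def FixV (g : MM F K ≃ₗ[F] MM F K) : Prop := ∀ w ∈ Vb F K, g w ∈ Vb F K

/-- `g` normalises `T₁ = {A(t)}` -/
def NorT (C : Cubic F K) (g : MM F K ≃ₗ[F] MM F K) : Prop := ∀ t : K, ∃ t' : K, g * AA C t * g⁻¹ = AA C t'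

/-- Properties of the group `R` induced on `Da / Z` by `L₁` (Bender part, pieces E1-E3). -/
structure Lin (C : Cubic F K) (R : Subgroup (MM F K ≃ₗ[F] MM F K)) : Prop where
  form : ∀ g ∈ R, ∀ v w, formA C (g v) (g w) = formA C v w
  quad : ∀ g ∈ R, ∀ w, qf C (g w) = qf C w
  memA : ∀ t, AA C t ∈ R
  simple : IsSimpleGroup R
  stab : ∀ g ∈ R, FixV g ↔ NorT C g
  ne : ∃ g ∈ R, ¬ FixV g
  /-- from the invariance of `F0` under `N_G(S)` -/
  norW : ∀ g ∈ R, FixV g → ∀ w ∈ Wb F K, g w ∈ Wb F K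
  /-- `T₁` is transitive on the conjugates of `V̄` other than `V̄` -/
  trans : ∀ g₁ ∈ R, ∀ g₂ ∈ R, ¬ FixV g₁ → ¬ FixV g₂ → ∃ t, FixV (g₂⁻¹ * AA C t * g₁)
  /-- ... and semiregular -/
  reg : ∀ g ∈ R, ¬ FixV g → ∀ t, FixV (g⁻¹ * AA C t * g) → t = 0
  /-- the stabiliser of `V̄` and `g V̄` is transitive on `T₁#` -/
  transT : ∀ g ∈ R, ¬ FixV g → ∀ t t' : K, t ≠ 0 → t' ≠ 0 →
    ∃ h ∈ R, FixV h ∧ FixV (g⁻¹ * h * g) ∧ h * AA C t * h⁻¹ = AA C t'

/-- Consequences (linear algebra part, pieces E4-E8). -/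
structure LinOut (C : Cubic F K) (R : Subgroup (MM F K ≃ₗ[F] MM F K)) : Prop where
  /-- a conjugate of `V̄` different from `V̄` meets `{u = 0}` trivially -/
  f1 : ∀ g ∈ R, ¬ FixV g → ∀ w ∈ Vb F K, (g w).1 = 0 → w = 0
  /-- `W̄ ∩ W̄^g = 0` -/
  f2 : ∀ g ∈ R, ¬ FixV g → ∀ w ∈ Wb F K, g w ∈ Wb F K → w = 0
  /-- the orthogonal complement of an invariant additive subgroup -/
  f3 : ∀ B : AddSubgroup (MM F K), (∀ g ∈ R, ∀ b ∈ B, g b ∈ B) → B ≠ ⊥ →
    ∀ x, (∀ b ∈ B, formA C x b = 0) → x = 0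
  f3' : ∀ B : AddSubgroup (MM F K), (∀ g ∈ R, ∀ b ∈ B, g b ∈ B) → B ≠ ⊥ →
    ∀ t, (∀ b ∈ B, AA C t b = b) → t = 0
  f4 : Module.finrank F K = 3 → ∀ B : AddSubgroup (MM F K), (∀ g ∈ R, ∀ b ∈ B, g b ∈ B) → B ≠ ⊥ → B = ⊤
  /-- every singular vector is conjugate into `W̄` -/
  sing : ∀ x : MM F K, qf C x = 0 → ∃ g ∈ R, g x ∈ Wb F K

end Cfsg.Agent.HexGlob.OneSpec
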