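import Mathlib
import Cfsg.Agent.HexGlob.Facts
import Cfsg.Agent.HexGlob.OneSpec
import Cfsg.Agent.HexEss.Count
import Cfsg.Agent.HexEss.Final
import Cfsg.Agent.Lib.KleinGen

/-!
# Groups of odd order acting on `Da / Z` and normalised by the `A(t)` are trivial

Piece B of the blueprint.  `M` is an additive subgroup of `MM F K`, invariant under the maps `AA C t`, not
contained in `{u = 0}`, and equal to everything if `K ≠ F`.  A finite group of odd order of additive automorphisms
of `M` preserving `formA` and `qf` and normalised by the restrictions of the `AA C t` is trivial.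
-/

set_option autoImplicit false

namespace Cfsg.Agent.HexGlob.OddLin

open Cfsg.Agent.HexRec Cfsg.Agent.HexEss Cfsg.Agent.HexEss.Abel Cfsg.Agent.HexGlob.OneSpec Subgroup

universe v

section abs

variable {M : Type*} [AddCommGroup M]

/-- a unipotent automorphism of odd order is trivial -/
theorem eq_one_of_nilp (h2 : ∀ x : M, x + x = 0) (g : (AddMonoid.End M)ˣ) (hodd : Odd (orderOf g)) (d : M → M)
    (hd : ∀ w, d w = (g : AddMonoid.End M) w + w) (h : ∀ w, d (d (d (d w))) = 0) : g = 1 := by
  set f : AddMonoid.End M := (g : AddMonoid.End M) with hf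
  have e2 : ∀ w, f (f w) = d (d w) + w := by
    intro w
    have h1 : d (d w) = f (f w) + f w + (f w + w) := by rw [hd (d w), hd w, map_add]
    rw [h1]
    calc f (f w) = f (f w) + (f w + f w) + (w + w) := by rw [h2, h2, add_zero, add_zero]
      _ = _ := by abel
  have e4 : ∀ w, f (f (f (f w))) = w := by
    intro w
    rw [e2 (f (f w)), e2 w]
    have h3 : ∀ x y, d (x + y) = d x + d y := by
      intro x y; rw [hd, hd, hd, map_add]; abel
    rw [h3, h3, h, zero_add]
    calc d (d w) + (d (d w) + w) = (d (d w) + d (d w)) + w := by abel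
      _ = w := by rw [h2, zero_add]
  have hg4 : g ^ 4 = 1 := by
    apply Units.ext
    apply AddMonoidHom.ext
    intro w
    rw [Units.val_pow_eq_pow_val, Units.val_one, ← hf]
    have : (f ^ 4) w = f (f (f (f w))) := by
      simp only [pow_succ, pow_zero, one_mul]
      rfl
    exact this.trans (e4 w)
  have h5 : orderOf g ∣ 4 := orderOf_dvd_of_pow_eq_one hg4
  have h6 : Nat.Coprime (orderOf g) 4 := by
    rw [show (4 : ℕ) = 2 ^ 2 from rfl]
    exact Nat.Coprime.pow_right 2 hodd.coprime_two_right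
  exact orderOf_eq_one_iff.1 (Nat.eq_one_of_dvd_coprimes h6 dvd_rfl h5)

end abs

variable {F K : Type v} [Field F] [Field K] [Algebra F K] {C : Cubic F K}

theorem MM_add_self (C : Cubic F K) (x : MM F K) : x + x = 0 := by
  obtain ⟨u, s, k, w⟩ := x
  simp only [Prod.mk_add_mk, C.add_self, C.add_selfK]
  rfl

/-! ### The case `K = F` -/

section surj

variable (hC : Reg C) (hs : Function.Surjective (algebraMap F K))
include hs

theorem T_eq_zero {a b : K} (ha : a ≠ 0) (h : C.T a b = 0) : b = 0 := by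
  by_contra hb
  apply ha
  apply C.T_nondeg
  intro c
  obtain ⟨f, hf⟩ := hs (c / b)
  have : c = f • b := by rw [Algebra.smul_def, hf, div_mul_cancel₀ _ hb]
  rw [this, C.T_smul_right, h, mul_zero]

theorem sh_eq (C : Cubic F K) (t : K) : C.sh t = t * t := by
  obtain ⟨f, rfl⟩ := hs t
  rw [C.sh_map, pow_two]

theorem fixed_iff {t : K} (ht : t ≠ 0) {w : MM F K} (h : AA C t w = w) :
    w.1 = 0 ∧ w.2.2.1 = t * w.2.1 := by
  obtain ⟨u, s, k, x⟩ := w
  rw [AA_apply] at h
  simp only [Prod.mk.injEq, true_and] at h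
  obtain ⟨h1, h2, h3⟩ := h
  have hu : u = 0 := by
    have h4 : u • t = 0 := by simpa using h1
    rcases smul_eq_zero.1 h4 with h | h
    · exact h
    · exact absurd h ht
  refine ⟨hu, ?_⟩
  simp only
  subst hu
  rw [zero_mul, add_zero, add_assoc] at h3
  have h5 : C.T t k + C.T (C.sh t) s = 0 := by simpa using h3
  have h7 : C.T t (k + t * s) = 0 := by
    rw [C.T_add_right]
    have : C.T t (t * s) = C.T (C.sh t) s := by
      unfold Cubic.T; rw [sh_eq hs, mul_assoc]
    rw [this, h5]
  exact C.eq_of_add_eq_zeroK (T_eq_zero hs ht h7)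

variable {M : AddSubgroup (MM F K)}

include hC in
/-- the difference `A(t) w - w` -/
theorem diff_fst {t : K} (w : MM F K) : (AA C t w + w).1 = 0 ∧ (AA C t w + w).2.1 = w.1 • t ∧
    (AA C t w + w).2.2.1 = w.1 • C.sh t := by
  obtain ⟨u, s, k, x⟩ := w
  rw [AA_apply]
  simp only [Prod.mk_add_mk]
  refine ⟨C.add_self u, ?_, ?_⟩
  · rw [add_right_comm, C.add_selfK, zero_add]
  · rw [Final.cr_eq_zero_of_surjective hC hs, add_zero, add_right_comm, C.add_selfK, zero_add]

include hC in
/-- an additive map of `M` commuting with `A(t)`, `t ≠ 0`, is unipotent -/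
theorem unip_surj {t : K} (ht : t ≠ 0) (f a : AddMonoid.End M) (ha : ∀ w : M, (a w : MM F K) = AA C t w)
    (hu : ∃ w : M, (w : MM F K).1 ≠ 0) (hform : ∀ v w : M, formA C (f v) (f w) = formA C v w)
    (hquad : ∀ w : M, qf C (f w) = qf C w) (hcom : ∀ w, f (a w) = a (f w)) (d : M → M)
    (hd : ∀ w, d w = f w + w) : ∀ w, d (d (d (d w))) = 0 := by
  have h2 : ∀ x : M, x + x = 0 := fun x => Subtype.ext (by simpa using MM_add_self C (x : MM F K))
  have hadd : ∀ x y, d (x + y) = d x + d y := by
    intro x y; rw [hd, hd, hd, map_add]; abel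
  -- `δ w = A(t) w - w` is fixed
  have haa : ∀ w, a (a w) = w := by
    intro w
    apply Subtype.ext
    rw [ha, ha, ← LinearEquiv.mul_apply, AA_mul_self]
    rfl
  have hfix : ∀ w, a (a w + w) = a w + w := by
    intro w; rw [map_add, haa, add_comm]
  have hfix' : ∀ {w : M}, a w = w → AA C t (w : MM F K) = w := by
    intro w hw
    rw [← ha, hw]
  -- (a) on fixed points
  have hA : ∀ {x : M}, a x = x → (d x : MM F K) ∈ Vb F K := by
    intro x hx
    have hfx : a (f x) = f x := by rw [← hcom, hx]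
    obtain ⟨h1, h3⟩ := fixed_iff hs ht (hfix' hx)
    obtain ⟨h1', h3'⟩ := fixed_iff hs ht (hfix' hfx)
    have hq := hquad x
    simp only [qf, h1, h1', zero_mul, zero_add, h3, h3'] at hq
    have h5 : ((f x : M) : MM F K).2.1 = (x : MM F K).2.1 := by
      set s := (x : MM F K).2.1
      set s' := ((f x : M) : MM F K).2.1
      have h6 : C.T t ((s' + s) * (s' + s)) = 0 := by
        have e1 : (s' + s) * (s' + s) = s' * s' + s * s := by
          linear_combination s' * s * C.two_K
        rw [e1, C.T_add_right]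
        have e2 : ∀ y : K, C.T t (y * y) = C.T y (t * y) := by
          intro y; unfold Cubic.T; rw [← mul_assoc, ← mul_assoc, mul_comm t y]
        rw [e2, e2, hq, C.add_self]
      have h7 := T_eq_zero hs ht h6
      exact C.eq_of_add_eq_zeroK (mul_self_eq_zero.1 h7)
    rw [hd]
    refine ⟨?_, ?_, ?_⟩
    · show ((f x : M) : MM F K).1 + (x : MM F K).1 = 0
      rw [h1, h1', add_zero]
    · show ((f x : M) : MM F K).2.1 + (x : MM F K).2.1 = 0
      rw [h5, C.add_selfK]
    · show ((f x : M) : MM F K).2.2.1 + (x : MM F K).2.2.1 = 0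
      rw [h3, h3', h5, C.add_selfK]
  -- (b) `u(f w) = u(w)`
  have hdelta : ∀ w : M, f (a w + w) = a (f w) + f w := by
    intro w; rw [map_add, hcom]
  have hB : ∀ w : M, ((f w : M) : MM F K).1 = (w : MM F K).1 := by
    intro w
    have h1 := hA (hfix w)
    rw [hd, hdelta] at h1
    have e1 : (((a (f w) + f w) + (a w + w) : M) : MM F K) =
        (AA C t (f w : M) + (f w : M)) + (AA C t (w : MM F K) + w) := by
      show ((a (f w) : M) : MM F K) + ((f w : M) : MM F K) + (((a w : M) : MM F K) + (w : MM F K)) = _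
      rw [ha, ha]
    rw [e1] at h1
    have h3 := h1.2.1
    have h4 : (AA C t ((f w : M) : MM F K) + ((f w : M) : MM F K)).2.1 +
        (AA C t (w : MM F K) + w).2.1 = 0 := h3
    rw [(diff_fst hC hs _).2.1, (diff_fst hC hs _).2.1, ← add_smul] at h4
    rcases smul_eq_zero.1 h4 with h | h
    · exact C.eq_of_add_eq_zero h
    · exact absurd h ht
  -- (c) `f` is trivial on `Vb`
  have hVfix : ∀ {x : M}, (x : MM F K) ∈ Vb F K → a x = x := by
    intro x hx
    apply Subtype.ext
    rw [ha]
    obtain ⟨⟨u, s, k, y⟩, hx'⟩ := x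
    obtain ⟨rfl, rfl, rfl⟩ := mk_mem_Vb.1 hx
    show AA C t (0, 0, 0, y) = (0, 0, 0, y)
    rw [AA_apply, C.cr_zero_right, C.T_zero_right, C.T_zero_right]
    simp
  have hCc : ∀ {x : M}, (x : MM F K) ∈ Vb F K → d x = 0 := by
    intro x hx
    have h1 := hA (hVfix hx)
    obtain ⟨w, hw⟩ := hu
    have h2' := hform x w
    have h3 : ((f x : M) : MM F K) ∈ Vb F K := by
      have : ((f x : M) : MM F K) = (d x : M) + (x : MM F K) := by
        rw [hd]
        show _ = ((f x : M) : MM F K) + (x : MM F K) + (x : MM F K)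
        rw [add_assoc, MM_add_self C, add_zero]
      rw [this]
      exact (Vb F K).add_mem h1 hx
    rw [formA_apply, formA_apply, h3.1, h3.2.1, h3.2.2, hx.1, hx.2.1, hx.2.2] at h2'
    simp only [zero_mul, C.T_zero_left, add_zero, zero_add, hB] at h2'
    have h4 : ((f x : M) : MM F K).2.2.2 = (x : MM F K).2.2.2 := by
      exact mul_left_cancel₀ hw h2'
    have h5 : f x = x := by
      apply Subtype.ext
      refine Prod.ext ?_ (Prod.ext ?_ (Prod.ext ?_ h4))
      · rw [h3.1, hx.1]
      · rw [h3.2.1, hx.2.1]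
      · rw [h3.2.2, hx.2.2]
    rw [hd, h5, h2]
  -- (d)
  have hDd : ∀ {w : M}, (w : MM F K).1 = 0 → a (d w) = d w := by
    intro w hw
    have h1 : ((a w + w : M) : MM F K) ∈ Vb F K := by
      have e1 : ((a w + w : M) : MM F K) = AA C t (w : MM F K) + w := by
        show ((a w : M) : MM F K) + _ = _
        rw [ha]
      rw [e1]
      obtain ⟨p1, p2, p3⟩ := diff_fst hC hs (t := t) (w : MM F K)
      refine ⟨p1, ?_, ?_⟩
      · rw [p2, hw, zero_smul]
      · rw [p3, hw, zero_smul]
    have h3 := hCc h1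
    rw [hd, hdelta] at h3
    rw [hd, map_add]
    have h4 : a (f w) + a w + (f w + w) = 0 := by
      calc a (f w) + a w + (f w + w) = a (f w) + f w + (a w + w) := by abel
        _ = 0 := h3
    calc a (f w) + a w = a (f w) + a w + ((f w + w) + (f w + w)) := by rw [h2, add_zero]
      _ = (a (f w) + a w + (f w + w)) + (f w + w) := by abel
      _ = f w + w := by rw [h4, zero_add]
  intro w
  have h1 : ((d w : M) : MM F K).1 = 0 := by
    rw [hd]
    show ((f w : M) : MM F K).1 + (w : MM F K).1 = 0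
    rw [hB, C.add_self]
  exact hCc (hA (hDd h1))

end surj

/-! ### The case `(K : F) = 3` -/

section cube

/-- the `F`-span of a subgroup of index at most two -/
theorem span_eq_top (C : Cubic F K) (hl : ∃ l : F, l ≠ 0 ∧ l ≠ 1) {E : AddSubgroup K}
    (hE : ∀ x, x ∉ E → ∀ y, y ∉ E → x + y ∈ E) : Submodule.span F (E : Set K) = ⊤ := by
  rw [Submodule.eq_top_iff']
  intro x
  by_contra hx
  obtain ⟨l, hl0, hl1⟩ := hl
  have h1 : x ∉ E := fun h => hx (Submodule.subset_span h)
  have h2 : l • x ∉ E := fun h => hx (by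
    have := (Submodule.span F (E : Set K)).smul_mem l⁻¹ (Submodule.subset_span h)
    rwa [smul_smul, inv_mul_cancel₀ hl0, one_smul] at this)
  have h3 := hE x h1 _ h2
  apply hx
  have h4 := (Submodule.span F (E : Set K)).smul_mem (1 + l)⁻¹ (Submodule.subset_span h3)
  have h5 : x + l • x = (1 + l) • x := by rw [add_smul, one_smul]
  have h6 : 1 + l ≠ 0 := fun h => hl1 (C.eq_of_add_eq_zero h).symm
  rwa [h5, smul_smul, inv_mul_cancel₀ h6, one_smul] at h4

theorem exists_pair [Finite K] (C : Cubic F K) (hK : 4 < Nat.card K) {E : AddSubgroup K}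
    (hE : ∀ x, x ∉ E → ∀ y, y ∉ E → x + y ∈ E) (l : F) : ∃ t, t ≠ 0 ∧ t ∈ E ∧ l • t ∈ E := by
  classical
  by_contra hcon
  push Not at hcon
  have hinj : Function.Injective (fun x : K => (decide (x ∈ E), decide (l • x ∈ E))) := by
    intro x y hxy
    simp only [Prod.mk.injEq, decide_eq_decide] at hxy
    by_contra hne
    have h0 : x + y ≠ 0 := fun h => hne (C.eq_of_add_eq_zeroK h)
    have h1 : x + y ∈ E := by
      by_cases hx : x ∈ E
      · exact E.add_mem hx (hxy.1.1 hx)
      · exact hE x hx y (fun h => hx (hxy.1.2 h))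
    apply hcon (x + y) h0 h1
    rw [smul_add]
    by_cases hx : l • x ∈ E
    · exact E.add_mem hx (hxy.2.1 hx)
    · exact hE _ hx _ (fun h => hx (hxy.2.2 h))
  have := Nat.card_le_card_of_injective _ hinj
  have hb : Nat.card Bool = 2 := by rw [Nat.card_eq_fintype_card, Fintype.card_bool]
  rw [Nat.card_prod, hb] at this
  omega

/-- an additive map commuting with the `A(t)`, `t ∈ E`, and preserving the form, is unipotent -/
theorem unip_cube [Finite F] [Finite K] (hC : Reg C) (hFK : Nat.card F < Nat.card K) (hK : 4 < Nat.card K)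
    (hl : ∃ l : F, l ≠ 0 ∧ l ≠ 1)
    {E : AddSubgroup K} (hE : ∀ x, x ∉ E → ∀ y, y ∉ E → x + y ∈ E) (f : MM F K → MM F K)
    (hadd : ∀ x y, f (x + y) = f x + f y)
    (hform : ∀ v w, formA C (f v) (f w) = formA C v w)
    (hcom : ∀ t ∈ E, ∀ w, f (AA C t w) = AA C t (f w)) (d : MM F K → MM F K)
    (hd : ∀ w, d w = f w + w) : ∀ w, d (d (d (d w))) = 0 := by
  have hspan := span_eq_top C hl hE
  have f0 : f 0 = 0 := by
    have := hadd 0 0
    rw [add_zero] at this
    simpa using this
  -- `E` separates points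
  have hsep : ∀ x : K, (∀ t ∈ E, C.T t x = 0) → x = 0 := by
    intro x hx
    apply C.T_nondeg
    intro y
    have hy : y ∈ Submodule.span F (E : Set K) := by rw [hspan]; trivial
    rw [C.T_comm]
    induction hy using Submodule.span_induction with
    | mem y hy => exact hx y hy
    | zero => rw [C.T_zero_left]
    | add y z _ _ h1 h2 => rw [C.T_add_left, h1, h2, add_zero]
    | smul a y _ h1 => rw [C.T_smul_left, h1, mul_zero]
  obtain ⟨t0, ht0, ht0E, -⟩ := exists_pair C hK hE (1 : F)
  -- `cr`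
  have hcr : ∀ s : K, (∀ t ∈ E, C.cr t s = 0) → s = 0 := by
    intro s hs
    by_contra hs0
    obtain ⟨w, hw⟩ := exists_cr_ne_zero hC hFK hs0
    apply hw
    apply hsep
    intro t ht
    rw [← C.T_cr, hs t ht, C.T_zero_left]
  -- coordinates of the commutators
  have delta : ∀ (t : K) (w : MM F K), AA C t w + w = (0, w.1 • t, C.cr t w.2.1 + w.1 • C.sh t,
      C.T t w.2.2.1 + C.T (C.sh t) w.2.1 + w.1 * C.N t) := by
    rintro t ⟨u, s, k, v⟩
    rw [AA_apply]
    refine Prod.ext (C.add_self u) (Prod.ext ?_ (Prod.ext ?_ ?_))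
    · show s + u • t + s = _
      rw [add_right_comm, C.add_selfK, zero_add]
    · show k + C.cr t s + u • C.sh t + k = _
      rw [add_right_comm, add_right_comm k, C.add_selfK, zero_add]
    · show v + C.T t k + C.T (C.sh t) s + u * C.N t + v = _
      linear_combination v * C.two_F
  have hcom' : ∀ t ∈ E, ∀ w, f (AA C t w + w) = AA C t (f w) + f w := by
    intro t ht w
    rw [hadd, hcom t ht]
  have hinj : ∀ w, f w = 0 → w = 0 := by
    intro w hw
    apply (formA_nondegenerate (C := C)).1
    intro y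
    rw [← hform, hw, map_zero, LinearMap.zero_apply]
  -- the filtration
  have F3 : ∀ w ∈ Vb F K, f w ∈ Vb F K := by
    rintro ⟨u, s, k, v⟩ hw
    obtain ⟨rfl, rfl, rfl⟩ := mk_mem_Vb.1 hw
    have h1 : ∀ t ∈ E, AA C t (f (0, 0, 0, v)) + f (0, 0, 0, v) = 0 := by
      intro t ht
      rw [← hcom' t ht, delta]
      simp only [zero_smul, C.cr_zero_right, C.T_zero_right, zero_mul, add_zero]
      exact f0
    have h2 : (f (0, 0, 0, v)).1 = 0 := by
      have := h1 t0 ht0E
      rw [delta] at this
      have h3 : (f (0, 0, 0, v)).1 • t0 = 0 := congrArg (fun y : MM F K => y.2.1) this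
      rcases smul_eq_zero.1 h3 with h | h
      · exact h
      · exact absurd h ht0
    have h3 : (f (0, 0, 0, v)).2.1 = 0 := by
      apply hcr
      intro t ht
      have := h1 t ht
      rw [delta, h2] at this
      have h3 := congrArg (fun y : MM F K => y.2.2.1) this
      simpa using h3
    refine ⟨h2, h3, ?_⟩
    apply hsep
    intro t ht
    have := h1 t ht
    rw [delta, h2, h3] at this
    have h3 := congrArg (fun y : MM F K => y.2.2.2) this
    simpa [C.T_zero_right] using h3
  have F2 : ∀ w ∈ Wb F K, f w ∈ Wb F K := by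
    rintro ⟨u, s, k, v⟩ hw
    obtain ⟨rfl, rfl⟩ := mk_mem_Wb.1 hw
    have h1 : ∀ t ∈ E, AA C t (f (0, 0, k, v)) + f (0, 0, k, v) ∈ Vb F K := by
      intro t ht
      rw [← hcom' t ht, delta]
      apply F3
      simp only [zero_smul, C.cr_zero_right, add_zero]
      exact ⟨rfl, rfl, rfl⟩
    have h2 : (f (0, 0, k, v)).1 = 0 := by
      have := h1 t0 ht0E
      rw [delta] at this
      have h3 : (f (0, 0, k, v)).1 • t0 = 0 := this.2.1
      rcases smul_eq_zero.1 h3 with h | h
      · exact h
      · exact absurd h ht0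
    refine ⟨h2, ?_⟩
    apply hcr
    intro t ht
    have := h1 t ht
    rw [delta, h2] at this
    have h3 := this.2.2
    simpa using h3
  have F1 : ∀ w : MM F K, w.1 = 0 → (f w).1 = 0 := by
    rintro ⟨u, s, k, v⟩ hw
    have hu : u = 0 := hw
    subst hu
    have h1 : AA C t0 (f (0, s, k, v)) + f (0, s, k, v) ∈ Wb F K := by
      rw [← hcom' t0 ht0E, delta]
      apply F2
      exact ⟨rfl, by simp⟩
    rw [delta] at h1
    have h3 : (f (0, s, k, v)).1 • t0 = 0 := h1.2
    rcases smul_eq_zero.1 h3 with h | h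
    · exact h
    · exact absurd h ht0
  -- the induced maps
  set p3 : F → F := fun v => (f (0, 0, 0, v)).2.2.2 with hp3
  set p2 : K → K := fun k => (f (0, 0, k, 0)).2.2.1 with hp2
  set p1 : K → K := fun s => (f (0, s, 0, 0)).2.1 with hp1
  set p0 : F → F := fun u => (f (u, 0, 0, 0)).1 with hp0
  have e3 : ∀ v, f (0, 0, 0, v) = (0, 0, 0, p3 v) := by
    intro v
    have h := F3 (0, 0, 0, v) ⟨rfl, rfl, rfl⟩
    exact Prod.ext h.1 (Prod.ext h.2.1 (Prod.ext h.2.2 rfl))
  have e2 : ∀ k v, (f (0, 0, k, v)).2.2.1 = p2 k := by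
    intro k v
    have : ((0, 0, k, v) : MM F K) = (0, 0, k, 0) + (0, 0, 0, v) := by simp
    rw [this, hadd, e3]
    show (f (0, 0, k, 0)).2.2.1 + 0 = _
    rw [add_zero]
  have e1 : ∀ s k v, (f (0, s, k, v)).2.1 = p1 s := by
    intro s k v
    have : ((0, s, k, v) : MM F K) = (0, s, 0, 0) + (0, 0, k, v) := by simp
    rw [this, hadd]
    show (f (0, s, 0, 0)).2.1 + (f (0, 0, k, v)).2.1 = _
    rw [(F2 (0, 0, k, v) ⟨rfl, rfl⟩).2, add_zero]
  have e0 : ∀ u s k v, (f (u, s, k, v)).1 = p0 u := by
    intro u s k v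
    have : ((u, s, k, v) : MM F K) = (u, 0, 0, 0) + (0, s, k, v) := by simp
    rw [this, hadd]
    show (f (u, 0, 0, 0)).1 + (f (0, s, k, v)).1 = _
    rw [F1 (0, s, k, v) rfl, add_zero]
  -- relations
  have R1 : ∀ t ∈ E, ∀ u : F, p1 (u • t) = p0 u • t := by
    intro t ht u
    have h1 := hcom' t ht (u, 0, 0, 0)
    rw [delta, delta] at h1
    have h2 := congrArg (fun y : MM F K => y.2.1) h1
    simp only [e1] at h2
    exact h2
  have R2 : ∀ t ∈ E, ∀ s : K, p2 (C.cr t s) = C.cr t (p1 s) := by
    intro t ht s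
    have h1 := hcom' t ht (0, s, 0, 0)
    rw [delta, delta, F1 (0, s, 0, 0) rfl] at h1
    have h2 := congrArg (fun y : MM F K => y.2.2.1) h1
    simp only [zero_smul, add_zero, e2, C.T_zero_right, zero_add] at h2
    exact h2
  have R3 : ∀ t ∈ E, ∀ k : K, p3 (C.T t k) = C.T t (p2 k) := by
    intro t ht k
    have h1 := hcom' t ht (0, 0, k, 0)
    rw [delta, delta, (F2 (0, 0, k, 0) ⟨rfl, rfl⟩).1, (F2 (0, 0, k, 0) ⟨rfl, rfl⟩).2] at h1
    have h2 := congrArg (fun y : MM F K => y.2.2.2) h1
    simp only [zero_smul, add_zero, C.T_zero_right, zero_mul, C.cr_zero_right, e3] at h2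
    exact h2
  have B1 : ∀ v u, p3 v * p0 u = v * u := by
    intro v u
    have h1 := hform (0, 0, 0, v) (u, 0, 0, 0)
    rw [e3, formA_apply, formA_apply] at h1
    simp only [C.T_zero_left, zero_mul, mul_zero, add_zero, zero_add] at h1
    rw [mul_comm, mul_comm v]
    exact h1
  have B2 : ∀ k s, C.T (p2 k) (p1 s) = C.T k s := by
    intro k s
    have h1 := hform (0, 0, k, 0) (0, s, 0, 0)
    rw [formA_apply, formA_apply, (F2 (0, 0, k, 0) ⟨rfl, rfl⟩).1, (F2 (0, 0, k, 0) ⟨rfl, rfl⟩).2,
      F1 (0, s, 0, 0) rfl] at h1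
    simp only [C.T_zero_left, zero_mul, mul_zero, add_zero, zero_add] at h1
    rw [C.T_comm, C.T_comm k]
    first
      | exact h1
      | (rw [C.T_comm, C.T_comm s]; exact h1)
  -- `p3` is a multiplication
  have h3lin : ∀ l x : F, p3 (l * x) = l * p3 x := by
    intro l x
    obtain ⟨t, ht, htE, hltE⟩ := exists_pair C hK hE l
    obtain ⟨k, rfl⟩ := C.exists_T_eq ht x
    rw [← C.T_smul_left, R3 _ hltE, R3 _ htE, C.T_smul_left]
  set m := p3 1 with hm
  have h3 : ∀ x, p3 x = m * x := by
    intro x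
    have := h3lin x 1
    rw [mul_one] at this
    rw [this, mul_comm]
  have hm0 : m ≠ 0 := by
    intro h
    have := B1 1 1
    rw [← hm, h, zero_mul, mul_one] at this
    exact one_ne_zero this.symm
  have h0 : ∀ u, p0 u = m⁻¹ * u := by
    intro u
    have := B1 1 u
    rw [← hm, one_mul] at this
    rw [eq_inv_mul_iff_mul_eq₀ hm0]
    exact this
  have p1add : ∀ x y, p1 (x + y) = p1 x + p1 y := by
    intro x y
    have : ((0, x + y, 0, 0) : MM F K) = (0, x, 0, 0) + (0, y, 0, 0) := by simp
    simp only [hp1]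
    rw [this, hadd]
    rfl
  have h1' : ∀ s ∈ Submodule.span F (E : Set K), ∀ u : F, p1 (u • s) = m⁻¹ • (u • s) := by
    intro s hs
    induction hs using Submodule.span_induction with
    | mem y hy =>
      intro u
      rw [R1 y hy, h0, mul_smul]
    | zero =>
      intro u
      rw [smul_zero, smul_zero]
      simp only [hp1]
      have : ((0, 0, 0, 0) : MM F K) = 0 := rfl
      rw [this, f0]
      rfl
    | add y z _ _ h1 h2 =>
      intro u
      rw [smul_add, p1add, h1, h2, smul_add]
    | smul a y _ h1 =>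
      intro u
      rw [smul_smul, h1]
  have h1 : ∀ s, p1 s = m⁻¹ • s := by
    intro s
    have := h1' s (by rw [hspan]; trivial) 1
    rwa [one_smul] at this
  have h2 : ∀ k, p2 k = m • k := by
    intro k
    have h4 : ∀ s, C.T (p2 k) s = C.T (m • k) s := by
      intro s
      have := B2 k (m • s)
      rw [h1, smul_smul, inv_mul_cancel₀ hm0, one_smul] at this
      rw [this, C.T_smul_right, C.T_smul_left]
    exact T_ext h4
  have hm1 : m = 1 := by
    obtain ⟨t, ht, s, hs⟩ : ∃ t ∈ E, ∃ s, C.cr t s ≠ 0 := by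
      obtain ⟨s, hs⟩ := exists_cr_ne_zero hC hFK ht0
      exact ⟨t0, ht0E, s, hs⟩
    have h4 := R2 t ht s
    rw [h1, h2, cr_smul_right] at h4
    have h5 : (m - m⁻¹) • C.cr t s = 0 := by rw [sub_smul, h4, sub_self]
    rcases smul_eq_zero.1 h5 with h | h
    · have h6 : m = m⁻¹ := sub_eq_zero.1 h
      have h7 : m * m = 1 := by
        nth_rewrite 2 [h6]
        exact mul_inv_cancel₀ hm0
      have h8 : (m + 1) * (m + 1) = 0 := by
        linear_combination h7 + (m + 1) * C.two_F
      have h9 : m + 1 = 0 := mul_self_eq_zero.1 h8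
      exact C.eq_of_add_eq_zero h9
    · exact absurd h hs
  rw [hm1] at h2 h3
  rw [hm1, inv_one] at h0 h1
  -- conclusion
  have D0 : ∀ w : MM F K, (d w).1 = 0 := by
    rintro ⟨u, s, k, v⟩
    rw [hd]
    show (f (u, s, k, v)).1 + u = 0
    rw [e0, h0, one_mul, C.add_self]
  have D1 : ∀ w : MM F K, w.1 = 0 → d w ∈ Wb F K := by
    rintro ⟨u, s, k, v⟩ hw
    have hu : u = 0 := hw
    subst hu
    refine ⟨D0 _, ?_⟩
    rw [hd]
    show (f (0, s, k, v)).2.1 + s = 0
    rw [e1, h1, one_smul, C.add_selfK]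
  have D2 : ∀ w : MM F K, w ∈ Wb F K → d w ∈ Vb F K := by
    rintro ⟨u, s, k, v⟩ hw
    obtain ⟨rfl, rfl⟩ := mk_mem_Wb.1 hw
    refine ⟨D0 _, (D1 _ rfl).2, ?_⟩
    rw [hd]
    show (f (0, 0, k, v)).2.2.1 + k = 0
    rw [e2, h2, one_smul, C.add_selfK]
  have D3 : ∀ w : MM F K, w ∈ Vb F K → d w = 0 := by
    rintro ⟨u, s, k, v⟩ hw
    obtain ⟨rfl, rfl, rfl⟩ := mk_mem_Vb.1 hw
    rw [hd, e3, h3, one_mul, MM_add_self C]
  intro w
  exact D3 _ (D2 _ (D1 _ (D0 w)))

end cube

/-! ### The theorem -/

theorem finite_K (hD : Dat C) : Finite K := by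
  have := Facts.finite_F hD
  rcases hD.deg with h | h
  · exact Finite.of_surjective _ h
  · have : Module.Finite F K := Module.finite_of_finrank_pos (by omega)
    exact Module.finite_of_finite F

theorem card_K (hD : Dat C) (h : Module.finrank F K = 3) : Nat.card K = Nat.card F ^ 3 := by
  have := Facts.finite_F hD
  have := finite_K hD
  have : Fintype F := Fintype.ofFinite F
  have : Fintype K := Fintype.ofFinite K
  rw [Nat.card_eq_fintype_card, Nat.card_eq_fintype_card, ← h]
  exact Module.card_eq_pow_finrank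

/-- the statement for groups of units -/
theorem unit_eq_one (hD : Dat C) (M : AddSubgroup (MM F K)) (hu : ∃ w ∈ M, w.1 ≠ 0)
    (h3 : Module.finrank F K = 3 → M = ⊤) (a : K → (AddMonoid.End M)ˣ)
    (ha : ∀ t (w : M), (((a t : AddMonoid.End M) w : M) : MM F K) = AA C t w)
    (Γ : Subgroup (AddMonoid.End M)ˣ) (hodd : Odd (Nat.card Γ))
    (hform : ∀ g ∈ Γ, ∀ v w : M, formA C ((g : AddMonoid.End M) v : M) ((g : AddMonoid.End M) w : M) = formA C v w)
    (hquad : ∀ g ∈ Γ, ∀ w : M, qf C ((g : AddMonoid.End M) w : M) = qf C w)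
    (hnor : ∀ t, ∀ g ∈ Γ, a t * g * (a t)⁻¹ ∈ Γ) : Γ = ⊥ := by
  have := Facts.finite_F hD
  have := finite_K hD
  have h2 : ∀ x : M, x + x = 0 := fun x => Subtype.ext (by simpa using MM_add_self C (x : MM F K))
  have hadd : ∀ t t', a t * a t' = a (t + t') := by
    intro t t'
    apply Units.ext
    apply AddMonoidHom.ext
    intro w
    apply Subtype.ext
    show (((a t : AddMonoid.End M) ((a t' : AddMonoid.End M) w) : M) : MM F K) = _
    rw [ha, ha, ← LinearEquiv.mul_apply, AA_mul]
    exact (ha (t + t') w).symm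
  have ha1 : a 0 = 1 := by
    have := hadd 0 0
    rw [add_zero] at this
    exact mul_eq_left.1 this
  have hsq : ∀ t, a t * a t = 1 := fun t => by rw [hadd, C.add_selfK, ha1]
  have hordOdd : ∀ g ∈ Γ, Odd (orderOf g) := by
    intro g hg
    refine Odd.of_dvd_nat hodd ?_
    have := orderOf_dvd_natCard (⟨g, hg⟩ : Γ)
    rwa [Subgroup.orderOf_mk] at this
  have happ : ∀ (g : (AddMonoid.End M)ˣ) (t : K), g ∈ centralizer {a t} →
      ∀ w, (g : AddMonoid.End M) ((a t : AddMonoid.End M) w) = (a t : AddMonoid.End M) ((g : AddMonoid.End M) w) := by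
    intro g t hg w
    rw [mem_centralizer_singleton_iff] at hg
    have h1 : ((g * a t : (AddMonoid.End M)ˣ) : AddMonoid.End M) = ((a t * g : (AddMonoid.End M)ˣ) : AddMonoid.End M) := by
      rw [hg]
    have h4 := DFunLike.congr_fun h1 w
    exact h4
  rcases hD.deg with hs | hd3
  · -- `K = F`
    have key : ∀ t : K, t ≠ 0 → Γ ⊓ centralizer {a t} ≤ ⊥ := by
      intro t ht g hg
      rw [mem_bot]
      refine eq_one_of_nilp h2 g (hordOdd g hg.1) _ (fun w => rfl) ?_
      refine unip_surj hD.reg hs ht (g : AddMonoid.End M) (a t : AddMonoid.End M) (ha t) ?_ (hform g hg.1)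
        (hquad g hg.1) (happ g t hg.2) _ (fun w => rfl)
      obtain ⟨w, hw, hw1⟩ := hu
      exact ⟨⟨w, hw⟩, hw1⟩
    obtain ⟨l, hl0, hl1⟩ := Facts.exists_scalar hD
    have hne : (1 : K) + algebraMap F K l ≠ 0 := by
      intro h
      have := (C.eq_of_add_eq_zeroK h).symm
      rw [map_eq_one_iff _ (algebraMap F K).injective] at this
      exact hl1 this
    refine eq_bot_iff.2 (Cfsg.Agent.Lib.KleinGen.le_of_klein Γ ⊥ hodd (a 1) (a (algebraMap F K l)) (hsq _) (hsq _)
      (by rw [hadd, hadd, add_comm]) (hnor _) (hnor _) (key _ one_ne_zero)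
      (key _ (by simpa using hl0)) ?_)
    rw [hadd]
    exact key _ hne
  · -- `(K : F) = 3`
    have hM := h3 hd3
    subst hM
    have hcK := card_K hD hd3
    have hq := hD.q4
    have hFK : Nat.card F < Nat.card K := by
      rw [hcK]
      calc Nat.card F = Nat.card F ^ 1 := (pow_one _).symm
        _ < Nat.card F ^ 3 := Nat.pow_lt_pow_right (by omega) (by norm_num)
    have hcen : ∀ (E : AddSubgroup K), ∃ CE : Subgroup (AddMonoid.End (⊤ : AddSubgroup (MM F K)))ˣ,
        ∀ g, g ∈ CE ↔ g ∈ Γ ∧ ∀ t ∈ E, g ∈ centralizer {a t} := by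
      intro E
      refine ⟨Γ ⊓ centralizer (a '' (E : Set K)), fun g => ?_⟩
      rw [mem_inf, mem_centralizer_iff]
      constructor
      · rintro ⟨h1, h2⟩
        refine ⟨h1, fun t ht => ?_⟩
        rw [mem_centralizer_singleton_iff]
        exact (h2 _ ⟨t, ht, rfl⟩).symm
      · rintro ⟨h1, h2⟩
        refine ⟨h1, ?_⟩
        rintro _ ⟨t, ht, rfl⟩
        have := h2 t ht
        rw [mem_centralizer_singleton_iff] at this
        exact this.symm
    -- downward induction
    have main : ∀ E : AddSubgroup K, ∀ g, g ∈ Γ → (∀ t ∈ E, g ∈ centralizer {a t}) → g = 1 := by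
      intro E
      induction E using WellFoundedGT.induction with
      | ind E ih =>
      by_cases hE : ∀ x, x ∉ E → ∀ y, y ∉ E → x + y ∈ E
      · intro g hg hgE
        refine eq_one_of_nilp h2 g (hordOdd g hg) _ (fun w => rfl) ?_
        have h5 := unip_cube hD.reg hFK (by omega) (Facts.exists_scalar hD) hE
          (fun w => (((g : AddMonoid.End (⊤ : AddSubgroup (MM F K))) ⟨w, trivial⟩ :
            (⊤ : AddSubgroup (MM F K))) : MM F K)) (by
              intro x y
              have : (⟨x + y, trivial⟩ : (⊤ : AddSubgroup (MM F K))) = ⟨x, trivial⟩ + ⟨y, trivial⟩ := rfl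
              simp only [this, map_add]
              rfl) (fun v w => hform g hg ⟨v, trivial⟩ ⟨w, trivial⟩) (by
              intro t ht w
              have h6 := congrArg (fun y : (⊤ : AddSubgroup (MM F K)) => (y : MM F K))
                (happ g t (hgE t ht) ⟨w, trivial⟩)
              simp only [ha] at h6
              rw [← h6]
              congr 2
              exact (Subtype.ext (ha t ⟨w, trivial⟩)).symm) _ (fun w => rfl)
        intro w
        apply Subtype.ext
        exact h5 w
      · push Not at hE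
        obtain ⟨x, hx, y, hy, hxy⟩ := hE
        obtain ⟨CE, hCE⟩ := hcen E
        have hle : CE ≤ Γ := fun g hg => ((hCE g).1 hg).1
        have hCodd : Odd (Nat.card CE) := Odd.of_dvd_nat hodd (Subgroup.card_dvd_of_le hle)
        have step : ∀ z : K, z ∉ E → CE ⊓ centralizer {a z} ≤ ⊥ := by
          intro z hz g hg
          rw [mem_bot]
          have h5 := (hCE g).1 hg.1
          refine ih (E ⊔ AddSubgroup.closure {z}) ?_ g h5.1 ?_
          · refine lt_of_le_of_ne le_sup_left ?_
            intro h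
            apply hz
            rw [h]
            exact AddSubgroup.mem_sup_right (AddSubgroup.subset_closure rfl)
          · intro t ht
            have h6 : E ⊔ AddSubgroup.closure {z} ≤ ({
                carrier := {t | g ∈ centralizer {a t}}
                add_mem' := by
                  intro p q hp hq
                  simp only [Set.mem_ofPred_eq, mem_centralizer_singleton_iff] at hp hq ⊢
                  rw [← hadd, ← mul_assoc, hp, mul_assoc, hq, mul_assoc]
                zero_mem' := by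
                  simp only [Set.mem_ofPred_eq, mem_centralizer_singleton_iff, ha1, mul_one, one_mul]
                neg_mem' := by
                  intro p hp
                  rw [C.neg_eqK]
                  exact hp } : AddSubgroup K) := by
              refine sup_le (fun t ht => h5.2 t ht) ?_
              rw [AddSubgroup.closure_le]
              rintro _ rfl
              exact hg.2
            exact h6 ht
        have hnorC : ∀ z, ∀ g ∈ CE, a z * g * (a z)⁻¹ ∈ CE := by
          intro z g hg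
          rw [hCE] at hg ⊢
          refine ⟨hnor z g hg.1, fun t ht => ?_⟩
          have h5 := hg.2 t ht
          rw [mem_centralizer_singleton_iff] at h5 ⊢
          have h6 : a t * a z = a z * a t := by rw [hadd, hadd, add_comm]
          have h7 : (a z)⁻¹ * a t = a t * (a z)⁻¹ := by
            rw [inv_mul_eq_iff_eq_mul, ← mul_assoc, ← h6, mul_inv_cancel_right]
          calc a z * g * (a z)⁻¹ * a t = a z * g * ((a z)⁻¹ * a t) := by group
            _ = a z * (g * a t) * (a z)⁻¹ := by rw [h7]; group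
            _ = (a z * a t) * g * (a z)⁻¹ := by rw [h5]; group
            _ = a t * (a z * g * (a z)⁻¹) := by rw [← h6]; group
        have hbot : CE ≤ ⊥ := Cfsg.Agent.Lib.KleinGen.le_of_klein CE ⊥ hCodd (a x) (a y) (hsq _) (hsq _)
          (by rw [hadd, hadd, add_comm]) (hnorC _) (hnorC _) (step x hx) (step y hy) (by
            rw [hadd]; exact step _ hxy)
        intro g hg hgE
        exact mem_bot.1 (hbot ((hCE g).2 ⟨hg, hgE⟩))
    rw [eq_bot_iff]
    intro g hg
    rw [mem_bot]
    refine main ⊥ g hg ?_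
    intro t ht
    rw [AddSubgroup.mem_bot] at ht
    rw [ht, ha1, mem_centralizer_singleton_iff, mul_one, one_mul]

/-- **Piece B.** -/
theorem act_eq_one (hD : Dat C) (M : AddSubgroup (MM F K)) (hu : ∃ w ∈ M, w.1 ≠ 0)
    (h3 : Module.finrank F K = 3 → M = ⊤) {X : Type*} [Group X] (act : X →* AddMonoid.End M) (a : K → X)
    (ha : ∀ t (w : M), ((act (a t) w : M) : MM F K) = AA C t w)
    (Γ : Subgroup X) (hodd : Odd (Nat.card Γ))
    (hform : ∀ g ∈ Γ, ∀ v w : M, formA C (act g v : M) (act g w : M) = formA C v w)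
    (hquad : ∀ g ∈ Γ, ∀ w : M, qf C (act g w : M) = qf C w)
    (hnor : ∀ t, ∀ g ∈ Γ, a t * g * (a t)⁻¹ ∈ Γ) : ∀ g ∈ Γ, act g = 1 := by
  have h1 := unit_eq_one hD M hu h3 (fun t => act.toHomUnits (a t)) ha (Γ.map act.toHomUnits)
    (Odd.of_dvd_nat hodd (Subgroup.card_map_dvd Γ act.toHomUnits)) (by
      rintro _ ⟨g, hg, rfl⟩
      exact hform g hg) (by
      rintro _ ⟨g, hg, rfl⟩
      exact hquad g hg) (by
      rintro t _ ⟨g, hg, rfl⟩
      rw [← map_mul, ← map_inv, ← map_mul]
      exact ⟨_, hnor t g hg, rfl⟩)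
  intro g hg
  have h4 : act.toHomUnits g ∈ Γ.map act.toHomUnits := ⟨g, hg, rfl⟩
  rw [h1, mem_bot] at h4
  have h5 := congrArg (fun y : (AddMonoid.End M)ˣ => (y : AddMonoid.End M)) h4
  exact h5

end Cfsg.Agent.HexGlob.OddLin
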