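import Cfsg.Agent.HexGlob.OneRep
import Cfsg.Agent.HexGlob.OddLin
import Cfsg.Agent.HexGlob.CenZSpec
import Cfsg.Agent.HexGlob.CenZThree
import Cfsg.Agent.HexGlob.CenZMain

/-!
# The odd groups acting on `Y / Z` (input of piece G (iii) from piece B)
-/

set_option autoImplicit false

namespace Cfsg.Agent.HexGlob.OddAct

open Cfsg.Agent.HexRec Cfsg.Agent.HexEss Cfsg.Agent.HexEss.Abel Cfsg.Agent.HexGlob Subgroup
open Cfsg.Agent.HexGlob.OneSpec Cfsg.Agent.HexGlob.OneRep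

universe u v

section act

variable {F K : Type*} [Field F] [Field K] [Algebra F K] {C : Cubic F K}
  {G : Type*} [Group G] [Finite G] {P : Subgroup G} {co : Coord C P}

/-- the image of `Y` in `Da / Z` -/
noncomputable def MY (co : Coord C P) (Y : Subgroup G) (hY : Y ≤ Da co) : AddSubgroup (MM F K) where
  carrier := {w | ∃ y ∈ Y, wA co y = w}
  add_mem' := by
    rintro _ _ ⟨y, hy, rfl⟩ ⟨y', hy', rfl⟩
    exact ⟨y * y', mul_mem hy hy', wA_mul (hY hy) (hY hy')⟩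
  zero_mem' := ⟨1, one_mem _, wA_one⟩
  neg_mem' := by
    rintro _ ⟨y, hy, rfl⟩
    refine ⟨y, hy, ?_⟩
    exact Prod.ext (C.neg_eq _).symm (Prod.ext (C.neg_eqK _).symm (Prod.ext (C.neg_eqK _).symm (C.neg_eq _).symm))

variable {Y : Subgroup G} {hY : Y ≤ Da co}

/-- a representative in `Y` -/
noncomputable def rep (w : MY co Y hY) : G := w.2.choose

theorem rep_mem (w : MY co Y hY) : rep w ∈ Y := w.2.choose_spec.1
theorem wA_rep (w : MY co Y hY) : wA co (rep w) = w := w.2.choose_spec.2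

/-- the elements acting on `Y / Z` -/
def HH (co : Coord C P) (Y : Subgroup G) : Subgroup G :=
  normalizer (Y : Set G) ⊓ centralizer ((Z co : Subgroup G) : Set G)

theorem HH_conj {h y : G} (hh : h ∈ HH co Y) (hy : y ∈ Y) : h * y * h⁻¹ ∈ Y :=
  conj_mem_of_le (inf_le_left (a := normalizer (Y : Set G))) hh hy

theorem HH_Z {h z : G} (hh : h ∈ HH co Y) (hz : z ∈ Z co) : h * z * h⁻¹ = z := by
  rw [← (mem_centralizer_iff.1 (mem_inf.1 hh).2) z hz, mul_inv_cancel_right]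

include hY in
theorem HH_congr {h y y' : G} (hh : h ∈ HH co Y) (hy : y ∈ Y) (hy' : y' ∈ Y) (e : wA co y = wA co y') :
    wA co (h * y * h⁻¹) = wA co (h * y' * h⁻¹) := by
  rw [wA_eq_iff (hY (HH_conj hh hy)) (hY (HH_conj hh hy'))]
  have e1 : (h * y * h⁻¹)⁻¹ * (h * y' * h⁻¹) = h * (y⁻¹ * y') * h⁻¹ := by group
  have h2 := (wA_eq_iff (hY hy) (hY hy')).1 e
  rw [e1, HH_Z hh h2]
  exact h2

/-- the action on `Y / Z` as a function -/
noncomputable def fn (hY : Y ≤ Da co) (h : HH co Y) (w : MY co Y hY) : MY co Y hY :=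
  ⟨wA co ((h : G) * rep w * (h : G)⁻¹), _, HH_conj h.2 (rep_mem w), rfl⟩

theorem fn_coe (h : HH co Y) {w : MY co Y hY} {y : G} (hy : y ∈ Y) (e : wA co y = w) :
    (fn hY h w : MM F K) = wA co ((h : G) * y * (h : G)⁻¹) :=
  HH_congr (hY := hY) h.2 (rep_mem w) hy ((wA_rep w).trans e.symm)

theorem fn_mul (h h' : HH co Y) (w : MY co Y hY) : fn hY h (fn hY h' w) = fn hY (h * h') w := by
  apply Subtype.ext
  rw [fn_coe h (HH_conj h'.2 (rep_mem w)) rfl, fn_coe (h * h') (rep_mem w) (wA_rep w)]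
  congr 1
  simp only [Subgroup.coe_mul, mul_inv_rev]
  group

theorem fn_one (w : MY co Y hY) : fn hY 1 w = w := by
  apply Subtype.ext
  rw [fn_coe 1 (rep_mem w) (wA_rep w), ← wA_rep w]
  congr 1
  simp

theorem fn_add (h : HH co Y) (w w' : MY co Y hY) : fn hY h (w + w') = fn hY h w + fn hY h w' := by
  apply Subtype.ext
  rw [fn_coe h (mul_mem (rep_mem w) (rep_mem w')) (by
    rw [wA_mul (hY (rep_mem w)) (hY (rep_mem w')), wA_rep, wA_rep]; rfl)]
  have e : (h : G) * (rep w * rep w') * (h : G)⁻¹ = ((h : G) * rep w * (h : G)⁻¹) * ((h : G) * rep w' * (h : G)⁻¹) := by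
    group
  rw [e, wA_mul (hY (HH_conj h.2 (rep_mem w))) (hY (HH_conj h.2 (rep_mem w')))]
  rfl

/-- the action on `Y / Z` as a linear equivalence -/
noncomputable def psiFun (hY : Y ≤ Da co) (h : HH co Y) : MY co Y hY ≃ₗ[ℤ] MY co Y hY :=
  AddEquiv.toIntLinearEquiv
    { toFun := fn hY h
      invFun := fn hY h⁻¹
      left_inv := fun w => by rw [fn_mul, inv_mul_cancel, fn_one]
      right_inv := fun w => by rw [fn_mul, mul_inv_cancel, fn_one]
      map_add' := fn_add h }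

/-- the action on `Y / Z` -/
noncomputable def psi (hY : Y ≤ Da co) : HH co Y →* (MY co Y hY ≃ₗ[ℤ] MY co Y hY) where
  toFun := psiFun hY
  map_one' := LinearEquiv.ext fn_one
  map_mul' := fun h h' => LinearEquiv.ext fun w => (fn_mul h h' w).symm

theorem psi_coe (h : HH co Y) {w : MY co Y hY} {y : G} (hy : y ∈ Y) (e : wA co y = w) :
    (psi hY h w : MM F K) = wA co ((h : G) * y * (h : G)⁻¹) := fn_coe h hy e

end act

variable {F K : Type v} [Field F] [Field K] [Algebra F K] {C : Cubic F K}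

/-- **the input of (iii)** -/
theorem allOdd (hD : Dat C) : CenZ.AllOdd.{u} C := by
  intro X _ _ P co L h Y N hY hZY hYZ hLY hLN hNY hNZ hodd n hn y hy
  have hPH : (P : Subgroup X) ≤ HH co Y := by
    intro p hp
    refine mem_inf.2 ⟨hLY (h.P_le hp), ?_⟩
    rw [mem_centralizer_iff]
    intro z hz
    exact (h.cent p (h.P_le hp) z hz).symm
  have hNH : N ≤ HH co Y := by
    intro x hx
    refine mem_inf.2 ⟨hNY hx, ?_⟩
    rw [mem_centralizer_iff]
    intro z hz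
    exact (hNZ x hx z hz).symm
  -- trivial action of `Y`
  have hYtriv : ∀ (g : X) (hg : g ∈ HH co Y), g ∈ Y → psi hY ⟨g, hg⟩ = 1 := by
    intro g hg hgY
    apply LinearEquiv.ext
    intro w
    apply Subtype.ext
    rw [psi_coe _ (rep_mem w) (wA_rep w)]
    show wA co (g * rep w * g⁻¹) = (w : MM F K)
    rw [← wA_rep w, conj_eq_cm_mul]
    have h1 := cm_mem_Z_of_Da (hY hgY) (hY (rep_mem w))
    rw [wA_mul (Z_le_Da h1) (hY (rep_mem w)), (wA_eq_zero (Z_le_Da h1)).2 h1, zero_add]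
  let Γ : Subgroup (MY co Y hY ≃ₗ[ℤ] MY co Y hY) := (N.subgroupOf (HH co Y)).map (psi hY)
  have hΓfin : Finite Γ := by
    have : Finite (N.subgroupOf (HH co Y)) := inferInstance
    exact Finite.of_surjective (fun x : N.subgroupOf (HH co Y) => (⟨psi hY x, x, x.2, rfl⟩ : Γ)) (by
      rintro ⟨_, x, hx, rfl⟩
      exact ⟨⟨x, hx⟩, rfl⟩)
  have hΓodd : Odd (Nat.card Γ) := by
    rw [← Nat.not_even_iff_odd, even_iff_two_dvd]
    intro hd
    obtain ⟨⟨_, x, hx, rfl⟩, hx2⟩ := exists_prime_orderOf_dvd_card' 2 hd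
    rw [← Subgroup.orderOf_coe] at hx2
    obtain ⟨m, hm, hmY⟩ := hodd x (mem_subgroupOf.1 hx)
    have h1 : psi hY x ^ m = 1 := by
      rw [← map_pow]
      exact hYtriv _ (pow_mem x.2 m) hmY
    have h2 := orderOf_dvd_of_pow_eq_one h1
    have h3 : orderOf (psi hY x) = 2 := hx2
    rw [h3] at h2
    exact (Nat.not_even_iff_odd.2 hm) (even_iff_two_dvd.2 h2)
  -- the elements `x1(t)`
  have hex : ∀ t : K, ∃ p : HH co Y, (p : X) ∈ (P : Subgroup X) ∧ (cx co (p : X)).a1 = t := by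
    intro t
    obtain ⟨p, hp, hpc⟩ := exists_cx (co := co) ⟨t, 0, 0, 0, 0, 0⟩
    exact ⟨⟨p, hPH hp⟩, hp, by rw [hpc]⟩
  choose p hpP hpt using hex
  let act : (MY co Y hY ≃ₗ[ℤ] MY co Y hY) →* AddMonoid.End (MY co Y hY) :=
    { toFun := fun g => { toFun := g, map_zero' := map_zero g, map_add' := map_add g }
      map_one' := rfl
      map_mul' := fun _ _ => rfl }
  have hu : ∃ w ∈ MY co Y hY, w.1 ≠ 0 := by
    by_contra hcon
    push Not at hcon
    -- `E2` centralises `Y`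
    obtain ⟨v, hv, hvc⟩ := exists_cx (co := co) ⟨0, 1, 0, 0, 0, 0⟩
    have hvE : v ∈ E2 co := ⟨hv, by rw [hvc], by rw [hvc], by rw [hvc], by rw [hvc]⟩
    have h1 := h.f3 Y hY hLY hYZ v hv (fun y hy => by
      have h2 : y ∈ Db co := ⟨(hY hy).1, hcon _ ⟨y, hy, rfl⟩⟩
      exact cm_eq_one.2 (cm_eq_one.1 (cm_Db_E2 h2 hvE)).symm)
    have h2 := h1.2.2.1
    rw [hvc] at h2
    exact one_ne_zero h2
  have h3 : Module.finrank F K = 3 → MY co Y hY = ⊤ := by
    intro hf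
    have h4 := h.f4 hf Y hY hLY hYZ
    rw [eq_top_iff]
    intro w _
    obtain ⟨x, hx, hxw⟩ := exists_wA (co := co) w
    exact ⟨x, h4 ▸ hx, hxw⟩
  have key := OddLin.act_eq_one hD (MY co Y hY) hu h3 act (fun t => psi hY (p t)) (by
    intro t w
    show (psi hY (p t) w : MM F K) = _
    rw [psi_coe _ (rep_mem w) (wA_rep w), wA_conj (hpP t) (hY (rep_mem w)), hpt, wA_rep]) Γ hΓodd (by
    rintro _ ⟨x, hx, rfl⟩ v w
    show formA C (psi hY x v : MM F K) (psi hY x w : MM F K) = _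
    rw [psi_coe _ (rep_mem w) (wA_rep w), psi_coe _ (rep_mem v) (wA_rep v),
      ← cm_Da_eq (hY (HH_conj x.2 (rep_mem v))) (hY (HH_conj x.2 (rep_mem w))), ← conj_cm,
      HH_Z x.2 (cm_mem_Z_of_Da (hY (rep_mem v)) (hY (rep_mem w))), cm_Da_eq (hY (rep_mem v)) (hY (rep_mem w)),
      wA_rep, wA_rep]) (by
    rintro _ ⟨x, hx, rfl⟩ w
    show qf C (psi hY x w : MM F K) = _
    rw [psi_coe _ (rep_mem w) (wA_rep w), ← a4_sq (hY (HH_conj x.2 (rep_mem w)))]
    have e : (x : X) * rep w * (x : X)⁻¹ * ((x : X) * rep w * (x : X)⁻¹) = (x : X) * (rep w * rep w) * (x : X)⁻¹ := by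
      group
    rw [e, HH_Z x.2 (sq_mem_Z (hY (rep_mem w))), a4_sq (hY (rep_mem w)), wA_rep]) (by
    rintro t _ ⟨x, hx, rfl⟩
    rw [← map_inv, ← map_mul, ← map_mul]
    refine ⟨p t * x * (p t)⁻¹, ?_, rfl⟩
    show p t * x * (p t)⁻¹ ∈ N.subgroupOf (HH co Y)
    rw [mem_subgroupOf]
    exact conj_mem_of_le hLN (h.P_le (hpP t)) (mem_subgroupOf.1 hx))
  have h4 := key (psi hY ⟨n, hNH hn⟩) ⟨⟨n, hNH hn⟩, mem_subgroupOf.2 hn, rfl⟩
  have hw : wA co y ∈ MY co Y hY := ⟨y, hy, rfl⟩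
  have h5 : (psi hY ⟨n, hNH hn⟩ ⟨wA co y, hw⟩ : MM F K) = wA co y :=
    congrArg Subtype.val (congrArg (fun f : AddMonoid.End (MY co Y hY) => f ⟨wA co y, hw⟩) h4)
  rw [psi_coe _ hy rfl] at h5
  have h6 := (wA_eq_iff (hY hy) (hY (HH_conj (hNH hn) hy))).1 h5.symm
  -- `y⁻¹ (n y n⁻¹) ∈ Z`
  have h7 : cm n y = y * (y⁻¹ * (n * y * n⁻¹)) * y⁻¹ := by unfold cm; group
  rw [h7, HH_Z (hPH (hY hy).1) h6]
  exact h6

end Cfsg.Agent.HexGlob.OddAct
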