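import Mathlib
import Cfsg.Agent.TwoFusion.StronglyEmbeddedBasic
import Cfsg.Agent.SmallSimple.PSLTwoPart
import Cfsg.Agent.LieExceptional.PSUThreeWitness
import Cfsg.Agent.S0280
import Cfsg.Prelude.Def_Exceptional
import Cfsg.Prelude.Def_Classical
import Cfsg.Prelude.Def_Involutions

/-!
# Simple groups with a strongly embedded subgroup and elementary abelian Sylow 2-subgroups

By Bender's theorem (here a hypothesis `BenderFor`) they are the groups `PSL₂(2^n)`, `2^n = |S|`.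
-/

set_option autoImplicit false

namespace Cfsg.Agent.HexGlob.BenderEl

open Subgroup Cfsg.Agent.TwoFusion.StronglyEmbeddedBasic

/-- The conclusion of Bender's theorem for the group `L`. -/
def BenderFor (L : Type*) [Group L] : Prop :=
  ∀ M : Subgroup L, Cfsg.IsStronglyEmbedded M →
    ((∃ (F : Type) (_ : Field F) (_ : Fintype F), CharP F 2 ∧ 4 ≤ Fintype.card F ∧
        Nonempty (L ≃* Matrix.ProjectiveSpecialLinearGroup (Fin 2) F)) ∨
      Cfsg.IsSuzuki L ∨
      (∃ (F : Type) (_ : Field F) (_ : Fintype F) (q : ℕ), Fintype.card F = q ^ 2 ∧ Even q ∧ 4 ≤ q ∧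
        Nonempty (L ≃* Cfsg.PSU 3 F q)))

variable {L : Type*} [Group L] [Finite L]

omit [Finite L] in
theorem comm_of_sq {S : Subgroup L} (hS : ∀ x ∈ S, x * x = 1) :
    ∀ x ∈ S, ∀ y ∈ S, x * y = y * x := by
  intro x hx y hy
  have h1 := hS (x * y) (mul_mem hx hy)
  have h3 : x⁻¹ = x := inv_eq_of_mul_eq_one_left (hS x hx)
  have h4 : y⁻¹ = y := inv_eq_of_mul_eq_one_left (hS y hy)
  have h5 : (x * y)⁻¹ = x * y := inv_eq_of_mul_eq_one_left h1
  rw [← h5, mul_inv_rev, h3, h4]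

/-- the normalizer of an elementary abelian Sylow `2`-subgroup is transitive on its involutions -/
theorem transitive (S : Sylow 2 L) (hS : ∀ x ∈ (S : Subgroup L), x * x = 1) {M : Subgroup L}
    (hM : Cfsg.IsStronglyEmbedded M) {a b : L} (ha : a ∈ (S : Subgroup L)) (ha1 : a ≠ 1)
    (hb : b ∈ (S : Subgroup L)) (hb1 : b ≠ 1) :
    ∃ n ∈ normalizer ((S : Subgroup L) : Set L), n * a * n⁻¹ = b := by
  have h2 : Fact (Nat.Prime 2) := ⟨Nat.prime_two⟩
  have hcomm : IsMulCommutative (S : Subgroup L) :=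
    ⟨⟨fun a b => Subtype.ext (comm_of_sq hS a a.2 b b.2)⟩⟩
  have hoa : orderOf a = 2 := orderOf_eq_prime (by rw [pow_two]; exact hS a ha) ha1
  have hob : orderOf b = 2 := orderOf_eq_prime (by rw [pow_two]; exact hS b hb) hb1
  obtain ⟨g, hg⟩ := isConj_iff.1 (isConj_of_involutions hM a b hoa hob)
  have h1 : (g⁻¹)⁻¹ * a * g⁻¹ ∈ (S : Subgroup L) := by rw [inv_inv, hg]; exact hb
  obtain ⟨n, hn, h⟩ := S.conj_eq_normalizer_conj_of_mem a g⁻¹ ha h1
  refine ⟨n⁻¹, inv_mem hn, ?_⟩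
  rw [inv_inv, ← h, inv_inv, hg]

/-- `|S| - 1` divides `|L|`. -/
theorem sub_one_dvd (S : Sylow 2 L) (hS : ∀ x ∈ (S : Subgroup L), x * x = 1) {M : Subgroup L}
    (hM : Cfsg.IsStronglyEmbedded M) (hS1 : (S : Subgroup L) ≠ ⊥) :
    Nat.card (S : Subgroup L) - 1 ∣ Nat.card L := by
  classical
  obtain ⟨a, ha, ha1⟩ := (bot_or_exists_ne_one (S : Subgroup L)).resolve_left hS1
  let N := normalizer ((S : Subgroup L) : Set L)
  letI : MulAction N (S : Subgroup L) :=
    MulAction.compHom (S : Subgroup L) ((S : Subgroup L).normalizerMonoidHom)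
  have hsmul : ∀ (n : N) (x : (S : Subgroup L)), ((n • x : (S : Subgroup L)) : L) = n * x * (n : L)⁻¹ :=
    fun n x => rfl
  have horb : MulAction.orbit N (⟨a, ha⟩ : (S : Subgroup L)) = {x | x ≠ 1} := by
    ext ⟨x, hx⟩
    constructor
    · rintro ⟨n, hn⟩ h1
      have h2 : (n : L) * a * (n : L)⁻¹ = x := by
        have := congrArg Subtype.val hn
        exact this
      have h3 : x = 1 := congrArg Subtype.val h1
      rw [h3] at h2
      apply ha1
      have h4 : (n : L)⁻¹ * ((n : L) * a * (n : L)⁻¹) * n = a := by group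
      rw [← h4, h2]; group
    · intro h1
      have h2 : x ≠ 1 := fun h => h1 (Subtype.ext h)
      obtain ⟨n, hn, h⟩ := transitive S hS hM ha ha1 hx h2
      exact ⟨⟨n, hn⟩, Subtype.ext h⟩
  have h2 : (MulAction.orbit N (⟨a, ha⟩ : (S : Subgroup L))).ncard = Nat.card (S : Subgroup L) - 1 := by
    rw [horb]
    have h3 : {x : (S : Subgroup L) | x ≠ 1} = ({1} : Set (S : Subgroup L))ᶜ := by ext; simp
    rw [h3, Set.ncard_compl, Set.ncard_singleton]
  have h3 : (MulAction.orbit N (⟨a, ha⟩ : (S : Subgroup L))).ncard ∣ Nat.card N := by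
    rw [← MulAction.index_stabilizer]
    exact Subgroup.index_dvd_card _
  rw [h2] at h3
  exact h3.trans (card_subgroup_dvd_card _)

/-- order of the Sylow subgroup from the factorisation of the group order -/
theorem card_sylow_eq (S : Sylow 2 L) {k m : ℕ} (hm : Odd m) (h : Nat.card L = 2 ^ k * m) :
    Nat.card (S : Subgroup L) = 2 ^ k := by
  have h2 : Fact (Nat.Prime 2) := ⟨Nat.prime_two⟩
  obtain ⟨j, hj⟩ := (IsPGroup.iff_card (p := 2)).1 S.isPGroup'
  apply Nat.dvd_antisymm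
  · have h5 : Nat.card (S : Subgroup L) ∣ 2 ^ k * m := by
      rw [← h]; exact card_subgroup_dvd_card _
    refine Nat.Coprime.dvd_of_dvd_mul_right ?_ h5
    rw [hj]
    exact Nat.Coprime.pow_left _ (Nat.coprime_two_left.2 hm)
  · exact S.pow_dvd_card_of_pow_dvd_card ⟨m, h⟩

/-- **Bender's theorem with elementary abelian Sylow 2-subgroups.** -/
theorem exists_psl (hB : BenderFor L) (S : Sylow 2 L)
    (hS : ∀ x ∈ (S : Subgroup L), x * x = 1) {M : Subgroup L}
    (hM : Cfsg.IsStronglyEmbedded M) :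
    ∃ (F : Type) (_ : Field F) (_ : Fintype F), CharP F 2 ∧ 4 ≤ Fintype.card F ∧
      Fintype.card F = Nat.card (S : Subgroup L) ∧
        Nonempty (L ≃* Matrix.ProjectiveSpecialLinearGroup (Fin 2) F) := by
  have h2 : Fact (Nat.Prime 2) := ⟨Nat.prime_two⟩
  have hS1 : (S : Subgroup L) ≠ ⊥ := by
    obtain ⟨t, -, ht⟩ := exists_involution hM
    exact S.ne_bot_of_dvd_card (ht ▸ orderOf_dvd_natCard t)
  have hdvd := sub_one_dvd S hS hM hS1
  rcases hB M hM with ⟨F, i1, i2, hch, hF, ⟨e⟩⟩ | ⟨-, m, hm, hcard⟩ | ⟨F, i1, i2, q, hF, hq, hq4, ⟨e⟩⟩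
  · obtain ⟨k, hk2, hk⟩ := FiniteField.card F 2
    have hke : Even (Fintype.card F) := by
      rw [hk]; exact (Nat.even_pow' k.ne_zero).2 even_two
    have hcard : Nat.card L = 2 ^ (k : ℕ) * ((2 ^ (k : ℕ)) ^ 2 - 1) := by
      rw [Nat.card_congr e.toEquiv, SmallSimple.PSLTwoPart.card_psl_two_even hke, hk]
    have hodd : Odd ((2 ^ (k : ℕ)) ^ 2 - 1) := by
      rw [← pow_mul]
      have h1 : 1 ≤ (k : ℕ) * 2 := by have := k.pos; omega
      have : Even (2 ^ ((k : ℕ) * 2)) := (Nat.even_pow' (by omega)).2 even_two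
      have h3 : 1 ≤ 2 ^ ((k : ℕ) * 2) := Nat.one_le_two_pow
      exact Nat.Even.sub_odd h3 this odd_one
    refine ⟨F, i1, i2, hch, hF, ?_, ⟨e⟩⟩
    rw [card_sylow_eq S hodd hcard, hk]
  · exfalso
    set n := 2 * m + 1 with hn
    have hq2 : 8 ≤ 2 ^ n := by
      calc 8 = 2 ^ 3 := by norm_num
        _ ≤ 2 ^ n := Nat.pow_le_pow_right (by norm_num) (by omega)
    have hev : Even (2 ^ n) := (Nat.even_pow' (by omega)).2 even_two
    have hc : Nat.card (S : Subgroup L) = 2 ^ (n * 2) := by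
      apply card_sylow_eq S (m := ((2 ^ n) ^ 2 + 1) * (2 ^ n - 1))
      · apply Odd.mul
        · exact ((Nat.even_pow' two_ne_zero).2 hev).add_one
        · exact Nat.Even.sub_odd (by omega) hev odd_one
      · rw [hcard, pow_mul]; ring
    rw [hc, hcard, pow_mul] at hdvd
    set q := 2 ^ n with hqdef
    have hq1 : 1 ≤ q ^ 2 := Nat.one_le_pow _ _ (by omega)
    -- coprimality
    have c1 : Nat.Coprime (q ^ 2 - 1) (q ^ 2) := by
      rw [Nat.coprime_comm]
      have := Nat.coprime_self_sub_right hq1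
      rw [this]
      exact Nat.coprime_one_right _
    have c2 : Nat.Coprime (q ^ 2 - 1) (q ^ 2 + 1) := by
      have hodd : Odd (q ^ 2 - 1) := Nat.Even.sub_odd hq1 ((Nat.even_pow' two_ne_zero).2 hev) odd_one
      have h5 : q ^ 2 + 1 = (q ^ 2 - 1) + 2 := by omega
      rw [h5, Nat.coprime_self_add_right]
      exact (Nat.coprime_two_right).2 hodd
    have h6 : q ^ 2 - 1 ∣ q - 1 := by
      refine Nat.Coprime.dvd_of_dvd_mul_left (c1.mul_right c2) ?_
      exact hdvd
    have h7 := Nat.le_of_dvd (by omega) h6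
    have h8 : q * 8 ≤ q ^ 2 := by rw [pow_two]; exact Nat.mul_le_mul_left _ hq2
    omega
  · exfalso
    obtain ⟨n, hn, rfl⟩ := LieExceptional.PSUThreeWitness.exists_pow_two hF hq hq4
    have h := Cfsg.Agent.S0280.result hF 3 (by norm_num)
    rw [← Nat.card_congr e.toEquiv] at h
    set q := 2 ^ n with hqdef
    have hprod : (∏ i ∈ Finset.range 3, (if Even i then q ^ (i + 1) + 1 else q ^ (i + 1) - 1)) =
        (q + 1) * (q ^ 2 - 1) * (q ^ 3 + 1) := by
      rw [Finset.prod_range_succ, Finset.prod_range_succ, Finset.prod_range_succ, Finset.prod_range_zero]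
      have e0 : Even 0 := by decide
      have e1 : ¬ Even 1 := by decide
      have e2 : Even 2 := by decide
      simp only [e0, e1, e2, if_true, if_false]
      ring_nf
    rw [hprod] at h
    have h' : Nat.gcd 3 (q + 1) * Nat.card L = q ^ 3 * ((q ^ 2 - 1) * (q ^ 3 + 1)) := by
      have h3 : (q + 1) * (Nat.gcd 3 (q + 1) * Nat.card L) =
          (q + 1) * (q ^ 3 * ((q ^ 2 - 1) * (q ^ 3 + 1))) := by
        calc (q + 1) * (Nat.gcd 3 (q + 1) * Nat.card L) =
            Nat.gcd 3 (q + 1) * ((q + 1) * Nat.card L) := by ring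
          _ = q ^ (3 * (3 - 1) / 2) * ((q + 1) * (q ^ 2 - 1) * (q ^ 3 + 1)) := h
          _ = _ := by
            have : 3 * (3 - 1) / 2 = 3 := by norm_num
            rw [this]; ring
      exact Nat.eq_of_mul_eq_mul_left (by omega) h3
    have hev : Even q := hq
    have hgodd : Odd (Nat.gcd 3 (q + 1)) := Odd.of_dvd_nat (by decide : Odd 3) (Nat.gcd_dvd_left _ _)
    have hq1 : 1 ≤ q ^ 2 := Nat.one_le_pow _ _ (by omega)
    have hq3 : 1 ≤ q ^ 3 := Nat.one_le_pow _ _ (by omega)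
    have hodd2 : Odd ((q ^ 2 - 1) * (q ^ 3 + 1)) := by
      apply Odd.mul
      · exact Nat.Even.sub_odd hq1 ((Nat.even_pow' two_ne_zero).2 hev) odd_one
      · exact ((Nat.even_pow' three_ne_zero).2 hev).add_one
    -- the two-part of the order
    have hc : Nat.card (S : Subgroup L) = 2 ^ (n * 3) := by
      have hd : q ^ 3 ∣ Nat.card L := by
        have h5 : q ^ 3 ∣ Nat.gcd 3 (q + 1) * Nat.card L := by rw [h']; exact Dvd.intro _ rfl
        refine Nat.Coprime.dvd_of_dvd_mul_left ?_ h5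
        rw [hqdef, ← pow_mul]
        exact Nat.Coprime.pow_left _ (Nat.coprime_two_left.2 hgodd)
      obtain ⟨m, hm⟩ := hd
      have hmo : Odd m := by
        rw [hm] at h'
        have h6 : q ^ 3 * (Nat.gcd 3 (q + 1) * m) = q ^ 3 * ((q ^ 2 - 1) * (q ^ 3 + 1)) := by
          rw [← h']; ring
        have h7 := Nat.eq_of_mul_eq_mul_left (by omega) h6
        rw [← h7] at hodd2
        exact (Nat.odd_mul.1 hodd2).2
      apply card_sylow_eq S hmo
      rw [hm, pow_mul]
    rw [hc, pow_mul] at hdvd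
    have hd2 : q ^ 3 - 1 ∣ q ^ 3 * ((q ^ 2 - 1) * (q ^ 3 + 1)) := by
      rw [← h']
      exact Dvd.dvd.mul_left hdvd _
    have c1 : Nat.Coprime (q ^ 3 - 1) (q ^ 3) := by
      rw [Nat.coprime_comm]
      have := Nat.coprime_self_sub_right hq3
      rw [this]
      exact Nat.coprime_one_right _
    have c2 : Nat.Coprime (q ^ 3 - 1) (q ^ 3 + 1) := by
      have hodd : Odd (q ^ 3 - 1) := Nat.Even.sub_odd hq3 ((Nat.even_pow' three_ne_zero).2 hev) odd_one
      have h5 : q ^ 3 + 1 = (q ^ 3 - 1) + 2 := by omega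
      rw [h5, Nat.coprime_self_add_right]
      exact (Nat.coprime_two_right).2 hodd
    have h6 : q ^ 3 - 1 ∣ q ^ 2 - 1 := by
      refine Nat.Coprime.dvd_of_dvd_mul_left (c1.mul_right c2) ?_
      have h7 : q ^ 3 * ((q ^ 2 - 1) * (q ^ 3 + 1)) = q ^ 3 * (q ^ 3 + 1) * (q ^ 2 - 1) := by ring
      rw [← h7]; exact hd2
    have h10 : 16 ≤ q ^ 2 := by nlinarith
    have h7 := Nat.le_of_dvd (by omega) h6
    have h8 : q ^ 2 * 4 ≤ q ^ 3 := by rw [pow_succ q 2]; exact Nat.mul_le_mul_left _ hq4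
    omega

end Cfsg.Agent.HexGlob.BenderEl
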