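import Mathlib
import Cfsg.Agent.HexGlob.Spec
import Cfsg.Agent.HexGlob.BenderEl
import Cfsg.Agent.ClassTwo.Sp4SL2
import Cfsg.Agent.Walter.PSLFacts

/-!
# An essential subgroup `D` with `|S : D| = |K|`: `⟨S^{N(D)}⟩ / D ≅ SL₂(K)`

General statement, used for the pieces I1 and I2.
-/

set_option autoImplicit false

namespace Cfsg.Agent.HexGlob.SLQuot

open Subgroup Matrix Cfsg.Agent.Lib.EssDefs Cfsg.Agent.ClassTwo.Sp4Defs Cfsg.Agent.ClassTwo

universe u v

/-- Bender's theorem, as a hypothesis -/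
def Bender : Prop := ∀ (X : Type u) [Group X] [Finite X] [IsSimpleGroup X], (∃ a b : X, a * b ≠ b * a) →
  BenderEl.BenderFor X

/-- Frattini for `⟨S^N⟩` -/
theorem frattini {G : Type*} [Group G] [Finite G] (S : Sylow 2 G) {N : Subgroup G} {n : G} (hn : n ∈ N) :
    ∃ l ∈ conjClosure N (S : Subgroup G), ∃ s ∈ normalizer ((S : Subgroup G) : Set G), n = l * s := by
  classical
  set L := conjClosure N (S : Subgroup G) with hL
  have hSL : (S : Subgroup G) ≤ L := le_conjClosure N _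
  have h2 : (((n • S : Sylow 2 G) : Subgroup G)) ≤ L := by
    intro x hx
    rw [Sylow.coe_subgroup_smul, Subgroup.mem_pointwise_smul_iff_inv_smul_mem, ← map_inv] at hx
    change n⁻¹ * x * n⁻¹⁻¹ ∈ (S : Subgroup G) at hx
    have := conj_mem_conjClosure (N := N) (S := (S : Subgroup G)) hn hx
    have e : n * (n⁻¹ * x * n⁻¹⁻¹) * n⁻¹ = x := by group
    rwa [e] at this
  let P : Sylow 2 L := S.subtype hSL
  let Q : Sylow 2 L := (n • S).subtype h2
  obtain ⟨l, hl⟩ := MulAction.exists_smul_eq L P Q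
  have key : ∀ x : G, x ∈ (S : Subgroup G) → (l : G) * x * (l : G)⁻¹ ∈ ((n • S : Sylow 2 G) : Subgroup G) := by
    intro x hx
    have h3 : (⟨x, hSL hx⟩ : L) ∈ P := hx
    have h4 : l * ⟨x, hSL hx⟩ * l⁻¹ ∈ Q := by
      rw [← hl]
      exact ⟨_, h3, rfl⟩
    exact h4
  refine ⟨l, l.2, (l : G)⁻¹ * n, ?_, by group⟩
  have key2 : ∀ x ∈ (S : Subgroup G), n⁻¹ * ((l : G) * x * (l : G)⁻¹) * n ∈ (S : Subgroup G) := by
    intro x hx
    have := key x hx
    rw [Sylow.coe_subgroup_smul, Subgroup.mem_pointwise_smul_iff_inv_smul_mem, ← map_inv] at this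
    change n⁻¹ * ((l : G) * x * (l : G)⁻¹) * n⁻¹⁻¹ ∈ (S : Subgroup G) at this
    rwa [inv_inv] at this
  have h5 : (l : G)⁻¹ * n ∈ normalizer ((S : Subgroup G) : Set G) ↔
      ((l : G)⁻¹ * n)⁻¹ ∈ normalizer ((S : Subgroup G) : Set G) := (inv_mem_iff).symm
  rw [h5, Cfsg.Agent.Lib.GoldschmidtFusion.mem_normalizer_iff_map_conj]
  apply Subgroup.eq_of_le_of_card_ge
  · rintro _ ⟨x, hx, rfl⟩
    change ((l : G)⁻¹ * n)⁻¹ * x * ((l : G)⁻¹ * n)⁻¹⁻¹ ∈ (S : Subgroup G)
    have := key2 x hx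
    have e : ((l : G)⁻¹ * n)⁻¹ * x * ((l : G)⁻¹ * n)⁻¹⁻¹ = n⁻¹ * ((l : G) * x * (l : G)⁻¹) * n := by group
    rwa [e]
  · rw [← Nat.card_congr ((S : Subgroup G).equivMapOfInjective (MulAut.conj ((l : G)⁻¹ * n)⁻¹).toMonoidHom
      (MulAut.conj ((l : G)⁻¹ * n)⁻¹).injective).toEquiv]

/-- an isomorphism `PSL(2, F') ≃ SL(2, K)` -/
theorem exists_equiv {F' : Type u} [Field F'] [Fintype F'] [CharP F' 2] {K : Type v} [Field K] [Finite K]
    [CharP K 2] (h : Fintype.card F' = Nat.card K) :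
    Nonempty (ProjectiveSpecialLinearGroup (Fin 2) F' ≃* SpecialLinearGroup (Fin 2) K) := by
  have : Fintype K := Fintype.ofFinite K
  have e : F' ≃+* K := FiniteField.ringEquivOfCardEq (by rw [h, Nat.card_eq_fintype_card])
  have hc : center (SpecialLinearGroup (Fin 2) F') = ⊥ := Cfsg.Agent.Walter.PSLFacts.center_eq_bot
  have e1 : ProjectiveSpecialLinearGroup (Fin 2) F' ≃* SpecialLinearGroup (Fin 2) F' :=
    (QuotientGroup.quotientMulEquivOfEq hc).trans QuotientGroup.quotientBot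
  refine ⟨e1.trans ?_⟩
  refine MulEquiv.ofBijective (SpecialLinearGroup.map (n := Fin 2) (e : F' →+* K)) ⟨?_, ?_⟩
  · intro a b hab
    apply Subtype.ext
    ext i j
    have : (SpecialLinearGroup.map (n := Fin 2) (e : F' →+* K) a).1 i j =
      (SpecialLinearGroup.map (n := Fin 2) (e : F' →+* K) b).1 i j := by rw [hab]
    exact e.injective this
  · intro b
    refine ⟨SpecialLinearGroup.map (n := Fin 2) (e.symm : K →+* F') b, ?_⟩
    apply Subtype.ext
    ext i j
    change e (e.symm (b.1 i j)) = b.1 i j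
    exact e.apply_symm_apply _

/-- the upper unitriangular subgroup -/
def U (K : Type v) [Field K] : Subgroup (SpecialLinearGroup (Fin 2) K) where
  carrier := {g | ∃ t : K, g = u t}
  mul_mem' := by
    rintro _ _ ⟨s, rfl⟩ ⟨t, rfl⟩
    exact ⟨s + t, Sp4SL2.u_mul s t⟩
  one_mem' := ⟨0, Sp4SL2.u_zero.symm⟩
  inv_mem' := by
    rintro _ ⟨s, rfl⟩
    exact ⟨-s, Sp4SL2.u_inv s⟩

theorem mem_U {K : Type v} [Field K] {g : SpecialLinearGroup (Fin 2) K} : g ∈ U K ↔ ∃ t : K, g = u t := Iff.rfl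

theorem card_U (K : Type v) [Field K] : Nat.card (U K) = Nat.card K := by
  symm
  apply Nat.card_congr
  refine Equiv.ofBijective (fun t => (⟨u t, t, rfl⟩ : U K)) ⟨?_, ?_⟩
  · intro s t h
    exact Sp4SL2.u_injective (congrArg Subtype.val h)
  · rintro ⟨_, t, rfl⟩
    exact ⟨t, rfl⟩

/-- a Sylow `2`-subgroup of `SL(2, K)` of order `|K|` is conjugate to `U` -/
theorem exists_conj_U {K : Type v} [Field K] [Finite K] [CharP K 2]
    (T : Sylow 2 (SpecialLinearGroup (Fin 2) K))
    (hT : Nat.card (T : Subgroup (SpecialLinearGroup (Fin 2) K)) = Nat.card K) :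
    ∃ g : SpecialLinearGroup (Fin 2) K, ∀ x ∈ T, ∃ t : K, g * x * g⁻¹ = u t := by
  have : Fact (Nat.Prime 2) := ⟨Nat.prime_two⟩
  have hU : IsPGroup 2 (U K) := by
    have hd : Nat.card (U K) ∣ Nat.card (T : Subgroup (SpecialLinearGroup (Fin 2) K)) := by
      rw [hT, card_U]
    obtain ⟨n, hn⟩ := (IsPGroup.iff_card (p := 2)).1 T.isPGroup'
    rw [hn] at hd
    obtain ⟨m, -, hm⟩ := (Nat.dvd_prime_pow Nat.prime_two).1 hd
    exact IsPGroup.of_card hm
  obtain ⟨R, hR⟩ := hU.exists_le_sylow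
  obtain ⟨g, hg⟩ := MulAction.exists_smul_eq (SpecialLinearGroup (Fin 2) K) T R
  have hcard : Nat.card (R : Subgroup (SpecialLinearGroup (Fin 2) K)) = Nat.card K := by
    rw [← hT]
    exact Nat.card_congr (Sylow.equiv R T).toEquiv
  have hRU : (R : Subgroup (SpecialLinearGroup (Fin 2) K)) = U K := by
    symm
    apply Subgroup.eq_of_le_of_card_ge hR
    rw [hcard, card_U]
  refine ⟨g, fun x hx => ?_⟩
  have h1 : g * x * g⁻¹ ∈ R := by
    rw [← hg]
    exact ⟨x, hx, rfl⟩
  have h2 : g * x * g⁻¹ ∈ (R : Subgroup (SpecialLinearGroup (Fin 2) K)) := h1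
  rw [hRU] at h2
  exact h2

variable {G : Type u} [Group G] [Finite G]

/-- **The quotient `⟨S^{N(D)}⟩ / D` for an essential subgroup `D` with `S / D` elementary abelian.** -/
theorem exists_sl (hB : Bender.{u}) (S : Sylow 2 G) {D : Subgroup G} (hE : Ess 2 (S : Subgroup G) D)
    (hSD : (S : Subgroup G) ≤ normalizer (D : Set G)) (hcD : centralizer (D : Set G) ≤ D)
    (hsq : ∀ s ∈ (S : Subgroup G), s * s ∈ D)
    {K : Type v} [Field K] [CharP K 2] (hq : 4 ≤ Nat.card K) (hidx : D.relIndex S = Nat.card K)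
    (hs : ∀ M : Subgroup G, M ≤ conjClosure (normalizer (D : Set G)) S →
      conjClosure (normalizer (D : Set G)) S ≤ normalizer (M : Set G) → M ≤ D ∨
        conjClosure (normalizer (D : Set G)) S ≤ M ⊔ D) :
    ∃ p : conjClosure (normalizer (D : Set G)) (S : Subgroup G) →* SpecialLinearGroup (Fin 2) K,
      Function.Surjective p ∧ (∀ g : conjClosure (normalizer (D : Set G)) (S : Subgroup G), p g = 1 ↔ (g : G) ∈ D) ∧
        ∀ g : conjClosure (normalizer (D : Set G)) (S : Subgroup G), (g : G) ∈ (S : Subgroup G) →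
          ∃ t : K, p g = u t := by
  classical
  have : Fact (Nat.Prime 2) := ⟨Nat.prime_two⟩
  have hfK : Finite K := Nat.finite_of_card_ne_zero (by omega)
  obtain ⟨H, hH⟩ := hE
  have hDS : D ≤ (S : Subgroup G) := hH.lt.le
  set Γ := conjClosure (normalizer (D : Set G)) (S : Subgroup G) with hΓ
  have hSΓ : (S : Subgroup G) ≤ Γ := le_conjClosure _ _
  have hΓN : Γ ≤ normalizer (D : Set G) := conjClosure_le_self hSD
  have hDΓ : D ≤ Γ := hDS.trans hSΓ
  have hDH : D ≤ H := le_sup_left.trans hH.sup_le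
  have hDC : D ⊔ centralizer (D : Set G) = D := sup_eq_left.2 hcD
  have hSH : (S : Subgroup G) ≤ H := by
    have h1 := hH.inf_le
    rwa [inf_eq_left.2 hSD] at h1
  have hse : ∀ x ∈ normalizer (D : Set G), x ∉ H → ∀ h ∈ H, h * h ∈ D → x * h * x⁻¹ ∈ H → h ∈ D := by
    intro x hx hxH h hh h2 h3
    have := hH.se x hx hxH h hh (by rw [hDC, pow_two]; exact h2) h3
    rwa [hDC] at this
  -- the normal subgroup
  have hNn : (D.subgroupOf Γ).Normal := by
    constructor
    intro n hn g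
    rw [mem_subgroupOf] at hn ⊢
    exact Cfsg.Agent.HexEss.conj_mem_of_le hΓN g.2 hn
  set N := D.subgroupOf Γ with hN
  have hmk : ∀ g : Γ, QuotientGroup.mk' N g = 1 ↔ (g : G) ∈ D := by
    intro g
    rw [QuotientGroup.mk'_apply, QuotientGroup.eq_one_iff, hN, mem_subgroupOf]
  -- the Sylow subgroup of the quotient
  let T0 : Sylow 2 Γ := S.subtype hSΓ
  have hT0 : ∀ g : Γ, g ∈ (T0 : Subgroup Γ) ↔ (g : G) ∈ (S : Subgroup G) := fun g => Iff.rfl
  let T : Sylow 2 (Γ ⧸ N) := T0.mapSurjective (QuotientGroup.mk'_surjective N)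
  have hTmem : ∀ y, y ∈ (T : Subgroup (Γ ⧸ N)) ↔ ∃ g : Γ, (g : G) ∈ (S : Subgroup G) ∧ QuotientGroup.mk' N g = y :=
    fun y => Iff.rfl
  have hTsq : ∀ y ∈ (T : Subgroup (Γ ⧸ N)), y * y = 1 := by
    intro y hy
    obtain ⟨g, hg, rfl⟩ := (hTmem y).1 hy
    rw [← map_mul, hmk]
    exact hsq _ hg
  have hTcard : Nat.card (T : Subgroup (Γ ⧸ N)) = Nat.card K := by
    have h1 : (T : Subgroup (Γ ⧸ N)) = (T0 : Subgroup Γ).map (QuotientGroup.mk' N) := rfl
    have h2 : (D.subgroupOf Γ).relIndex (T0 : Subgroup Γ) = D.relIndex (S : Subgroup G) := by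
      have h3 : (T0 : Subgroup Γ) = (S : Subgroup G).subgroupOf Γ := rfl
      rw [h3]
      exact relIndex_subgroupOf hSΓ
    rw [h1, ← relIndex_ker, QuotientGroup.ker_mk', ← hidx, ← h2]
  -- simplicity
  have hlt : Nat.card (T : Subgroup (Γ ⧸ N)) ∣ Nat.card (Γ ⧸ N) := card_subgroup_dvd_card _
  have hnt : Nontrivial (Γ ⧸ N) := by
    rw [← Finite.one_lt_card_iff_nontrivial]
    have h1 := Nat.le_of_dvd Nat.card_pos hlt
    omega
  have hsimp : IsSimpleGroup (Γ ⧸ N) := by
    refine ⟨fun M hM => ?_⟩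
    set M1 := (M.comap (QuotientGroup.mk' N)).map Γ.subtype with hM1
    have hmem : ∀ g : Γ, (g : G) ∈ M1 ↔ QuotientGroup.mk' N g ∈ M := by
      intro g
      rw [hM1, mem_map]
      constructor
      · rintro ⟨x, hx, hxg⟩
        have : x = g := Subtype.ext hxg
        rw [← this]; exact hx
      · intro h
        exact ⟨g, h, rfl⟩
    have hM1Γ : M1 ≤ Γ := by
      rw [hM1]
      exact map_subtype_le _
    have hMn : Γ ≤ normalizer (M1 : Set G) := by
      intro g hg
      rw [mem_normalizer_iff]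
      intro x
      have key : ∀ g : Γ, ∀ x ∈ M1, (g : G) * x * (g : G)⁻¹ ∈ M1 := by
        intro g x hx
        have h1 := (hmem ⟨x, hM1Γ hx⟩).1 hx
        have h2 := hM.conj_mem _ h1 (QuotientGroup.mk' N g)
        rw [← map_inv, ← map_mul, ← map_mul] at h2
        exact (hmem (g * ⟨x, hM1Γ hx⟩ * g⁻¹)).2 h2
      constructor
      · exact fun hx => key ⟨g, hg⟩ x hx
      · intro hx
        have := key ⟨g, hg⟩⁻¹ _ hx
        have e : ((⟨g, hg⟩⁻¹ : Γ) : G) * (g * x * g⁻¹) * ((⟨g, hg⟩⁻¹ : Γ) : G)⁻¹ = x := by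
          change g⁻¹ * (g * x * g⁻¹) * g⁻¹⁻¹ = x
          group
        rwa [e] at this
    rcases hs M1 hM1Γ hMn with h | h
    · left
      rw [eq_bot_iff]
      intro y hy
      obtain ⟨g, rfl⟩ := QuotientGroup.mk'_surjective N y
      rw [mem_bot, hmk]
      exact h ((hmem g).2 hy)
    · right
      rw [eq_top_iff]
      intro y _
      obtain ⟨g, rfl⟩ := QuotientGroup.mk'_surjective N y
      have hDM : D ≤ M1 := by
        intro d hd
        refine (hmem ⟨d, hDΓ hd⟩).2 ?_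
        rw [(hmk ⟨d, hDΓ hd⟩).2 hd]
        exact one_mem M
      have h2 := h g.2
      rw [sup_eq_left.2 hDM] at h2
      exact (hmem g).1 h2
  -- not abelian
  have hna : ∃ a b : Γ ⧸ N, a * b ≠ b * a := by
    by_contra hcon
    push Not at hcon
    let _ : CommGroup (Γ ⧸ N) := { (inferInstance : Group (Γ ⧸ N)) with mul_comm := hcon }
    have hp : (Nat.card (Γ ⧸ N)).Prime := IsSimpleGroup.prime_card
    obtain ⟨n, hn⟩ := (IsPGroup.iff_card (p := 2)).1 T.isPGroup'
    rw [hTcard] at hn hlt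
    have h4 : 4 ∣ Nat.card K := by
      rw [hn]
      have : 2 ≤ n := by
        by_contra h
        have h5 : n ≤ 1 := by omega
        have h6 : 2 ^ n ≤ 2 ^ 1 := Nat.pow_le_pow_right (by norm_num) h5
        omega
      exact pow_dvd_pow 2 this
    have h5 : 4 ∣ Nat.card (Γ ⧸ N) := h4.trans hlt
    have h6 : Nat.card (Γ ⧸ N) ≠ 4 := fun h => by rw [h] at hp; revert hp; norm_num
    rcases (Nat.dvd_prime hp).1 h5 with h | h
    · omega
    · exact h6 h.symm
  -- the strongly embedded subgroup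
  have hSE : Cfsg.IsStronglyEmbedded ((H.subgroupOf Γ).map (QuotientGroup.mk' N)) := by
    have hmemH : ∀ g : Γ, QuotientGroup.mk' N g ∈ (H.subgroupOf Γ).map (QuotientGroup.mk' N) ↔ (g : G) ∈ H := by
      intro g
      rw [mem_map]
      constructor
      · rintro ⟨x, hx, hxg⟩
        have h1 : QuotientGroup.mk' N (x⁻¹ * g) = 1 := by rw [map_mul, map_inv, hxg]; group
        have h2 := (hmk _).1 h1
        have h3 : (g : G) = (x : G) * ((x⁻¹ * g : Γ) : G) := by
          change (g : G) = (x : G) * ((x : G)⁻¹ * (g : G))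
          group
        rw [h3]
        exact mul_mem (mem_subgroupOf.1 hx) (hDH h2)
      · intro h
        exact ⟨g, mem_subgroupOf.2 h, rfl⟩
    refine ⟨?_, ?_, ?_⟩
    · intro htop
      have h1 : Γ ≤ H := by
        intro g hg
        exact (hmemH ⟨g, hg⟩).1 (htop ▸ mem_top _)
      apply hH.ne
      apply le_antisymm hH.le
      intro n hn
      obtain ⟨l, hl, s, hsS, rfl⟩ := frattini S hn
      have hsN : s ∈ normalizer (D : Set G) := by
        have := mul_mem (inv_mem (hΓN hl)) hn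
        rwa [inv_mul_cancel_left] at this
      refine mul_mem (h1 hl) ?_
      by_contra hsH
      apply hH.lt.not_ge
      intro x hx
      refine hse s hsN hsH x (hSH hx) (hsq x hx) (hSH ?_)
      exact (mem_normalizer_iff.1 hsS x).1 hx
    · have h1 : (T : Subgroup (Γ ⧸ N)) ≤ (H.subgroupOf Γ).map (QuotientGroup.mk' N) := by
        intro y hy
        obtain ⟨g, hg, rfl⟩ := (hTmem y).1 hy
        exact (hmemH g).2 (hSH hg)
      have h2 := card_dvd_of_le h1
      rw [hTcard] at h2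
      rw [even_iff_two_dvd]
      refine dvd_trans ?_ h2
      obtain ⟨n, hn⟩ := (IsPGroup.iff_card (p := 2)).1 T.isPGroup'
      rw [hTcard] at hn
      rw [hn]
      apply dvd_pow_self
      rintro rfl
      rw [pow_zero] at hn
      omega
    · intro y hy
      obtain ⟨x, rfl⟩ := QuotientGroup.mk'_surjective N y
      by_contra hodd
      rw [Nat.not_odd_iff_even, even_iff_two_dvd] at hodd
      obtain ⟨⟨a, ha⟩, ha2⟩ := exists_prime_orderOf_dvd_card' 2 hodd
      rw [mem_inf] at ha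
      obtain ⟨haH, haX⟩ := ha
      have ha' : orderOf a = 2 := by
        rw [← ha2]
        exact (orderOf_mk a _).symm
      obtain ⟨b, hb, hba⟩ := haX
      obtain ⟨h, rfl⟩ := QuotientGroup.mk'_surjective N b
      have h1 : (h : G) ∈ H := (hmemH h).1 hb
      have h2 : ((x * h * x⁻¹ : Γ) : G) ∈ H := by
        rw [← hmemH]
        have : QuotientGroup.mk' N (x * h * x⁻¹) = a := by
          rw [← hba, map_mul, map_mul, map_inv]
          rfl
        rw [this]; exact haH
      have haa : a * a = 1 := by rw [← pow_two, ← ha', pow_orderOf_eq_one]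
      have hax : a = QuotientGroup.mk' N x * QuotientGroup.mk' N h * (QuotientGroup.mk' N x)⁻¹ := hba.symm
      have h3 : ((h * h : Γ) : G) ∈ D := by
        rw [← hmk, map_mul]
        rw [hax] at haa
        have e : QuotientGroup.mk' N h * QuotientGroup.mk' N h = (QuotientGroup.mk' N x)⁻¹ *
            ((QuotientGroup.mk' N x * QuotientGroup.mk' N h * (QuotientGroup.mk' N x)⁻¹) *
              (QuotientGroup.mk' N x * QuotientGroup.mk' N h * (QuotientGroup.mk' N x)⁻¹)) *
                QuotientGroup.mk' N x := by group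
        rw [e, haa]
        group
      have h4 : (h : G) ∈ D := hse x (hΓN x.2) (fun h5 => hy ((hmemH x).2 h5)) h h1 h3 h2
      have h5 : a = 1 := by rw [hax, (hmk h).2 h4]; group
      rw [h5, orderOf_one] at ha'
      omega
  obtain ⟨F', hF1, hF2, hF3, hF4, hF5, ⟨e⟩⟩ := BenderEl.exists_psl (hB (Γ ⧸ N) hna) T hTsq hSE
  obtain ⟨e1⟩ := exists_equiv (F' := F') (K := K) (hF5.trans hTcard)
  let p0 : Γ →* SpecialLinearGroup (Fin 2) K := (e.trans e1).toMonoidHom.comp (QuotientGroup.mk' N)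
  have hp0 : Function.Surjective p0 := (e.trans e1).surjective.comp (QuotientGroup.mk'_surjective N)
  have hp1 : ∀ g : Γ, p0 g = 1 ↔ (g : G) ∈ D := by
    intro g
    rw [← hmk]
    exact (e.trans e1).map_eq_one_iff
  let R : Sylow 2 (SpecialLinearGroup (Fin 2) K) := T0.mapSurjective hp0
  have hR : Nat.card (R : Subgroup (SpecialLinearGroup (Fin 2) K)) = Nat.card K := by
    rw [← hTcard]
    have h1 : (R : Subgroup (SpecialLinearGroup (Fin 2) K)) = (T : Subgroup (Γ ⧸ N)).map (e.trans e1).toMonoidHom := by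
      change (T0 : Subgroup Γ).map p0 = ((T0 : Subgroup Γ).map (QuotientGroup.mk' N)).map (e.trans e1).toMonoidHom
      rw [Subgroup.map_map]
    rw [h1]
    exact (Nat.card_congr ((T : Subgroup (Γ ⧸ N)).equivMapOfInjective _ (e.trans e1).injective).toEquiv).symm
  obtain ⟨g, hg⟩ := exists_conj_U R hR
  refine ⟨(MulAut.conj g).toMonoidHom.comp p0, (MulAut.conj g).surjective.comp hp0, ?_, ?_⟩
  · intro x
    rw [← hp1]
    exact (MulAut.conj g).map_eq_one_iff
  · intro x hx
    exact hg (p0 x) ⟨x, hx, rfl⟩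

end Cfsg.Agent.HexGlob.SLQuot
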