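import Mathlib
import Cfsg.Agent.HexGlob.SLQuot
import Cfsg.Agent.HexGlob.LevSpec

/-!
# Piece I1: `L₁ / Da ≅ SL₂(K)`
-/

set_option autoImplicit false

namespace Cfsg.Agent.HexGlob.PiOne

open Cfsg.Agent.HexRec Cfsg.Agent.HexEss Cfsg.Agent.HexGlob Subgroup Matrix Cfsg.Agent.Lib.EssDefs

universe u v

variable {F K : Type v} [Field F] [Field K] [Algebra F K] {C : Cubic F K}
variable {G : Type u} [Group G] {P : Subgroup G}

/-- the first coordinate, as a homomorphism -/
noncomputable def hom1 (co : Coord C P) : P →* Multiplicative K where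
  toFun g := Multiplicative.ofAdd (co.e g).a1
  map_one' := by rw [co.one_a1]; rfl
  map_mul' g h := by rw [co.mul_a1]; rfl

/-- the last coordinate, as a homomorphism -/
noncomputable def hom6 (co : Coord C P) : P →* Multiplicative F where
  toFun g := Multiplicative.ofAdd (co.e g).a6
  map_one' := by rw [co.one_a6]; rfl
  map_mul' g h := by rw [co.mul_a6]; rfl

theorem relIndex_Da [Finite G] (co : Coord C P) : (Da co).relIndex P = Nat.card K := by
  have h1 : (hom1 co).ker = (Da co).subgroupOf P := by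
    ext g
    rw [MonoidHom.mem_ker, mem_subgroupOf, mem_Da, cx_eq g.2]
    exact ⟨fun h => ⟨g.2, Multiplicative.ofAdd.injective h⟩, fun h => congrArg Multiplicative.ofAdd h.2⟩
  have h2 : Function.Surjective (hom1 co) := by
    intro k
    refine ⟨co.e.symm ⟨k.toAdd, 0, 0, 0, 0, 0⟩, ?_⟩
    change Multiplicative.ofAdd (co.e (co.e.symm ⟨k.toAdd, 0, 0, 0, 0, 0⟩)).a1 = k
    rw [Equiv.apply_symm_apply]
    rfl
  change ((Da co).subgroupOf P).index = _
  rw [← h1, index_ker, MonoidHom.range_eq_top.2 h2, card_top]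
  exact Nat.card_congr Multiplicative.toAdd

theorem relIndex_Db [Finite G] (co : Coord C P) : (Db co).relIndex P = Nat.card F := by
  have h1 : (hom6 co).ker = (Db co).subgroupOf P := by
    ext g
    rw [MonoidHom.mem_ker, mem_subgroupOf, mem_Db, cx_eq g.2]
    exact ⟨fun h => ⟨g.2, Multiplicative.ofAdd.injective h⟩, fun h => congrArg Multiplicative.ofAdd h.2⟩
  have h2 : Function.Surjective (hom6 co) := by
    intro k
    refine ⟨co.e.symm ⟨0, 0, 0, 0, 0, k.toAdd⟩, ?_⟩
    change Multiplicative.ofAdd (co.e (co.e.symm ⟨0, 0, 0, 0, 0, k.toAdd⟩)).a6 = k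
    rw [Equiv.apply_symm_apply]
    rfl
  change ((Db co).subgroupOf P).index = _
  rw [← h1, index_ker, MonoidHom.range_eq_top.2 h2, card_top]
  exact Nat.card_congr Multiplicative.toAdd

variable [Finite G] {S : Sylow 2 G} {co : Coord C (S : Subgroup G)}

theorem S_le_normalizer_Da : (S : Subgroup G) ≤ normalizer ((Da co : Subgroup G) : Set G) := by
  apply le_normalizer_of
  intro n hn x hx
  have h1 : cm n x * x = n * x * n⁻¹ := by unfold cm; group
  rw [← h1]
  exact mul_mem (RR_le_Da (cm_mem_RR hn (Da_le hx))) hx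

theorem S_le_normalizer_Db : (S : Subgroup G) ≤ normalizer ((Db co : Subgroup G) : Set G) := by
  apply le_normalizer_of
  intro n hn x hx
  have h1 : cm n x * x = n * x * n⁻¹ := by unfold cm; group
  rw [← h1]
  exact mul_mem (RR_le_Db (cm_mem_RR hn (Db_le hx))) hx

theorem q4K (hd : Dat C) (co : Coord C (S : Subgroup G)) : 4 ≤ Nat.card K := by
  have := Abel.finite_K co
  exact hd.q4.trans (Nat.card_le_card_of_injective _ (algebraMap F K).injective)

/-- **Piece I1.** -/
theorem outP1 (hB : SLQuot.Bender.{u}) (hd : Dat C) (hE : Ess 2 (S : Subgroup G) (Da co)) (h1 : Out1 S co)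
    (hc : centralizer ((Da co : Subgroup G) : Set G) ≤ Da co) : OutP1 S co := by
  have := charPK C
  refine SLQuot.exists_sl hB S hE S_le_normalizer_Da hc (fun s hs => ⟨mul_mem hs hs, a1_sq hs⟩) (q4K hd co)
    (relIndex_Da co) ?_
  intro M hM hM2
  have := h1.simple M hM hM2
  rwa [sup_eq_left.2 hc] at this

/-- the analogue for `L₂` -/
theorem sl2 (hB : SLQuot.Bender.{u}) (hd : Dat C) (hE : Ess 2 (S : Subgroup G) (Db co))
    (hc : centralizer ((Db co : Subgroup G) : Set G) ≤ Db co)
    (hs : ∀ M : Subgroup G, M ≤ L2 S co → L2 S co ≤ normalizer (M : Set G) → M ≤ Db co ∨ L2 S co ≤ M ⊔ Db co) :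
    ∃ p : L2 S co →* SpecialLinearGroup (Fin 2) F, Function.Surjective p ∧
      (∀ g : L2 S co, p g = 1 ↔ (g : G) ∈ Db co) ∧
      ∀ g : L2 S co, (g : G) ∈ (S : Subgroup G) → ∃ t : F, p g = Cfsg.Agent.ClassTwo.Sp4Defs.u t := by
  have := charPF C
  exact SLQuot.exists_sl hB S hE S_le_normalizer_Db hc (fun s hs => ⟨mul_mem hs hs, a6_sq hs⟩) hd.q4
    (relIndex_Db co) hs

end Cfsg.Agent.HexGlob.PiOne
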