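import Cfsg.Agent.HexGlob.Spec

/-!
# `N_G(Db)`: the part of `Out2` which does not mention `F0`

`Pre S co` = the fields `ti`, `ex`, `cover`, `trans`, `gen` of `Out2`; `Pre.out2`: together with `inv`, `triv`
they give `Out2`.
-/

set_option autoImplicit false

namespace Cfsg.Agent.HexGlob.TwoDefs

open Cfsg.Agent.HexRec Cfsg.Agent.HexEss Cfsg.Agent.HexGlob Subgroup

universe u v

variable {F K : Type v} [Field F] [Field K] [Algebra F K] {C : Cubic F K}
variable {G : Type u} [Group G] [Finite G] (S : Sylow 2 G) (co : Coord C (S : Subgroup G))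

/-- the part of `Out2` which does not mention `F0` -/
structure Pre : Prop where
  /-- conjugates of `Z` under `N_G(Db)` intersect trivially -/
  ti : ∀ n ∈ normalizer ((Db co : Subgroup G) : Set G), ∀ z ∈ Z co, z ≠ 1 → n * z * n⁻¹ ∈ Z co →
    n ∈ normalizer ((Z co : Subgroup G) : Set G)
  ex : ∃ n ∈ normalizer ((Db co : Subgroup G) : Set G), n ∉ normalizer ((Z co : Subgroup G) : Set G)
  /-- `V = Z × Z^n` -/
  cover : ∀ n ∈ normalizer ((Db co : Subgroup G) : Set G), n ∉ normalizer ((Z co : Subgroup G) : Set G) →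
    ∀ v ∈ E2 co, ∃ z ∈ Z co, ∃ y ∈ Z co, v = z * (n * y * n⁻¹)
  /-- `L₂` is transitive on the nontrivial elements of `V` -/
  trans : ∀ a ∈ E2 co, a ≠ 1 → ∀ b ∈ E2 co, b ≠ 1 → ∃ l ∈ L2 S co, l * a * l⁻¹ = b
  /-- `L₂` is generated by two Sylow subgroups modulo `Db C(Db)` -/
  gen : ∀ n ∈ normalizer ((Db co : Subgroup G) : Set G), n ∉ normalizer ((Z co : Subgroup G) : Set G) →
    L2 S co ≤ ((S : Subgroup G) ⊔ (S : Subgroup G).map (MulAut.conj n).toMonoidHom) ⊔
      centralizer ((Db co : Subgroup G) : Set G)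

variable {S co}

theorem Pre.out2 (h : Pre S co)
    (inv : normalizer ((Db co : Subgroup G) : Set G) ≤ normalizer ((F0 co : Subgroup G) : Set G))
    (triv : ∀ l ∈ L2 S co, ∀ w ∈ F0 co, cm l w ∈ E2 co) : Out2 S co :=
  ⟨h.ti, h.ex, h.cover, h.trans, inv, triv, h.gen⟩

end Cfsg.Agent.HexGlob.TwoDefs
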