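import Mathlib
import Cfsg.Agent.HexGlob.TwoDefs
import Cfsg.Agent.HexGlob.Facts
import Cfsg.Agent.HexEss.Count
import Cfsg.Agent.HexEss.Step3b

/-!
# `N_G(Db)` for `K = F`: an invariant subgroup of order `q³`

For surjective `F → K`: after possibly changing the coordinates (only for `q = 4`) the subgroup `F0` is invariant
under `N_G(Db)` and `[L₂, F0] ≤ E2`.
-/

set_option autoImplicit false

namespace Cfsg.Agent.HexGlob.TwoOne

open Cfsg.Agent.HexRec Cfsg.Agent.HexEss Cfsg.Agent.HexGlob Subgroup Cfsg.Agent.HexGlob.TwoDefs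

universe u v

variable {F K : Type v} [Field F] [Field K] [Algebra F K] {C : Cubic F K}

/-! ### The cubic data for `K = F` -/

section field

variable (hs : Function.Surjective (algebraMap F K))
include hs

theorem sh_eq (a : K) : C.sh a = a ^ 2 := by
  obtain ⟨f, rfl⟩ := hs a
  exact C.sh_map f

theorem cr_eq (a b : K) : C.cr a b = 0 := by
  unfold Cubic.cr
  rw [sh_eq hs, sh_eq hs, sh_eq hs]
  have := C.two_K
  linear_combination (a ^ 2 + a * b + b ^ 2) * this

theorem T_eq (a b : K) : algebraMap F K (C.T a b) = a * b := by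
  unfold Cubic.T
  obtain ⟨f, hf⟩ := hs (a * b)
  have h1 : C.tr (algebraMap F K f) = f := by
    rw [Algebra.algebraMap_eq_smul_one, map_smul, C.tr_one, smul_eq_mul, mul_one]
  rw [← hf, h1]

theorem N_eq (a : K) : algebraMap F K (C.N a) = a ^ 3 := by
  rw [C.N_map, sh_eq hs]; ring

end field

/-! ### The change of coordinates for `q = 4` -/

/-- the map on coordinates -/
def sig (C : Cubic F K) (a : Tup F K) : Tup F K := ⟨a.a1 ^ 2, a.a2, a.a5, a.a4 + a.a2 ^ 2 + C.T a.a3 a.a5, a.a3, a.a6⟩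

theorem sig_sig (h4 : ∀ s : K, s ^ 4 = s) (a : Tup F K) : sig C (sig C a) = a := by
  refine Tup.ext ?_ rfl rfl ?_ rfl rfl
  · change (a.a1 ^ 2) ^ 2 = a.a1
    rw [← pow_mul]; exact h4 _
  · change a.a4 + a.a2 ^ 2 + C.T a.a3 a.a5 + a.a2 ^ 2 + C.T a.a5 a.a3 = a.a4
    rw [C.T_comm a.a5]
    linear_combination (a.a2 ^ 2 + C.T a.a3 a.a5) * C.two_F

theorem sig_mul (hs : Function.Surjective (algebraMap F K)) (h4 : ∀ s : K, s ^ 4 = s) (a b : Tup F K) :
    sig C (C.mul a b) = C.mul (sig C a) (sig C b) := by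
  have h2 := C.two_K
  have hb := h4 b.a1
  refine Tup.ext ?_ ?_ ?_ ?_ ?_ ?_
  · change (a.a1 + b.a1) ^ 2 = a.a1 ^ 2 + b.a1 ^ 2
    linear_combination (a.a1 * b.a1) * h2
  · apply (algebraMap F K).injective
    simp only [sig, Cubic.mul, map_add, map_mul, T_eq hs, N_eq hs, sh_eq hs]
    linear_combination (-(algebraMap F K a.a6) * b.a1 ^ 2 - a.a3) * hb
  · simp only [sig, Cubic.mul, cr_eq hs, sh_eq hs, add_zero]
    rw [← pow_mul, h4]
  · apply (algebraMap F K).injective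
    simp only [sig, Cubic.mul, map_add, map_mul, map_pow, T_eq hs, N_eq hs, sh_eq hs, cr_eq hs, Algebra.smul_def]
    set x2 := algebraMap F K a.a2
    set x4 := algebraMap F K a.a4
    set x6 := algebraMap F K a.a6
    set y2 := algebraMap F K b.a2
    set y4 := algebraMap F K b.a4
    set y6 := algebraMap F K b.a6
    have := charPK C
    grind
  · simp only [sig, Cubic.mul, cr_eq hs, sh_eq hs, add_zero]
  · rfl

section grp

variable {G : Type u} [Group G] {P : Subgroup G}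

/-- the changed coordinates -/
noncomputable def co1 (co : Coord C P) (hs : Function.Surjective (algebraMap F K)) (h4 : ∀ s : K, s ^ 4 = s) :
    Coord C P where
  e := co.e.trans ⟨sig C, sig C, sig_sig h4, sig_sig h4⟩
  map_mul g h := by
    change sig C (co.e (g * h)) = C.mul (sig C (co.e g)) (sig C (co.e h))
    rw [co.map_mul, sig_mul hs h4]

variable {co : Coord C P} {hs : Function.Surjective (algebraMap F K)} {h4 : ∀ s : K, s ^ 4 = s}

theorem cx_co1 {g : G} (hg : g ∈ P) : cx (co1 co hs h4) g = sig C (cx co g) := by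
  rw [cx_eq hg, cx_eq hg]; rfl

variable [Finite G]

theorem Z_co1 : Z (co1 co hs h4) = Z co := by
  ext g
  rw [mem_Z, mem_Z]
  refine and_congr_right fun hg => ?_
  rw [cx_co1 hg]
  simp only [sig]
  constructor
  · rintro ⟨e1, e2, e3, e5, e6⟩
    exact ⟨pow_eq_zero_iff (two_ne_zero) |>.1 e1, e2, e5, e3, e6⟩
  · rintro ⟨e1, e2, e3, e5, e6⟩
    exact ⟨by rw [e1]; ring, e2, e5, e3, e6⟩

theorem E2_co1 : E2 (co1 co hs h4) = E2 co := by
  ext g
  rw [mem_E2, mem_E2]
  refine and_congr_right fun hg => ?_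
  rw [cx_co1 hg]
  simp only [sig]
  constructor
  · rintro ⟨e1, e3, e5, e6⟩
    exact ⟨pow_eq_zero_iff (two_ne_zero) |>.1 e1, e5, e3, e6⟩
  · rintro ⟨e1, e3, e5, e6⟩
    exact ⟨by rw [e1]; ring, e5, e3, e6⟩

theorem RR_co1 : RR (co1 co hs h4) = RR co := by
  ext g
  rw [mem_RR, mem_RR]
  refine and_congr_right fun hg => ?_
  rw [cx_co1 hg]
  simp only [sig]
  constructor
  · rintro ⟨e1, e6⟩
    exact ⟨pow_eq_zero_iff (two_ne_zero) |>.1 e1, e6⟩
  · rintro ⟨e1, e6⟩
    exact ⟨by rw [e1]; ring, e6⟩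

theorem Da_co1 : Da (co1 co hs h4) = Da co := by
  ext g
  rw [mem_Da, mem_Da]
  refine and_congr_right fun hg => ?_
  rw [cx_co1 hg]
  simp only [sig]
  exact pow_eq_zero_iff (two_ne_zero)

theorem Db_co1 : Db (co1 co hs h4) = Db co := by
  ext g
  rw [mem_Db, mem_Db]
  refine and_congr_right fun hg => ?_
  rw [cx_co1 hg]
  rfl

/-- `U2 U4 U5` -/
noncomputable def F5 (co : Coord C P) (hs : Function.Surjective (algebraMap F K)) : Subgroup G :=
  mkSub co (fun a => a.a1 = 0 ∧ a.a3 = 0 ∧ a.a6 = 0) ⟨rfl, rfl, rfl⟩ (by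
    rintro a b ⟨a1, a3, a6⟩ ⟨b1, b3, b6⟩
    simp [Cubic.mul, a1, a3, a6, b1, b3, b6, cr_eq hs])

theorem mem_F5 {hs : Function.Surjective (algebraMap F K)} {g : G} :
    g ∈ F5 co hs ↔ g ∈ P ∧ (cx co g).a1 = 0 ∧ (cx co g).a3 = 0 ∧ (cx co g).a6 = 0 := Iff.rfl

theorem F0_co1 : F0 (co1 co hs h4) = F5 co hs := by
  ext g
  rw [mem_F0, mem_F5]
  refine and_congr_right fun hg => ?_
  rw [cx_co1 hg]
  simp only [sig]
  constructor
  · rintro ⟨e1, e5, e6⟩
    exact ⟨pow_eq_zero_iff (two_ne_zero) |>.1 e1, e5, e6⟩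
  · rintro ⟨e1, e5, e6⟩
    exact ⟨by rw [e1]; ring, e5, e6⟩

theorem card_F5 : Nat.card (F5 co hs) = Nat.card F ^ 2 * Nat.card K := by
  rw [pow_two, ← Nat.card_prod, ← Nat.card_prod]
  refine Nat.card_congr ((mkSubEquiv co _ _ _).trans ?_)
  exact
    { toFun := fun a => ((a.1.a2, a.1.a4), a.1.a5)
      invFun := fun f => ⟨⟨0, f.1.1, 0, f.1.2, f.2, 0⟩, rfl, rfl, rfl⟩
      left_inv := by
        rintro ⟨⟨a1, a2, a3, a4, a5, a6⟩, h⟩
        simp only at h
        obtain ⟨rfl, rfl, rfl⟩ := h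
        rfl
      right_inv := fun _ => rfl }

theorem card_RR : Nat.card (RR co) = Nat.card K * (Nat.card F ^ 2 * Nat.card K) := by
  rw [pow_two, ← Nat.card_prod, ← Nat.card_prod, ← Nat.card_prod]
  refine Nat.card_congr ((mkSubEquiv co _ _ _).trans ?_)
  exact
    { toFun := fun a => (a.1.a3, ((a.1.a2, a.1.a4), a.1.a5))
      invFun := fun f => ⟨⟨0, f.2.1.1, f.1, f.2.1.2, f.2.2, 0⟩, rfl, rfl⟩
      left_inv := by
        rintro ⟨⟨a1, a2, a3, a4, a5, a6⟩, h⟩
        simp only at h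
        obtain ⟨rfl, rfl⟩ := h
        rfl
      right_inv := fun _ => rfl }

/-! ### Commutators for `K = F` -/

/-- `[Db, Db] ≤ E2` -/
theorem cm_Db_Db (hs : Function.Surjective (algebraMap F K)) {g h : G} (hg : g ∈ Db co) (hh : h ∈ Db co) :
    cm g h ∈ E2 co := by
  have h1 := cm_mem_F0_of_Db hg hh
  exact ⟨h1.1, h1.2.1, by rw [a3_cm_Db hg.1 hh.1 hg.2 hh.2, cr_eq hs, cr_eq hs, add_zero], h1.2.2.1, h1.2.2.2⟩

/-- `[P, RR] ≤ E2` -/
theorem cm_P_RR (hs : Function.Surjective (algebraMap F K)) {g h : G} (hg : g ∈ P) (hh : h ∈ RR co) :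
    cm g h ∈ E2 co := by
  have h1 := cm_mem_F0 hg hh
  exact ⟨h1.1, h1.2.1, by rw [a3_cm_R hg hh.1 hh.2.1 hh.2.2, cr_eq hs], h1.2.2.1, h1.2.2.2⟩

theorem a2_cm (hs : Function.Surjective (algebraMap F K)) {y x : G} (hy : y ∈ Db co) (hx : x ∈ RR co) :
    algebraMap F K (cx co (cm y x)).a2 = (cx co y).a1 * (cx co x).a3 + (cx co y).a1 ^ 2 * (cx co x).a5 := by
  rw [a2_cm_R hy.1 hx.1 hx.2.1 hx.2.2, map_add, T_eq hs, T_eq hs, sh_eq hs]

theorem a4_cm (hs : Function.Surjective (algebraMap F K)) {y x : G} (hy : y ∈ Db co) (hx : x ∈ RR co) :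
    algebraMap F K (cx co (cm y x)).a4 = (cx co x).a3 * (cx co y).a5 + (cx co y).a1 * (cx co x).a5 ^ 2 +
      (cx co y).a3 * (cx co x).a5 := by
  rw [a4_cm_R hy.1 hx.1 hx.2.1 hx.2.2, hy.2, zero_mul, zero_add, map_add, map_add, T_eq hs, T_eq hs, T_eq hs,
    sh_eq hs]

theorem E2_ext {v w : G} (hv : v ∈ E2 co) (hw : w ∈ E2 co)
    (h2 : algebraMap F K (cx co v).a2 = algebraMap F K (cx co w).a2)
    (h4 : algebraMap F K (cx co v).a4 = algebraMap F K (cx co w).a4) : v = w :=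
  cx_inj (co := co) hv.1 hw.1 (Tup.ext (hv.2.1.trans hw.2.1.symm) ((algebraMap F K).injective h2)
    (hv.2.2.1.trans hw.2.2.1.symm) ((algebraMap F K).injective h4) (hv.2.2.2.1.trans hw.2.2.2.1.symm)
    (hv.2.2.2.2.trans hw.2.2.2.2.symm))

end grp

/-! ### The invariant subgroup -/

section main

variable {G : Type u} [Group G] [Finite G] {S : Sylow 2 G} {co : Coord C (S : Subgroup G)}

/-- `{x ∈ Db : [x, L₂] ≤ E2}` -/
noncomputable def Y0 (S : Sylow 2 G) (co : Coord C (S : Subgroup G)) : Subgroup G :=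
  cenMod (Db co) (L2 S co) (E2 co) (Facts.le_normalizer_E2_of_Db le_normalizer)

theorem mem_Y0 {x : G} : x ∈ Y0 S co ↔ x ∈ Db co ∧ ∀ l ∈ L2 S co, cm x l ∈ E2 co := Iff.rfl

theorem NDb_le_E2 : normalizer ((Db co : Subgroup G) : Set G) ≤ normalizer ((E2 co : Subgroup G) : Set G) :=
  Facts.le_normalizer_E2_of_Db le_rfl

theorem S_le_NDb : (S : Subgroup G) ≤ normalizer ((Db co : Subgroup G) : Set G) :=
  le_normalizer_of fun n hn x hx => by
    rw [conj_eq_cm_mul]
    exact mul_mem (RR_le_Db (cm_mem_RR hn hx.1)) hx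

theorem L2_le : L2 S co ≤ normalizer ((Db co : Subgroup G) : Set G) := conjClosure_le_self S_le_NDb

theorem NDb_le_Y0 : normalizer ((Db co : Subgroup G) : Set G) ≤ normalizer ((Y0 S co : Subgroup G) : Set G) :=
  le_normalizer_cenMod le_rfl (le_normalizer_conjClosure _ _) NDb_le_E2

theorem Y0_le : Y0 S co ≤ RR co := by
  intro x hx
  obtain ⟨s, hs, hsc⟩ := exists_cx (co := co) ⟨0, 0, 0, 0, 0, 1⟩
  have h1 := hx.2 s (le_conjClosure _ _ hs)
  have h2 : cm s x ∈ E2 co := cm_inv_swap_mem h1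
  have h3 := a5_cm (co := co) hs hx.1.1
  rw [h2.2.2.2.1, hsc] at h3
  simp only [one_smul, smul_zero, add_zero] at h3
  exact ⟨hx.1.1, h3.symm, hx.1.2⟩

variable (hs : Function.Surjective (algebraMap F K)) (h : Pre S co)
include hs h

theorem card_Y0 : Nat.card F ^ 2 * Nat.card K ≤ Nat.card (Y0 S co) := by
  have hF := Abel.finite_F co
  have hK := Abel.finite_K co
  obtain ⟨n, hn, hnZ⟩ := h.ex
  have hsub : RR co ⊓ (RR co).map (MulAut.conj n).toMonoidHom ≤ Y0 S co := by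
    rintro x ⟨hx1, hx2⟩
    refine ⟨RR_le_Db hx1, fun l hl => cm_inv_swap_mem ?_⟩
    -- the elements commuting with `x` modulo `E2`
    have hA : ∀ a ∈ normalizer ((E2 co : Subgroup G) : Set G), cm a x ∈ E2 co →
        a ∈ cenMod (normalizer ((E2 co : Subgroup G) : Set G)) (closure {x}) (E2 co) le_rfl := by
      intro a ha hax
      refine ⟨ha, fun d hd => ?_⟩
      induction hd using closure_induction with
      | mem y hy => rw [Set.mem_singleton_iff.1 hy]; exact hax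
      | one => unfold cm; simp [one_mem]
      | mul y z hy hz h1 h2 =>
        have e : cm a (y * z) = cm a y * (y * cm a z * y⁻¹) := by unfold cm; group
        rw [e]
        refine mul_mem h1 (conj_mem_of_le (K := E2 co) le_rfl ?_ h2)
        have h3 : closure {x} ≤ normalizer ((E2 co : Subgroup G) : Set G) := by
          rw [closure_le, Set.singleton_subset_iff]
          exact NDb_le_E2 (le_normalizer (RR_le_Db hx1))
        exact h3 hy
      | inv y hy h1 =>
        have e : cm a y⁻¹ = y⁻¹ * (cm a y)⁻¹ * y⁻¹⁻¹ := by unfold cm; group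
        rw [e]
        refine conj_mem_of_le (K := E2 co) le_rfl ?_ (inv_mem h1)
        have h3 : closure {x} ≤ normalizer ((E2 co : Subgroup G) : Set G) := by
          rw [closure_le, Set.singleton_subset_iff]
          exact NDb_le_E2 (le_normalizer (RR_le_Db hx1))
        exact inv_mem (h3 hy)
    have hL := h.gen n hn hnZ hl
    have hle : ((S : Subgroup G) ⊔ (S : Subgroup G).map (MulAut.conj n).toMonoidHom) ⊔
        centralizer ((Db co : Subgroup G) : Set G) ≤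
        cenMod (normalizer ((E2 co : Subgroup G) : Set G)) (closure {x}) (E2 co) le_rfl := by
      refine sup_le (sup_le ?_ ?_) ?_
      · intro s hs'
        exact hA s (NDb_le_E2 (S_le_NDb hs')) (cm_P_RR hs hs' hx1)
      · rintro _ ⟨s, hs', rfl⟩
        have hs1 : n * s * n⁻¹ ∈ normalizer ((Db co : Subgroup G) : Set G) :=
          mul_mem (mul_mem hn (S_le_NDb hs')) (inv_mem hn)
        refine hA _ (NDb_le_E2 hs1) ?_
        obtain ⟨r, hr, rfl⟩ := hx2
        change cm (n * s * n⁻¹) (n * r * n⁻¹) ∈ E2 co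
        rw [← conj_cm]
        exact conj_mem_of_le NDb_le_E2 hn (cm_P_RR hs hs' hr)
      · intro c hc
        have hcN : c ∈ normalizer ((Db co : Subgroup G) : Set G) := centralizer_le_normalizer _ hc
        refine hA c (NDb_le_E2 hcN) ?_
        have : cm c x = 1 := cm_eq_one.2 (mem_centralizer_iff.1 hc x (RR_le_Db hx1)).symm
        rw [this]; exact one_mem _
    exact (hle hL).2 x (subset_closure rfl)
  have h1 := Step3.card_sq_le (RR_le_Db (co := co)) hn
  have h2 := Nat.mul_le_mul_right (Nat.card (Db co)) (Nat.card_le_card_of_injective _ (inclusion_injective hsub))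
  have h3 := h1.trans h2
  rw [card_RR, card_Db] at h3
  have hKF : Nat.card K = Nat.card F :=
    (Nat.card_congr (Equiv.ofBijective _ ⟨(algebraMap F K).injective, hs⟩)).symm
  rw [hKF] at h3 ⊢
  have hq : 0 < Nat.card F := Nat.card_pos
  set q := Nat.card F
  have h4 : (q ^ 2 * q) * (q * q * (q ^ 2 * q)) ≤ Nat.card (Y0 S co) * (q * q * (q ^ 2 * q)) := by
    refine le_trans (le_of_eq ?_) h3
    ring
  exact Nat.le_of_mul_le_mul_right h4 (by positivity)

omit h in
/-- `l [y, x] l⁻¹ = [l y l⁻¹, x]` for `x ∈ Y0` -/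
theorem conj_cm_Y0 {x y l : G} (hx : x ∈ Y0 S co) (hy : y ∈ Db co) (hl : l ∈ L2 S co) :
    l * cm y x * l⁻¹ = cm (l * y * l⁻¹) x := by
  have hy' : l * y * l⁻¹ ∈ Db co := conj_mem_of_le L2_le hl hy
  have h1 : cm l x ∈ E2 co := cm_inv_swap_mem (hx.2 l hl)
  rw [conj_cm, conj_eq_cm_mul l x]
  have e : cm (l * y * l⁻¹) (cm l x * x) = cm (l * y * l⁻¹) (cm l x) * (cm l x * cm (l * y * l⁻¹) x * (cm l x)⁻¹) := by
    unfold cm; group
  rw [e, cm_Db_E2 hy' h1, one_mul]
  have h2 : cm (l * y * l⁻¹) x ∈ E2 co := cm_Db_Db hs hy' hx.1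
  have h3 : cm (cm l x) (cm (l * y * l⁻¹) x) = 1 := cm_Db_E2 (E2_le_Db h1) h2
  rw [cm_eq_one] at h3
  rw [h3, mul_inv_cancel_right]

/-- `y ↦ [y, x]` is onto `E2` for `x ∈ Y0 ∖ E2` -/
theorem cm_surj {x : G} (hx : x ∈ Y0 S co) (hxE : x ∉ E2 co) {b : G} (hb : b ∈ E2 co) : ∃ y ∈ Db co, cm y x = b := by
  by_cases hb1 : b = 1
  · exact ⟨1, one_mem _, by rw [hb1]; unfold cm; simp⟩
  obtain ⟨y, hy, hy1⟩ : ∃ y ∈ Db co, cm y x ≠ 1 := by
    by_contra hcon
    push Not at hcon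
    apply hxE
    rw [← Facts.cenMod_Db_Db]
    exact ⟨hx.1, fun d hd => mem_bot.2 (Facts.cm_one_swap.1 (hcon d hd))⟩
  obtain ⟨l, hl, e⟩ := h.trans _ (cm_Db_Db hs hy hx.1) hy1 b hb hb1
  exact ⟨l * y * l⁻¹, conj_mem_of_le L2_le hl hy, by rw [← conj_cm_Y0 hs hx hy hl]; exact e⟩

/-- an element of `Y0` has `a3 = 0` or `a5 = 0` -/
theorem a3_or_a5 {x : G} (hx : x ∈ Y0 S co) : (cx co x).a3 = 0 ∨ (cx co x).a5 = 0 := by
  by_contra hcon
  push Not at hcon
  obtain ⟨h3, h5⟩ := hcon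
  have hK := Abel.finite_K co
  have hxR := Y0_le hx
  have hxE : x ∉ E2 co := fun h1 => h3 h1.2.2.1
  have hsurj : Function.Surjective (fun y : K => y * (cx co x).a3 + y ^ 2 * (cx co x).a5) := by
    intro k
    obtain ⟨f, rfl⟩ := hs k
    obtain ⟨b, hb, hbc⟩ := exists_cx (co := co) ⟨0, f, 0, 0, 0, 0⟩
    have hbE : b ∈ E2 co := ⟨hb, by rw [hbc], by rw [hbc], by rw [hbc], by rw [hbc]⟩
    obtain ⟨y, hy, hyb⟩ := cm_surj hs h hx hxE hbE
    refine ⟨(cx co y).a1, ?_⟩
    have := a2_cm hs hy hxR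
    rw [hyb, hbc] at this
    exact this.symm
  have hinj := Finite.injective_iff_surjective.2 hsurj
  have h1 : (cx co x).a3 / (cx co x).a5 = 0 := by
    apply hinj
    simp only
    have : (cx co x).a3 / (cx co x).a5 * (cx co x).a3 + ((cx co x).a3 / (cx co x).a5) ^ 2 * (cx co x).a5 =
        2 * ((cx co x).a3 ^ 2 / (cx co x).a5) := by
      field_simp; ring
    rw [this, C.two_K]; ring
  rcases div_eq_zero_iff.1 h1 with h2 | h2
  · exact h3 h2
  · exact h5 h2

theorem Y0_cases : Y0 S co = F0 co ∨ Y0 S co = F5 co hs := by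
  have hF := Abel.finite_F co
  have hK := Abel.finite_K co
  have hc := card_Y0 hs h
  by_cases h5 : ∀ x ∈ Y0 S co, (cx co x).a5 = 0
  · left
    apply Subgroup.eq_of_le_of_card_ge
    · intro x hx
      have := Y0_le hx
      exact ⟨this.1, this.2.1, h5 x hx, this.2.2⟩
    · rw [card_F0]; exact hc
  · right
    push Not at h5
    obtain ⟨x, hx, hx5⟩ := h5
    have hx3 := (a3_or_a5 hs h hx).resolve_right hx5
    apply Subgroup.eq_of_le_of_card_ge
    · intro y hy
      have hyR := Y0_le hy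
      have hxR := Y0_le hx
      refine ⟨hyR.1, hyR.2.1, ?_, hyR.2.2⟩
      by_contra hy3
      have hy5 := (a3_or_a5 hs h hy).resolve_left hy3
      have hxy := mul_mem hx hy
      have e3 : (cx co (x * y)).a3 = (cx co y).a3 := by
        rw [a3_mul hxR.1 hyR.1, hx3, hxR.2.2, hyR.2.1, cr_eq hs, zero_smul, add_zero, add_zero, zero_add]
      have e5 : (cx co (x * y)).a5 = (cx co x).a5 := by
        rw [a5_mul hxR.1 hyR.1, hy5, hxR.2.2, zero_smul, add_zero, add_zero]
      rcases a3_or_a5 hs h hxy with h1 | h1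
      · exact hy3 (e3 ▸ h1)
      · exact hx5 (e5 ▸ h1)
    · rw [card_F5]; exact hc

/-- if `Y0 = U2 U4 U5` then `q = 4` -/
theorem pow_four_eq (hd : Dat C) (hY : Y0 S co = F5 co hs) (s : K) : s ^ 4 = s := by
  have hF := Abel.finite_F co
  have hK := Abel.finite_K co
  have h2 := C.two_K
  -- `x5(a)`
  have hx5 : ∀ a : K, ∃ x ∈ Y0 S co, cx co x = ⟨0, 0, 0, 0, a, 0⟩ := by
    intro a
    obtain ⟨x, hx, hxc⟩ := exists_cx (co := co) ⟨0, 0, 0, 0, a, 0⟩
    refine ⟨x, ?_, hxc⟩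
    rw [hY]
    exact ⟨hx, by rw [hxc], by rw [hxc], by rw [hxc]⟩
  choose x hx hxc using hx5
  have hxR : ∀ a, x a ∈ RR co := fun a => Y0_le (hx a)
  have e2 : ∀ (a : K) (y : G), y ∈ Db co → algebraMap F K (cx co (cm y (x a))).a2 = (cx co y).a1 ^ 2 * a := by
    intro a y hy
    rw [a2_cm hs hy (hxR a), hxc]
    simp only [mul_zero, zero_add]
  have e4 : ∀ (a : K) (y : G), y ∈ Db co → algebraMap F K (cx co (cm y (x a))).a4 =
      (cx co y).a1 * a ^ 2 + (cx co y).a3 * a := by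
    intro a y hy
    rw [a4_cm hs hy (hxR a), hxc]
    simp only [zero_mul, zero_add]
  have hE : ∀ (a : K) (y : G), y ∈ Db co → cm y (x a) ∈ E2 co := fun a y hy => cm_Db_Db hs hy (hx a).1
  -- the multiplicative property
  have key : ∀ (a b : K) (y : G), y ∈ Db co → ∃ y' ∈ Db co, cm y' (x 1) = cm y (x b) ∧
      cm y' (x a) = cm y (x (a * b)) := by
    intro a b y hy
    by_cases h1 : cm y (x 1) = 1
    · have f2 := e2 1 y hy
      have f4 := e4 1 y hy
      rw [h1, cx_one] at f2 f4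
      simp only [map_zero, mul_one, one_pow] at f2 f4
      have g1 : (cx co y).a1 = 0 := pow_eq_zero_iff two_ne_zero |>.1 f2.symm
      rw [g1, zero_add] at f4
      have g3 : (cx co y).a3 = 0 := f4.symm
      have hc : ∀ c : K, cm y (x c) = 1 := by
        intro c
        apply E2_ext (co := co) (hE c y hy) (one_mem _)
        · rw [e2 c y hy, cx_one, g1]; simp
        · rw [e4 c y hy, cx_one, g1, g3]; simp
      exact ⟨1, one_mem _, by rw [hc]; unfold cm; simp, by rw [hc]; unfold cm; simp⟩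
    · obtain ⟨w0, hw0, hw0c⟩ := exists_cx (co := co) ⟨0, 0, 1, 0, 0, 0⟩
      have hw0D : w0 ∈ Db co := ⟨hw0, by rw [hw0c]⟩
      have hz1 : cm w0 (x 1) ≠ 1 := by
        intro h3
        have f4 := e4 1 w0 hw0D
        rw [h3, cx_one, hw0c] at f4
        simp only [map_zero, mul_one, one_pow, zero_add] at f4
        exact zero_ne_one f4
      obtain ⟨l, hl, el⟩ := h.trans _ (hE 1 w0 hw0D) hz1 _ (hE 1 y hy) h1
      set w := l⁻¹ * y * l with hw
      have hli : l⁻¹ ∈ L2 S co := inv_mem hl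
      have hwD : w ∈ Db co := by
        have := conj_mem_of_le L2_le hli hy
        simpa using this
      have hlw : l * w * l⁻¹ = y := by rw [hw]; group
      have hcw : cm w (x 1) = cm w0 (x 1) := by
        have h3 := conj_cm_Y0 hs (hx 1) hwD hl
        rw [hlw, ← el] at h3
        have h4 := congrArg (fun t => l⁻¹ * t * l) h3
        simpa [mul_assoc] using h4
      have f2 := e2 1 w hwD
      have f4 := e4 1 w hwD
      rw [hcw, e2 1 w0 hw0D, hw0c] at f2
      rw [hcw, e4 1 w0 hw0D, hw0c] at f4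
      simp only [mul_one, one_pow, zero_add] at f2 f4
      have g1 : (cx co w).a1 = 0 := by
        have : (cx co w).a1 ^ 2 = 0 := by rw [← f2]; ring
        exact pow_eq_zero_iff two_ne_zero |>.1 this
      have g3 : (cx co w).a3 = 1 := by
        rw [g1] at f4
        simpa using f4.symm
      obtain ⟨w', hw', hwc'⟩ := exists_cx (co := co) ⟨0, 0, b, 0, 0, 0⟩
      have hw'D : w' ∈ Db co := ⟨hw', by rw [hwc']⟩
      have k1 : cm w' (x 1) = cm w (x b) := by
        apply E2_ext (co := co) (hE 1 w' hw'D) (hE b w hwD)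
        · rw [e2 1 w' hw'D, e2 b w hwD, g1, hwc']; ring
        · rw [e4 1 w' hw'D, e4 b w hwD, g1, g3, hwc']; ring
      have k2 : cm w' (x a) = cm w (x (a * b)) := by
        apply E2_ext (co := co) (hE a w' hw'D) (hE (a * b) w hwD)
        · rw [e2 a w' hw'D, e2 (a * b) w hwD, g1, hwc']; ring
        · rw [e4 a w' hw'D, e4 (a * b) w hwD, g1, g3, hwc']; ring
      refine ⟨l * w' * l⁻¹, conj_mem_of_le L2_le hl hw'D, ?_, ?_⟩
      · rw [← conj_cm_Y0 hs (hx 1) hw'D hl, k1, conj_cm_Y0 hs (hx b) hwD hl, hlw]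
      · rw [← conj_cm_Y0 hs (hx a) hw'D hl, k2, conj_cm_Y0 hs (hx (a * b)) hwD hl, hlw]
  -- apply it to `y = x1(1)`, `b = s²`
  obtain ⟨l, hl0, hl1⟩ := Facts.exists_scalar hd
  set a : K := algebraMap F K l with ha
  have ha0 : a ≠ 0 := by rw [ha]; exact (map_ne_zero _).2 hl0
  have ha1 : a + 1 ≠ 0 := by
    intro h3
    apply hl1
    apply C.eq_of_add_eq_zero
    apply (algebraMap F K).injective
    rw [map_add, map_one, map_zero, ← ha, h3]
  obtain ⟨y, hy, hyc⟩ := exists_cx (co := co) ⟨1, 0, 0, 0, 0, 0⟩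
  have hyD : y ∈ Db co := ⟨hy, by rw [hyc]⟩
  obtain ⟨y', hy', k1, k2⟩ := key a (s ^ 2) y hyD
  have m1 := e2 1 y' hy'
  have m2 := e4 1 y' hy'
  rw [k1, e2 _ y hyD, hyc] at m1
  rw [k1, e4 _ y hyD, hyc] at m2
  have m3 := e4 a y' hy'
  rw [k2, e4 _ y hyD, hyc] at m3
  simp only [one_mul, mul_one, one_pow, zero_mul, add_zero] at m1 m2 m3
  -- `y'₁ = s`
  have n1 : (cx co y').a1 = s := by
    have h3 : ((cx co y').a1 - s) ^ 2 = 0 := by
      linear_combination -m1 + (s ^ 2 - (cx co y').a1 * s) * h2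
    exact sub_eq_zero.1 (pow_eq_zero_iff two_ne_zero |>.1 h3)
  rw [n1] at m2 m3
  have h3 : a * (a + 1) * (s ^ 4 + s) = 0 := by
    have hc := charPK C
    linear_combination m3 - a * m2 + (a ^ 2 * s + a * s ^ 4) * h2
  have h4 : s ^ 4 + s = 0 := by
    rcases mul_eq_zero.1 h3 with h5 | h5
    · rcases mul_eq_zero.1 h5 with h6 | h6
      · exact absurd h6 ha0
      · exact absurd h6 ha1
    · exact h5
  linear_combination h4 - s * h2

theorem exists_coord (hd : Dat C) : ∃ co1 : Coord C (S : Subgroup G), Da co1 = Da co ∧ Db co1 = Db co ∧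
    Z co1 = Z co ∧ E2 co1 = E2 co ∧ RR co1 = RR co ∧
    normalizer ((Db co : Subgroup G) : Set G) ≤ normalizer ((F0 co1 : Subgroup G) : Set G) ∧
    ∀ l ∈ L2 S co, ∀ w ∈ F0 co1, cm l w ∈ E2 co := by
  have htriv : ∀ l ∈ L2 S co, ∀ w ∈ Y0 S co, cm l w ∈ E2 co := fun l hl w hw => cm_inv_swap_mem (hw.2 l hl)
  rcases Y0_cases hs h with hY | hY
  · refine ⟨co, rfl, rfl, rfl, rfl, rfl, ?_, ?_⟩
    · rw [← hY]; exact NDb_le_Y0
    · rw [← hY]; exact htriv
  · have h4 := pow_four_eq hs h hd hY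
    refine ⟨co1 co hs h4, Da_co1, Db_co1, Z_co1, E2_co1, RR_co1, ?_, ?_⟩
    · rw [F0_co1, ← hY]; exact NDb_le_Y0
    · rw [F0_co1, ← hY]; exact htriv

end main

end Cfsg.Agent.HexGlob.TwoOne
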