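import Cfsg.Agent.HexGlob.TwoBase
import Cfsg.Agent.HexGlob.TwoOne

/-!
# `N_G(Db)`: the output `Out2`

`out2_of_inv`: `Pre` and the invariance of `F0` give `Out2`; `out2_three`: the case `(K : F) = 3`;
`exists_out2`: in general, after possibly changing the coordinates.
-/

set_option autoImplicit false

namespace Cfsg.Agent.HexGlob.TwoOut

open Cfsg.Agent.HexRec Cfsg.Agent.HexEss Cfsg.Agent.HexGlob Subgroup Cfsg.Agent.HexGlob.TwoDefs

universe u v

variable {F K : Type v} [Field F] [Field K] [Algebra F K] {C : Cubic F K}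
variable {G : Type u} [Group G] [Finite G]

/-- `[L₂, F0] ≤ E2` if `F0` is invariant -/
theorem triv_of_inv {S : Sylow 2 G} {co : Coord C (S : Subgroup G)}
    (inv : normalizer ((Db co : Subgroup G) : Set G) ≤ normalizer ((F0 co : Subgroup G) : Set G)) :
    ∀ l ∈ L2 S co, ∀ w ∈ F0 co, cm l w ∈ E2 co := by
  have hE : normalizer ((Db co : Subgroup G) : Set G) ≤ normalizer ((E2 co : Subgroup G) : Set G) :=
    TwoOne.NDb_le_E2
  have h1 : L2 S co ≤ cenMod (normalizer ((Db co : Subgroup G) : Set G)) (F0 co) (E2 co) hE := by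
    apply conjClosure_le
    · intro s hs
      exact ⟨TwoOne.S_le_NDb hs, fun d hd => cm_mem_E2 hs hd⟩
    · exact le_normalizer_cenMod le_normalizer inv hE
  exact fun l hl => (h1 hl).2

theorem out2_of_inv {S : Sylow 2 G} {co : Coord C (S : Subgroup G)} (h : Pre S co)
    (inv : normalizer ((Db co : Subgroup G) : Set G) ≤ normalizer ((F0 co : Subgroup G) : Set G)) : Out2 S co :=
  h.out2 inv (triv_of_inv inv)

/-- `F0 = {x ∈ Db : [x, Db] ≤ E2}` for `|F| < |K|` -/
theorem cenMod_Db_E2 {P : Subgroup G} {co : Coord C P} (hC : Reg C) (h : Nat.card F < Nat.card K) :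
    cenMod (Db co) (Db co) (E2 co) (Facts.le_normalizer_E2_of_Db le_normalizer) = F0 co := by
  have hF := Abel.finite_F co
  have hK := Abel.finite_K co
  ext g
  rw [mem_cenMod]
  constructor
  · rintro ⟨hg, hgc⟩
    have h1 : (cx co g).a1 = 0 := by
      by_contra h1
      obtain ⟨w, hw⟩ := exists_cr_ne_zero hC h h1
      obtain ⟨x, hx, hxc⟩ := exists_cx (co := co) ⟨0, 0, 0, 0, w, 0⟩
      have hxD : x ∈ Db co := ⟨hx, by rw [hxc]⟩
      have h2 := (hgc x hxD).2.2.1
      rw [a3_cm_Db hg.1 hx hg.2 hxD.2, hxc, C.cr_zero_left, add_zero] at h2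
      exact hw h2
    have h5 : (cx co g).a5 = 0 := by
      by_contra h5
      obtain ⟨w, hw⟩ := exists_cr_ne_zero hC h h5
      obtain ⟨x, hx, hxc⟩ := exists_cx (co := co) ⟨w, 0, 0, 0, 0, 0⟩
      have hxD : x ∈ Db co := ⟨hx, by rw [hxc]⟩
      have h2 := (hgc x hxD).2.2.1
      rw [a3_cm_Db hg.1 hx hg.2 hxD.2, hxc, C.cr_zero_right, zero_add, C.cr_comm] at h2
      exact hw h2
    exact ⟨hg.1, h1, h5, hg.2⟩
  · intro hg
    exact ⟨F0_le_Db hg, fun d hd => cm_inv_swap_mem (cm_mem_E2 hd.1 hg)⟩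

theorem card_lt (h4 : 2 ≤ Nat.card F) (h3 : Module.finrank F K = 3) : Nat.card F < Nat.card K := by
  have hF : Finite F := Nat.finite_of_card_ne_zero (by omega)
  have hfin : Module.Finite F K := Module.finite_of_finrank_pos (by omega)
  rw [Module.natCard_eq_pow_finrank (K := F) (V := K), h3]
  have : Nat.card F ^ 1 < Nat.card F ^ 3 := Nat.pow_lt_pow_right (by omega) (by norm_num)
  simpa using this

theorem inv_of_three {P : Subgroup G} {co : Coord C P} (hC : Reg C) (h : Nat.card F < Nat.card K) :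
    normalizer ((Db co : Subgroup G) : Set G) ≤ normalizer ((F0 co : Subgroup G) : Set G) := by
  rw [← cenMod_Db_E2 hC h]
  exact le_normalizer_cenMod le_rfl le_rfl (Facts.le_normalizer_E2_of_Db le_rfl)

/-- the case `(K : F) = 3` -/
theorem out2_three {S : Sylow 2 G} {co : Coord C (S : Subgroup G)} (hC : Reg C) (h : Nat.card F < Nat.card K)
    (hp : Pre S co) : Out2 S co := out2_of_inv hp (inv_of_three hC h)

/-- **The result of the analysis of `N_G(Db)`** -/
theorem exists_out2 {S : Sylow 2 G} (co : Coord C (S : Subgroup G)) (hd : Dat C)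
    (hN : ¬ normalizer ((Db co : Subgroup G) : Set G) ≤ normalizer ((Z co : Subgroup G) : Set G)) :
    ∃ co1 : Coord C (S : Subgroup G), Da co1 = Da co ∧ Db co1 = Db co ∧ Z co1 = Z co ∧ E2 co1 = E2 co ∧
      RR co1 = RR co ∧ Out2 S co1 := by
  have hp := TwoBase.pre co hd.q4 hN
  rcases hd.deg with hs | h3
  · obtain ⟨co1, e1, e2, e3, e4, e5, inv, -⟩ := TwoOne.exists_coord hs hp hd
    refine ⟨co1, e1, e2, e3, e4, e5, ?_⟩
    have hp1 : Pre S co1 := TwoBase.pre co1 hd.q4 (by rw [e2, e3]; exact hN)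
    exact out2_of_inv hp1 (by rw [e2]; exact inv)
  · exact ⟨co, rfl, rfl, rfl, rfl, rfl,
      out2_three hd.reg (card_lt (by have := hd.q4; omega) h3) hp⟩

end Cfsg.Agent.HexGlob.TwoOut
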