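import Cfsg.Agent.HexGlob.EssBoth
import Cfsg.Agent.HexGlob.Ess
import Cfsg.Agent.HexGlob.TwoOut
import Cfsg.Agent.HexGlob.CenZMain
import Cfsg.Agent.HexGlob.OddAct
import Cfsg.Agent.HexGlob.CharTwo
import Cfsg.Agent.HexGlob.Invol
import Cfsg.Agent.HexGlob.PiOne
import Cfsg.Agent.HexRec.FromLev

/-!
# Assembly of the global analysis

For a simple group whose Sylow 2-subgroup has hexagonal coordinates: all the pieces give `Lev`, hence a generating
frame.  The two remaining pieces (`Out1`, `OutP2`) are hypotheses.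
-/

set_option autoImplicit false

namespace Cfsg.Agent.HexGlob.Assemble

open Cfsg.Agent.HexRec Cfsg.Agent.HexEss Cfsg.Agent.HexGlob Subgroup
open Cfsg.Agent.TypeL3 Cfsg.Agent.HexGlob.MinPlus

universe u v

variable {F K : Type v} [Field F] [Field K] [Algebra F K] {C : Cubic F K}
variable {G : Type u} [Group G] [Finite G] {S : Sylow 2 G}

theorem outNS (hD : Dat C) (co : Coord C (S : Subgroup G)) : OutNS S co where
  nDa := Facts.le_normalizer_Da_of_P hD le_rfl
  nDb := Facts.le_normalizer_Db_of_P hD le_rfl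
  nZ := Facts.le_normalizer_Z_of_P le_rfl
  nE2 := Facts.le_normalizer_E2_of_P hD le_rfl
  nRR := Facts.le_normalizer_RR_of_P hD le_rfl

/-- the statement of piece E -/
def HOut1 (C : Cubic F K) (S : Sylow 2 G) : Prop := ∀ co : Coord C (S : Subgroup G),
  Lib.EssDefs.Ess 2 (S : Subgroup G) (Da co) →
  ¬ normalizer ((Da co : Subgroup G) : Set G) ≤ normalizer ((E2 co : Subgroup G) : Set G) →
  normalizer ((S : Subgroup G) : Set G) ≤ normalizer ((F0 co : Subgroup G) : Set G) → Out1 S co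

/-- the statement of piece I2 -/
def HOutP2 (C : Cubic F K) (S : Sylow 2 G) : Prop := ∀ co : Coord C (S : Subgroup G),
  Lib.EssDefs.Ess 2 (S : Subgroup G) (Db co) → Out1 S co → Out2 S co →
  centralizer ((Da co : Subgroup G) : Set G) ≤ Da co → centralizer ((Db co : Subgroup G) : Set G) ≤ Db co →
  OutP2 S co

theorem exists_lev [IsSimpleGroup G] (hD : Dat C) (co : Coord C (S : Subgroup G))
    (h1169 : H1169.{u}) (h1171 : H1171.{u}) (h1296 : H1296.{u}) (hbend : HBend.{u}) (hB : SLQuot.Bender.{u})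
    (hO1 : HOut1 C S) (hO2 : HOutP2 C S) : ∃ co1 : Coord C (S : Subgroup G), Nonempty (Lev S co1) := by
  have hE : HEss.{u} C := hD.hEss
  obtain ⟨co1, -, -, -, -, -, h2⟩ := TwoOut.exists_out2 co hD (EssBoth.not_le_normalizer_Z h1169 hD hE co)
  have hns := outNS hD co1
  have h1 : Out1 S co1 := hO1 co1 (EssBoth.ess_Da h1169 hD hE co1)
    (EssBoth.not_le_normalizer_E2 h1169 hD hE co1) (hns.nDb.trans h2.inv)
  have hz : OutZ S co1 := CenZ.outZ h1169 h1171 hbend hD (OddAct.allOdd hD) h1 h2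
  have hc := CharTwo.out h1169 h1171 h1296 hbend hD hE h1 h2 hz
  have hi : OutInv S co1 := Invol.outInv hD hE h1 h2
  have hp1 : OutP1 S co1 := PiOne.outP1 hB hD (EssBoth.ess_Da h1169 hD hE co1) h1 hc.cen.cDa
  have hp2 : OutP2 S co1 := hO2 co1 (EssBoth.ess_Db h1169 hD hE co1) h1 h2 hc.cen.cDa hc.cen.cDb
  exact ⟨co1, Close.exists_lev h1 h2 hi hc.cen hns hp1 hp2⟩

/-- **the generating frame** -/
theorem exists_frame [IsSimpleGroup G] [Finite F] [Finite K] (hD : Dat C) (co : Coord C (S : Subgroup G))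
    (h1169 : H1169.{u}) (h1171 : H1171.{u}) (h1296 : H1296.{u}) (hbend : HBend.{u}) (hB : SLQuot.Bender.{u})
    (hO1 : HOut1 C S) (hO2 : HOutP2 C S) :
    ∃ Φ : Frame C G, Subgroup.closure ((Φ.S : Set G) ∪ {Φ.na, Φ.nb}) = ⊤ ∧ Φ.S = (S : Subgroup G) := by
  obtain ⟨co1, ⟨Λ⟩⟩ := exists_lev hD co h1169 h1171 h1296 hbend hB hO1 hO2
  exact FromLev.exists_frame hD Λ

end Cfsg.Agent.HexGlob.Assemble
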