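import Cfsg.Agent.HexGlob.MinPlus
import Cfsg.Agent.StrongEmb.Split

/-!
# `HBend` from Bender's theorem for simple groups (`StrongEmb.Strong.exists_isSplit`)
-/

set_option autoImplicit false

namespace Cfsg.Agent.HexGlob.Bend

open Subgroup Cfsg.Agent.Lib.GoldschmidtFusion Cfsg.Agent.TypeL3 Cfsg.Agent.HexGlob.MinPlus
open Cfsg.Agent.TwoFusion.StronglyEmbeddedBasic
open Cfsg.Agent.StrongEmb.Split

universe u

/-- a normal 2-subgroup of a strongly embedded `H`, transitive on the other cosets, is a Sylow 2-subgroup -/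
theorem exists_sylow_of_isSplit {X : Type u} [Group X] [Finite X] {H Q : Subgroup X}
    (hH : Cfsg.IsStronglyEmbedded H) (hQ : IsSplit H Q) (hQp : IsPGroup 2 Q) :
    ∃ P : Sylow 2 X, (P : Subgroup X) ≤ H ∧ H ≤ normalizer ((P : Subgroup X) : Set X) := by
  have hn : H ≤ normalizer (Q : Set X) := (normal_subgroupOf_iff_le_normalizer hQ.le).1 hQ.normal
  obtain ⟨g, hg⟩ : ∃ g : X, g ∉ H := by
    by_contra h0
    push Not at h0
    exact hH.1 ((Subgroup.eq_top_iff' H).2 h0)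
  have hodd := hH.2.2 g hg
  -- `H = Q (H ∩ gHg⁻¹)`
  have hfac : ∀ h ∈ H, ∃ u ∈ Q, ∃ d ∈ H ⊓ H.map (MulAut.conj g).toMonoidHom, h = u * d := by
    intro h hh
    have hhg : h * g ∉ H := fun hc => hg ((H.mul_mem_cancel_left hh).1 hc)
    obtain ⟨u, hu, h1⟩ := hQ.trans g (h * g) hg hhg
    refine ⟨u, hu, u⁻¹ * h, mem_inf.2 ⟨mul_mem (inv_mem (hQ.le hu)) hh, ?_⟩, by group⟩
    rw [mem_map_conj]
    have h2 := inv_mem h1
    convert h2 using 1
    group
  -- a 2-subgroup of `H` containing `Q` is `Q`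
  have hmax : ∀ T : Subgroup X, IsPGroup 2 T → Q ≤ T → T ≤ H → T ≤ Q := by
    intro T hT hQT hTH x hx
    obtain ⟨u, hu, d, hd, e⟩ := hfac x (hTH hx)
    have hdT : d ∈ T := by
      have : d = u⁻¹ * x := by rw [e]; group
      rw [this]
      exact mul_mem (inv_mem (hQT hu)) hx
    obtain ⟨k, hk⟩ := hT ⟨d, hdT⟩
    have hk' : d ^ 2 ^ k = 1 := congrArg Subtype.val hk
    have h1 : orderOf d ∣ 2 ^ k := orderOf_dvd_of_pow_eq_one hk'
    have h2 : orderOf d ∣ Nat.card ↥(H ⊓ H.map (MulAut.conj g).toMonoidHom) := by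
      have := orderOf_dvd_natCard (⟨d, hd⟩ : ↥(H ⊓ H.map (MulAut.conj g).toMonoidHom))
      rwa [← Subgroup.orderOf_coe] at this
    have h3 : Nat.Coprime (Nat.card ↥(H ⊓ H.map (MulAut.conj g).toMonoidHom)) (2 ^ k) :=
      Nat.Coprime.pow_right k (Nat.coprime_two_right.2 hodd)
    have h4 : orderOf d ∣ 1 := by
      rw [← h3]
      exact Nat.dvd_gcd h2 h1
    have h5 : d = 1 := orderOf_eq_one_iff.1 (Nat.dvd_one.1 h4)
    rw [e, h5, mul_one]
    exact hu
  -- `Q` contains an involution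
  obtain ⟨t, htH, ht2⟩ := exists_involution hH
  have hQne : ∃ s ∈ Q, orderOf s = 2 := by
    -- `Q⟨t⟩` is a 2-group in `H`
    have hsup : IsPGroup 2 (zpowers t ⊔ Q : Subgroup X) := by
      have h1 : zpowers t ≤ normalizer (Q : Set X) := (zpowers_le.2 htH).trans hn
      exact (IsPGroup.of_card (p := 2) (n := 1) (G := zpowers t)
        (by rw [Nat.card_zpowers, ht2, pow_one])).to_sup_of_normal_right' hQp h1
    exact ⟨t, hmax _ hsup le_sup_right (sup_le (zpowers_le.2 htH) hQ.le) (mem_sup_left (mem_zpowers t)), ht2⟩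
  obtain ⟨s, hs, hs2⟩ := hQne
  obtain ⟨P, hP⟩ := hQp.exists_le_sylow
  have hPQ : (P : Subgroup X) = Q := by
    by_contra hne
    have hlt : Q < (P : Subgroup X) := lt_of_le_of_ne hP (fun h => hne h.symm)
    have h1 := lt_inf_normalizer P.isPGroup' hlt
    apply h1.not_ge
    apply hmax _ (P.isPGroup'.to_le inf_le_left) (le_inf hP le_normalizer)
    intro x hx
    have hxQ := conj_mem_of_mem_normalizer (mem_inf.1 hx).2 hs
    exact mem_of_conj_mem hH (hQ.le hs) hs2 (hQ.le hxQ)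
  exact ⟨P, hPQ ▸ hQ.le, hPQ ▸ hn⟩

/-- the hypothesis `HBend` from the existence of a regular normal 2-subgroup -/
theorem hbend_of_exists_isSplit
    (h : ∀ (X : Type u) [Group X] [Finite X] [IsSimpleGroup X], (∃ a b : X, a * b ≠ b * a) →
      ∀ H : Subgroup X, Cfsg.IsStronglyEmbedded H → ∃ Q : Subgroup X, IsSplit H Q ∧ IsPGroup 2 Q) :
    HBend.{u} := by
  intro X _ _ _ hna H hH
  obtain ⟨Q, hQ, hQp⟩ := h X hna H hH
  exact exists_sylow_of_isSplit hH hQ hQp

end Cfsg.Agent.HexGlob.Bend
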