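import Cfsg.Agent.HexGlob.CenZSpec
import Cfsg.Agent.HexEss.Abel

/-!
# Conditions on the cubic data

`Mild C`: what is needed about `C` in the analysis of the components of `C_G(z) / O(C_G(z))`; it holds for
`q ≥ 4` (`Dat.mild`) and for `q = 2`, `(K : F) = 3` (`mild_of_two`).
-/

set_option autoImplicit false

namespace Cfsg.Agent.HexGlob.CenZ

open Cfsg.Agent.HexRec Cfsg.Agent.HexEss Cfsg.Agent.HexGlob Subgroup
open Cfsg.Agent.HexEss.Abel
open scoped commutatorElement

universe u v

variable {F K : Type v} [Field F] [Field K] [Algebra F K] {C : Cubic F K}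

/-- conditions on the cubic data: `Z₂(P) = E2`; no faithful action of `(K, +)` on at most `1 + (K : F)` points -/
structure Mild (C : Cubic F K) : Prop where
  z2 : ∀ a3 a5 : K, (∀ t : K, C.T t a3 + C.T (C.sh t) a5 = 0) → a5 = 0
  sym : ∀ (Ω : Type u) [Finite Ω], Nat.card Ω ≤ 1 + Module.finrank F K →
    ∀ f : K → Equiv.Perm Ω, (∀ t s, f (t + s) = f t * f s) → ¬ Function.Injective f

section

variable {G : Type u} [Group G] [Finite G] {P : Subgroup G} {co : Coord C P}

/-- `E2 = Z₂(P)` -/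
theorem Mild.mem_E2 (hD : Mild.{u} C) {x : G} (hx : x ∈ P) (h : ∀ y ∈ P, cm y x ∈ Z co) : x ∈ E2 co := by
  have h1 : (cx co x).a1 = 0 := mem_F0_of_comm hx (fun y hy => Facts.cm_mem_swap.1 (h y hy.1))
  have h6 : (cx co x).a6 = 0 := by
    obtain ⟨y, hy, hyc⟩ := exists_cx (co := co) ⟨1, 0, 0, 0, 0, 0⟩
    have h2 := a5_cm_Da (co := co) hy hx h1
    rw [(h y hy).2.2.2.2.1, hyc] at h2
    rcases smul_eq_zero.1 h2.symm with h3 | h3
    · exact h3
    · exact absurd h3 one_ne_zero
  have key : ∀ t : K, C.T t (cx co x).a3 + C.T (C.sh t) (cx co x).a5 = 0 := by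
    intro t
    obtain ⟨y, hy, hyc⟩ := exists_cx (co := co) ⟨t, 0, 0, 0, 0, 0⟩
    have h2 := a2_cm_R (co := co) hy hx h1 h6
    rw [(h y hy).2.2.1, hyc] at h2
    exact h2.symm
  have h5 : (cx co x).a5 = 0 := hD.z2 _ _ key
  refine ⟨hx, h1, ?_, h5, h6⟩
  apply C.T_nondeg
  intro t
  have e1 := key t
  rw [h5, C.T_zero_right, add_zero] at e1
  rw [C.T_comm]; exact e1

/-- `Z ≤ P'` -/
theorem Z_le_commutator : Z co ≤ ⁅P, P⁆ := by
  intro z hz
  obtain ⟨k, hk⟩ := C.exists_T_eq (one_ne_zero (α := K)) (cx co z).a4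
  obtain ⟨x, hx, hxc⟩ := exists_cx (co := co) ⟨0, 0, 0, 0, 1, 0⟩
  obtain ⟨y, hy, hyc⟩ := exists_cx (co := co) ⟨0, 0, k, 0, 0, 0⟩
  have hx' : x ∈ Da co := ⟨hx, by rw [hxc]⟩
  have hy' : y ∈ Da co := ⟨hy, by rw [hyc]⟩
  have h1 := cm_mem_Z_of_Da hx' hy'
  have : cm x y = z := by
    apply cx_inj (co := co) h1.1 hz.1
    refine Tup.ext ?_ ?_ ?_ ?_ ?_ ?_
    · rw [h1.2.1, hz.2.1]
    · rw [h1.2.2.1, hz.2.2.1]
    · rw [h1.2.2.2.1, hz.2.2.2.1]
    · rw [a4_cm_Da_Da hx hy hx'.2 hy'.2, hxc, hyc]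
      simpa [C.T_zero_left, C.T_zero_right] using hk
    · rw [h1.2.2.2.2.1, hz.2.2.2.2.1]
    · rw [h1.2.2.2.2.2, hz.2.2.2.2.2]
  rw [← this]
  exact commutator_mem_commutator hx hy

end

/-- the first condition for `(K : F) ≠ 1` -/
theorem z2_of_finrank (hC : Reg C) (h3 : Module.finrank F K = 3) (a3 a5 : K)
    (h : ∀ t : K, C.T t a3 + C.T (C.sh t) a5 = 0) : a5 = 0 := by
  by_contra h5
  have h1 : ∀ t s : K, C.T (C.cr t s) a5 = 0 := by
    intro t s
    have e1 := h t
    have e2 := h s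
    have e3 := h (t + s)
    rw [C.T_add_left, C.sh_add', C.T_add_left, C.T_add_left] at e3
    linear_combination e3 - e1 - e2
  have h2 : ∀ s : K, ∃ f : F, s = f • a5 := by
    intro s
    apply exists_smul_of_cr_eq_zero hC h5
    apply C.T_nondeg
    intro t
    rw [C.T_comm, C.cr_comm, ← C.T_cr]
    exact h1 t s
  have h4 : Module.finrank F K ≤ 1 := by
    apply finrank_le_one a5
    intro w
    obtain ⟨f, hf⟩ := h2 w
    exact ⟨f, hf.symm⟩
  omega

/-- the first condition for `q ≥ 4` -/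
theorem z2_of_scalar (hs : ∃ l : F, l ≠ 0 ∧ l ≠ 1) (a3 a5 : K)
    (h : ∀ t : K, C.T t a3 + C.T (C.sh t) a5 = 0) : a5 = 0 := by
  obtain ⟨l, hl0, hl1⟩ := hs
  apply Facts.eq_zero_of_T_sh (C := C)
  intro t
  have e1 := h t
  have e2 := h (l • t)
  rw [C.sh_smul, C.T_smul_left, C.T_smul_left] at e2
  have e3 : l * (l + 1) * C.T (C.sh t) a5 = 0 := by
    have := charPF C
    linear_combination e2 - l * e1 + l * C.T (C.sh t) a5 * C.two_F
  rcases mul_eq_zero.1 e3 with h2 | h2
  · exfalso
    rcases mul_eq_zero.1 h2 with h3 | h3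
    · exact hl0 h3
    · exact hl1 (C.eq_of_add_eq_zero h3)
  · exact h2

/-- the conditions hold for `q ≥ 4` -/
theorem _root_.Cfsg.Agent.HexGlob.Dat.mild (hD : Dat C) : Mild.{u} C where
  z2 := z2_of_scalar (Facts.exists_scalar hD)
  sym := by
    intro Ω _ hΩ f _ hinj
    have hF := Facts.finite_F hD
    have hK : Finite K := by
      rcases hD.deg with hs | h3
      · exact Finite.of_surjective _ hs
      · have : Module.Finite F K := Module.finite_of_finrank_pos (by omega)
        exact Module.finite_of_finite F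
    have h2 := Nat.card_le_card_of_injective _ hinj
    rw [Nat.card_perm] at h2
    have h4 := hD.q4
    have h5 : Nat.card F ≤ Nat.card K := Nat.card_le_card_of_injective _ (algebraMap F K).injective
    rcases hD.deg with hs | h6
    · have h7 : Module.finrank F K ≤ 1 := by
        apply finrank_le_one (1 : K)
        intro w
        obtain ⟨f, hf⟩ := hs w
        exact ⟨f, by rw [← Algebra.algebraMap_eq_smul_one, hf]⟩
      have h8 : Nat.factorial (Nat.card Ω) ≤ Nat.factorial 2 := Nat.factorial_le (by omega)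
      have h9 : Nat.factorial 2 = 2 := rfl
      omega
    · have h8 : Nat.factorial (Nat.card Ω) ≤ Nat.factorial 4 := Nat.factorial_le (by omega)
      have h9 : Nat.factorial 4 = 24 := rfl
      have h10 : Nat.card K = Nat.card F ^ 3 := by
        rw [Module.natCard_eq_pow_finrank (K := F) (V := K), h6]
      have h11 : 4 ^ 3 ≤ Nat.card F ^ 3 := Nat.pow_le_pow_left h4 3
      omega

/-- a group of exponent two and order eight does not act faithfully on four points -/
theorem not_injective_of_card (hK : Nat.card K = 8) (h2 : ∀ t : K, t + t = 0) {Ω : Type u} [Finite Ω]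
    (hΩ : Nat.card Ω ≤ 4) (f : K → Equiv.Perm Ω) (hf : ∀ t s, f (t + s) = f t * f s) :
    ¬ Function.Injective f := by
  intro hinj
  -- extend to four points
  have : Finite K := Nat.finite_of_card_ne_zero (by omega)
  obtain ⟨g⟩ : Nonempty (Ω ↪ Fin 4) := by
    have := Fintype.ofFinite Ω
    rw [Nat.card_eq_fintype_card] at hΩ
    exact Function.Embedding.nonempty_of_card_le (by simpa using hΩ)
  let φ : Multiplicative K →* Equiv.Perm (Fin 4) :=
    (Equiv.Perm.viaEmbeddingHom g).comp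
      { toFun := fun t => f t.toAdd
        map_one' := by
          have h1 := hf 0 0
          rw [add_zero] at h1
          exact left_eq_mul.1 h1
        map_mul' := fun a b => hf a.toAdd b.toAdd }
  have hφ : Function.Injective φ := by
    intro a b hab
    have h1 := Equiv.Perm.viaEmbeddingHom_injective g hab
    exact hinj h1
  have hr : Nat.card φ.range = 8 := by
    rw [← Nat.card_congr (MonoidHom.ofInjective hφ).toEquiv]
    exact hK
  have hcard : Nat.card (Equiv.Perm (Fin 4)) = 24 := by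
    rw [Nat.card_perm, Nat.card_eq_fintype_card, Fintype.card_fin]; rfl
  have hp : Fact (Nat.Prime 2) := ⟨Nat.prime_two⟩
  -- the range is a Sylow subgroup
  have hidx : ¬ 2 ∣ φ.range.index := by
    have h1 := φ.range.card_mul_index
    rw [hr, hcard] at h1
    omega
  have hPg : IsPGroup 2 φ.range := IsPGroup.of_card (n := 3) hr
  let Q : Sylow 2 (Equiv.Perm (Fin 4)) := hPg.toSylow hidx
  let c : Equiv.Perm (Fin 4) := finRotate 4
  have hc4 : c ^ 4 = 1 := by decide
  have hc2 : c * c ≠ 1 := by decide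
  have hcp : IsPGroup 2 (Subgroup.zpowers c) := by
    apply IsPGroup.of_card (n := 2)
    rw [Nat.card_zpowers]
    have h1 : orderOf c ∣ 2 ^ 2 := orderOf_dvd_of_pow_eq_one hc4
    obtain ⟨j, hj, hj'⟩ := (Nat.dvd_prime_pow Nat.prime_two).1 h1
    interval_cases j
    · exfalso
      apply hc2
      rw [pow_zero, orderOf_eq_one_iff] at hj'
      rw [hj', one_mul]
    · exfalso
      apply hc2
      rw [← pow_two, ← orderOf_dvd_iff_pow_eq_one, hj']
      exact dvd_refl _
    · exact hj'
  obtain ⟨Q', hQ'⟩ := hcp.exists_le_sylow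
  obtain ⟨x, hx⟩ := MulAction.exists_smul_eq (Equiv.Perm (Fin 4)) Q' Q
  have h1 : x * c * x⁻¹ ∈ (Q : Subgroup (Equiv.Perm (Fin 4))) := by
    rw [← hx]
    exact ⟨c, hQ' (Subgroup.mem_zpowers c), rfl⟩
  have h3 : x * c * x⁻¹ ∈ φ.range := h1
  obtain ⟨t, ht⟩ := h3
  have h4 : (x * c * x⁻¹) * (x * c * x⁻¹) = 1 := by
    rw [← ht, ← map_mul]
    have : t * t = 1 := h2 t.toAdd
    rw [this, map_one]
  apply hc2
  have h5 : c * c = x⁻¹ * ((x * c * x⁻¹) * (x * c * x⁻¹)) * x := by group
  rw [h5, h4]; group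

/-- the conditions hold for `q = 2`, `(K : F) = 3` -/
theorem mild_of_two (hC : Reg C) (hF : Nat.card F = 2) (h3 : Module.finrank F K = 3) : Mild.{u} C where
  z2 := z2_of_finrank hC h3
  sym := by
    intro Ω _ hΩ f hf
    have : Finite F := Nat.finite_of_card_ne_zero (by omega)
    have : Module.Finite F K := Module.finite_of_finrank_pos (by omega)
    refine not_injective_of_card ?_ C.add_selfK (by omega) f hf
    rw [Module.natCard_eq_pow_finrank (K := F) (V := K), h3, hF]
    norm_num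

end Cfsg.Agent.HexGlob.CenZ
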