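import Cfsg.Agent.HexGlob.CenZMild
import Cfsg.Agent.HexEss.Abel
import Cfsg.Agent.SignalizersComponents.CompBasic
import Cfsg.Agent.S0542
import Cfsg.Agent.S1265
import Cfsg.Agent.TwoFusion.FStarControl

/-!
# `C_G(z) / O(C_G(z))`, first part

`Z` is normal in `X = C_G(z) / O(C_G(z))` and commutes with every component of `X`.
-/

set_option autoImplicit false

namespace Cfsg.Agent.HexGlob.CenZ

open Cfsg.Agent.HexRec Cfsg.Agent.HexEss Cfsg.Agent.HexGlob Subgroup Cfsg.Agent.Lib.GoldschmidtFusion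
open scoped commutatorElement

universe u v

/-- the facts about components which are used (piece A) -/
structure Tools : Prop where
  a1k : ∀ (X : Type u) [Group X] [Finite X], Cfsg.oddCore X = ⊥ → ∀ (P : Sylow 2 X) (K : Subgroup X),
    Cfsg.IsComponent K → ∀ A : Subgroup X, Cfsg.IsStronglyClosed A (P : Subgroup X) →
    (∀ x ∈ A, ∀ y ∈ A, x * y = y * x) → (∀ x ∈ A, x * x = 1) → ¬ A ⊓ K ≤ centralizer (K : Set X) →
    ∀ t ∈ (P : Subgroup X) ⊓ K, t * t ∈ centralizer (K : Set X) →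
    (∃ a ∈ A ⊓ K, ∃ c ∈ K ⊓ centralizer (K : Set X), t = a * c) ∧
      ∀ p ∈ (P : Subgroup X) ⊓ K, cm t p ∈ centralizer (K : Set X)
  a2 : ∀ (X : Type u) [Group X] [Finite X], Cfsg.oddCore X = ⊥ → ∀ (P : Sylow 2 X) (K : Subgroup X),
    Cfsg.IsComponent K → (P : Subgroup X) ≤ normalizer (K : Set X) →
    (P : Subgroup X) ⊓ K ≤ centralizer ((P : Subgroup X) : Set X) →
    (P : Subgroup X) ⊓ K ≤ ⁅(P : Subgroup X), (P : Subgroup X)⁆ → False
  a3 : ∀ (X : Type u) [Group X] [Finite X], Cfsg.oddCore X = ⊥ → ∀ (P : Sylow 2 X) (K : Subgroup X),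
    Cfsg.IsComponent K → ∀ A : Subgroup X, Cfsg.IsStronglyClosed A (P : Subgroup X) → ∀ a ∈ A,
    (∀ k ∈ A ⊓ K, ∀ K' : Subgroup X, Cfsg.IsComponent K' → k * a * k⁻¹ * a⁻¹ ∈ centralizer (K' : Set X)) →
    K.map (MulAut.conj a).toMonoidHom = K
  a4 : ∀ (X : Type u) [Group X] [Finite X], Cfsg.oddCore X = ⊥ → ∀ (P : Sylow 2 X) (K : Subgroup X),
    Cfsg.IsComponent K → ∀ A : Subgroup X, Cfsg.IsStronglyClosed A (P : Subgroup X) →
    A ≤ normalizer (K : Set X) → A ⊓ K ≤ centralizer (K : Set X) → A ≤ centralizer (K : Set X)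

section comp

variable {X : Type u} [Group X]

theorem conj_mem_centralizer {K : Subgroup X} {p c : X} (hp : p ∈ normalizer (K : Set X))
    (hc : c ∈ centralizer (K : Set X)) : p * c * p⁻¹ ∈ centralizer (K : Set X) := by
  rw [mem_centralizer_iff] at hc ⊢
  intro k hk
  have h1 : p⁻¹ * k * p ∈ K := by
    have := (mem_normalizer_iff.1 (inv_mem hp) k).1 hk
    rwa [inv_inv] at this
  have h2 := hc _ h1
  calc k * (p * c * p⁻¹) = p * ((p⁻¹ * k * p) * c) * p⁻¹ := by group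
    _ = p * c * p⁻¹ * k := by rw [h2]; group

/-- if `K^g` is different from `K` it is centralised by `K` -/
theorem mem_centralizer_of_conj_ne {K : Subgroup X} (hK : Cfsg.IsComponent K) {g x : X}
    (hne : K.map (MulAut.conj g).toMonoidHom ≠ K) (hx : x ∈ K.map (MulAut.conj g).toMonoidHom) :
    x ∈ centralizer (K : Set X) :=
  SignalizersComponents.Components.component_le_centralizer_of_ne
    (SignalizersComponents.Components.isComponent_conj g hK) hK hne hx

variable [Finite X]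

/-- Sylow 2-subgroups of components are not central -/
theorem not_inf_le {P : Sylow 2 X} {K : Subgroup X} (hcore : Cfsg.oddCore X = ⊥) (hK : Cfsg.IsComponent K) :
    ¬ (P : Subgroup X) ⊓ K ≤ centralizer (K : Set X) := by
  intro hle
  obtain ⟨Q, hQ⟩ := Cfsg.Agent.S0542.result 2 K hK.1 P
  have h1 : (Q : Subgroup K) ≤ center K := by
    intro x hx
    rw [hQ, mem_subgroupOf] at hx
    have h2 := mem_centralizer_iff.1 (hle (mem_inf.2 ⟨hx, x.2⟩))
    exact mem_center_iff.2 fun g => Subtype.ext (h2 g g.2)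
  by_cases hd : 2 ∣ Nat.card K
  · exact SignalizersComponents.CompBasic.sylow_not_le_center_of_perfect hK.2.1 2 hd Q h1
  · have h2 : (Nat.card K).Coprime 2 :=
      (Nat.coprime_comm.1 ((Nat.Prime.coprime_iff_not_dvd Nat.prime_two).2 hd))
    have h3 := Cfsg.Agent.SignalizersComponents.CompBasic.subnormal_coprime_le_pPrimeCore hK.1 h2
    have h4 : K = ⊥ := le_bot_iff.1 (h3.trans hcore.le)
    exact SignalizersComponents.Components.component_ne_bot hK h4

/-- `F(X) ≤ O_2(X)` if `O(X) = 1` -/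
theorem fitting_le_pCore (hcore : Cfsg.oddCore X = ⊥) : Cfsg.fittingSubgroup X ≤ Cfsg.pCore 2 X := by
  rw [Cfsg.Agent.Lib.Cores.fittingSubgroup_eq_iSup_pCore]
  refine iSup_le fun p => ?_
  by_cases hp : (p : ℕ) = 2
  · rw [hp]
  · have h1 : Cfsg.pCore (p : ℕ) X ≤ Cfsg.pPrimeCore 2 X := by
      apply Cfsg.Agent.Lib.Cores.le_pPrimeCore (Cfsg.Agent.Lib.Cores.pCore_normal _)
      have := Fact.mk p.2
      obtain ⟨n, hn⟩ := IsPGroup.iff_card.1 (Cfsg.Agent.Lib.Cores.pCore_isPGroup (G := X) (p : ℕ))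
      rw [hn]
      exact Nat.Coprime.pow_left _ ((Nat.coprime_primes p.2 Nat.prime_two).2 hp)
    have h2 : Cfsg.pPrimeCore 2 X = ⊥ := hcore
    rw [h2] at h1
    exact h1.trans bot_le

/-- a subgroup of a Sylow 2-subgroup which centralises all components and `O_2(X)` lies in `O_2(X)` -/
theorem le_pCore_of_centralizes (hcore : Cfsg.oddCore X = ⊥) {A : Subgroup X} (hA : IsPGroup 2 A)
    (h1 : ∀ K : Subgroup X, Cfsg.IsComponent K → A ≤ centralizer (K : Set X))
    (h2 : A ≤ centralizer ((Cfsg.pCore 2 X : Subgroup X) : Set X)) : A ≤ Cfsg.pCore 2 X := by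
  set FS := Cfsg.generalizedFittingSubgroup X with hFS
  have hn : FS.Normal := Cfsg.Agent.TwoFusion.FStarControl.genFitting_normal X
  have hA1 : A ≤ centralizer (FS : Set X) := by
    rw [le_centralizer_iff, hFS, Cfsg.generalizedFittingSubgroup]
    apply sup_le
    · rw [SignalizersComponents.Components.layer_le_iff]
      intro K hK
      rw [le_centralizer_iff]
      exact h1 K hK
    · refine (fitting_le_pCore hcore).trans ?_
      rw [le_centralizer_iff]
      exact h2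
  have hle : centralizer (FS : Set X) ≤ FS := Cfsg.Agent.S1265.result
  have hcn : (centralizer (FS : Set X)).Normal := Subgroup.normal_centralizer
  refine SignalizersComponents.CompBasic.subnormal_pGroup_le_pCore ?_ hA
  refine Subgroup.IsSubnormal.step A (centralizer (FS : Set X)) hA1 hcn.isSubnormal ?_
  refine ⟨?_⟩
  intro n hn' g
  rw [mem_subgroupOf] at hn' ⊢
  have h3 : (n : X) ∈ centralizer (FS : Set X) := n.2
  have h4 := mem_centralizer_iff.1 h3 g (hle g.2)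
  have h5 : ((g * n * g⁻¹ : centralizer (FS : Set X)) : X) = n := by
    show (g : X) * n * (g : X)⁻¹ = n
    rw [h4, mul_inv_cancel_right]
  rw [h5]
  exact hn'

end comp

/-! ### `P` -/

variable {F K : Type v} [Field F] [Field K] [Algebra F K] {C : Cubic F K}

section coord

variable {X : Type u} [Group X] [Finite X] {P : Subgroup X} {co : Coord C P}

/-- `[v, P] = Z` for `v ∈ E2 \ Z` -/
theorem exists_cm_eq {v z : X} (hv : v ∈ E2 co) (hvZ : v ∉ Z co) (hz : z ∈ Z co) : ∃ p ∈ P, cm p v = z := by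
  have hv2 : (cx co v).a2 ≠ 0 := by
    intro h0
    exact hvZ ⟨hv.1, hv.2.1, h0, hv.2.2.1, hv.2.2.2.1, hv.2.2.2.2⟩
  obtain ⟨p, hp, hpc⟩ := exists_cx (co := co) ⟨0, 0, 0, 0, 0, (cx co z).a4 / (cx co v).a2⟩
  refine ⟨p, hp, ?_⟩
  have h' := cm_mem_Z (co := co) hp hv
  apply cx_inj (co := co) h'.1 hz.1
  refine Tup.ext ?_ ?_ ?_ ?_ ?_ ?_
  · rw [h'.2.1, hz.2.1]
  · rw [h'.2.2.1, hz.2.2.1]
  · rw [h'.2.2.2.1, hz.2.2.2.1]
  · rw [a4_cm_F0 hp hv.1 hv.2.1 hv.2.2.2.1 hv.2.2.2.2, hpc, C.T_zero_left, add_zero,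
      div_mul_cancel₀ _ hv2]
  · rw [h'.2.2.2.2.1, hz.2.2.2.2.1]
  · rw [h'.2.2.2.2.2, hz.2.2.2.2.2]

/-- a normal subgroup of `P` not contained in `Z` meets `E2` outside `Z` -/
theorem exists_mem_E2 (hD : Mild.{u} C) {N : Subgroup X} (hN : N ≤ P) (hPN : P ≤ normalizer (N : Set X))
    (hNZ : ¬ N ≤ Z co) : ∃ v ∈ N, v ∈ E2 co ∧ v ∉ Z co := by
  have hcm : ∀ y ∈ P, ∀ x ∈ N, cm y x ∈ N := fun y hy x hx =>
    mul_mem (conj_mem_of_le hPN hy hx) (inv_mem hx)
  have step : ∀ x ∈ N, x ∉ E2 co → ∃ y ∈ P, cm y x ∉ Z co := by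
    intro x hx hxE
    by_contra hcon
    push Not at hcon
    exact hxE (hD.mem_E2 (hN hx) hcon)
  obtain ⟨x, hx, hxZ⟩ := SetLike.not_le_iff_exists.1 hNZ
  by_cases hxE : x ∈ E2 co
  · exact ⟨x, hx, hxE, hxZ⟩
  obtain ⟨y, hy, h1⟩ := step x hx hxE
  by_cases h1E : cm y x ∈ E2 co
  · exact ⟨_, hcm y hy x hx, h1E, h1⟩
  obtain ⟨y', hy', h2⟩ := step _ (hcm y hy x hx) h1E
  have h2F : cm y' (cm y x) ∈ F0 co := cm_mem_F0 hy' (cm_mem_RR hy (hN hx))
  by_cases h2E : cm y' (cm y x) ∈ E2 co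
  · exact ⟨_, hcm y' hy' _ (hcm y hy x hx), h2E, h2⟩
  obtain ⟨y'', hy'', h3⟩ := step _ (hcm y' hy' _ (hcm y hy x hx)) h2E
  exact ⟨_, hcm y'' hy'' _ (hcm y' hy' _ (hcm y hy x hx)), cm_mem_E2 hy'' h2F, h3⟩

end coord

variable {X : Type u} [Group X] [Finite X] {P : Sylow 2 X} {co : Coord C (P : Subgroup X)} {L : Subgroup X}

theorem comm_Z {z p : X} (hz : z ∈ Z co) (hp : p ∈ (P : Subgroup X)) : p * z = z * p :=
  cm_eq_one.1 (cm_Z hp hz)

/-- `Z ∩ K` is central in `K` -/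
theorem CZ.Z_inf_le (T : Tools.{u}) (hD : Mild.{u} C) (h : CZ P co L) {K : Subgroup X} (hK : Cfsg.IsComponent K) :
    Z co ⊓ K ≤ centralizer (K : Set X) := by
  by_contra hcon
  -- `P` normalises `K`
  have hPK : (P : Subgroup X) ≤ normalizer (K : Set X) := by
    intro p hp
    rw [mem_normalizer_iff_map_conj]
    by_contra hne
    apply hcon
    intro z hz
    obtain ⟨hzZ, hzK⟩ := mem_inf.1 hz
    refine mem_centralizer_of_conj_ne hK hne ?_
    rw [mem_map_conj]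
    have : p⁻¹ * z * p = z := by
      have := comm_Z (co := co) hzZ hp
      rw [mul_assoc, ← this, inv_mul_cancel_left]
    rwa [this]
  have hSle : (P : Subgroup X) ⊓ K ≤ (P : Subgroup X) := inf_le_left
  have hSn : (P : Subgroup X) ≤ normalizer (((P : Subgroup X) ⊓ K : Subgroup X) : Set X) :=
    le_normalizer_inf le_normalizer hPK
  by_cases hSZ : (P : Subgroup X) ⊓ K ≤ Z co
  · refine T.a2 X h.core P K hK hPK ?_ (hSZ.trans Z_le_commutator)
    intro x hx
    exact mem_centralizer_iff.2 fun p hp => comm_Z (hSZ hx) hp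
  · obtain ⟨v, hvS, hvE, hvZ⟩ := exists_mem_E2 hD hSle hSn hSZ
    have hvv : v * v ∈ centralizer (K : Set X) := by
      rw [sq_F0 (E2_le_F0 hvE)]; exact one_mem _
    obtain ⟨⟨a, ha, c, hc, hac⟩, -⟩ := T.a1k X h.core P K hK (Z co) h.closedZ
      (fun x hx y hy => comm_Z (co := co) hy hx.1)
      (fun x hx => sq_F0 (E2_le_F0 (Z_le_E2 hx))) hcon v hvS hvv
    apply hcon
    intro z hz
    obtain ⟨p, hp, hpz⟩ := exists_cm_eq hvE hvZ (mem_inf.1 hz).1
    have h1 : cm p v = a * (p * c * p⁻¹ * c⁻¹) * a⁻¹ := by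
      have := comm_Z (mem_inf.1 ha).1 hp
      rw [hac]
      unfold cm
      calc p * (a * c) * p⁻¹ * (a * c)⁻¹ = (p * a) * c * p⁻¹ * c⁻¹ * a⁻¹ := by group
        _ = a * (p * c * p⁻¹ * c⁻¹) * a⁻¹ := by rw [this]; group
    rw [← hpz, h1]
    have hcC := (mem_inf.1 hc).2
    exact conj_mem_centralizer (le_normalizer (mem_inf.1 ha).2)
      (mul_mem (conj_mem_centralizer (hPK hp) hcC) (inv_mem hcC))

/-- `Z` commutes with every component -/
theorem CZ.Z_comm (T : Tools.{u}) (hD : Mild.{u} C) (h : CZ P co L) {K : Subgroup X} (hK : Cfsg.IsComponent K) :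
    Z co ≤ centralizer (K : Set X) := by
  refine T.a4 X h.core P K hK (Z co) h.closedZ ?_ (h.Z_inf_le T hD hK)
  intro z hz
  rw [mem_normalizer_iff_map_conj]
  by_contra hne
  apply not_inf_le (P := P) h.core hK
  intro x hx
  obtain ⟨hxP, hxK⟩ := mem_inf.1 hx
  refine mem_centralizer_of_conj_ne hK hne ?_
  rw [mem_map_conj]
  have : z⁻¹ * x * z = x := by
    have := comm_Z (co := co) hz hxP
    rw [mul_assoc, this, inv_mul_cancel_left]
  rwa [this]

/-- `Z ≤ O_2(X)` -/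
theorem CZ.Z_le_pCore (T : Tools.{u}) (hD : Mild.{u} C) (h : CZ P co L) : Z co ≤ Cfsg.pCore 2 X := by
  refine le_pCore_of_centralizes h.core (P.isPGroup'.to_le (fun x hx => hx.1)) (fun K hK => h.Z_comm T hD hK) ?_
  intro z hz
  exact mem_centralizer_iff.2 fun p hp => comm_Z hz (Cfsg.Agent.Lib.Cores.pCore_le_sylow P hp)

/-- `Z` is normal in `X` -/
theorem CZ.Z_normal (T : Tools.{u}) (hD : Mild.{u} C) (h : CZ P co L) : (Z co).Normal := by
  refine ⟨fun z hz g => h.closedZ.2 z hz g ?_⟩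
  exact Cfsg.Agent.Lib.Cores.pCore_le_sylow P
    ((Cfsg.Agent.Lib.Cores.pCore_normal 2).conj_mem z (h.Z_le_pCore T hD hz) g)

end Cfsg.Agent.HexGlob.CenZ
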