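import Cfsg.Agent.HexGlob.CenZTwo
import Cfsg.Agent.HexEss.Final

/-!
# The centralizer of an element of `Z` modulo its core: transport

From `G` to `X = C_G(z) / O(C_G(z))` and back: `Goal C → OutZ S co`.
-/

set_option autoImplicit false

namespace Cfsg.Agent.HexGlob.CenZ

open Cfsg.Agent.HexRec Cfsg.Agent.HexEss Cfsg.Agent.HexGlob Subgroup Cfsg.Agent.Lib.GoldschmidtFusion
open Cfsg.Agent.HexEss.Abel
open scoped commutatorElement

universe u v

variable {F K : Type v} [Field F] [Field K] [Algebra F K] {C : Cubic F K}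

/-- fusion is generated by `N(P)`, `N(Da)`, `N(Db)`; `N(P) ≤ N(Da)` -/
structure Fus (C : Cubic F K) : Prop where
  gen : ∀ (X : Type u) [Group X] [Finite X] (P : Sylow 2 X) (co : Coord C (P : Subgroup X)) (A : Subgroup X),
    A ≤ P → ∀ g : X, A.map (MulAut.conj g).toMonoidHom ≤ P →
    Gen (P : Subgroup X) (fun D => D = P ∨ D = Da co ∨ D = Db co) A g
  nDa : ∀ (X : Type u) [Group X] [Finite X] (P : Sylow 2 X) (co : Coord C (P : Subgroup X)),
    normalizer ((P : Subgroup X) : Set X) ≤ normalizer ((Da co : Subgroup X) : Set X)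

theorem _root_.Cfsg.Agent.HexGlob.Dat.fus (hD : Dat C) : Fus.{u} C where
  gen := by
    intro X _ _ P co A hA g hg
    exact Cfsg.Agent.Lib.EssBridge.gen_of_conj P _ (Or.inl rfl)
      (fun _ hX => Or.inr (Final.hEss hD X P co _ hX)) hA hg
  nDa := by
    intro X _ _ P co
    exact Facts.le_normalizer_Da_of_P hD le_rfl

variable {G : Type u} [Group G] [Finite G]

/-- `P` normalises `Da` -/
theorem P_le_normalizer_Da {P : Subgroup G} {co : Coord C P} : P ≤ normalizer ((Da co : Subgroup G) : Set G) := by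
  refine le_normalizer_of fun n hn x hx => ?_
  rw [conj_eq_cm_mul]
  exact mul_mem (show cm n x ∈ Da co from ⟨cm_mem hn hx.1, a1_cm hn hx.1⟩) hx

/-- the image of a subgroup of `G` -/
def im {Cz : Subgroup G} {X : Type u} [Group X] (π : Cz →* X) (A : Subgroup G) : Subgroup X :=
  (A.subgroupOf Cz).map π

omit [Finite G] in
theorem mem_im {Cz : Subgroup G} {X : Type u} [Group X] {π : Cz →* X} {A : Subgroup G} {x : X} :
    x ∈ im π A ↔ ∃ a : Cz, (a : G) ∈ A ∧ π a = x := by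
  unfold im
  rw [mem_map]
  rfl

omit [Finite G] in
theorem im_sup {Cz : Subgroup G} {X : Type u} [Group X] {π : Cz →* X} {A B : Subgroup G} (hA : A ≤ Cz)
    (hB : B ≤ Cz) : im π (A ⊔ B) = im π A ⊔ im π B := by
  unfold im
  rw [subgroupOf_sup hA hB, Subgroup.map_sup]

omit [Finite G] in
theorem im_mono {Cz : Subgroup G} {X : Type u} [Group X] {π : Cz →* X} {A B : Subgroup G} (hAB : A ≤ B) :
    im π A ≤ im π B := Subgroup.map_mono (Subgroup.comap_mono hAB)

/-- the situation: `X` is a quotient of a subgroup `Cz` of `G` containing `S`, by a subgroup of odd order -/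
structure Tr (S : Sylow 2 G) (co : Coord C (S : Subgroup G)) (Cz : Subgroup G) {X : Type u} [Group X] [Finite X]
    (π : Cz →* X) (P : Sylow 2 X) (cX : Coord C (P : Subgroup X)) : Prop where
  S_le : (S : Subgroup G) ≤ Cz
  surj : Function.Surjective π
  P_eq : (P : Subgroup X) = im π S
  inj : ∀ s : Cz, (s : G) ∈ S → π s = 1 → s = 1
  cx : ∀ s : Cz, (s : G) ∈ S → cx cX (π s) = cx co s
  odd : (Nat.card π.ker).Coprime 2

namespace Tr

variable {S : Sylow 2 G} {co : Coord C (S : Subgroup G)} {Cz : Subgroup G} {X : Type u} [Group X] [Finite X]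
  {π : Cz →* X} {P : Sylow 2 X} {cX : Coord C (P : Subgroup X)}

theorem mem_P (h : Tr S co Cz π P cX) {s : Cz} (hs : (s : G) ∈ S) : π s ∈ (P : Subgroup X) := by
  rw [h.P_eq]; exact mem_im.2 ⟨s, hs, rfl⟩

theorem exists_eq (h : Tr S co Cz π P cX) {x : X} (hx : x ∈ (P : Subgroup X)) :
    ∃ s : Cz, (s : G) ∈ S ∧ π s = x := by
  rw [h.P_eq] at hx; exact mem_im.1 hx

section mk

variable {p : Tup F K → Prop} {h1 : p ⟨0, 0, 0, 0, 0, 0⟩} {hm : ∀ a b, p a → p b → p (C.mul a b)}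

theorem mk_iff (h : Tr S co Cz π P cX) {s : Cz} (hs : (s : G) ∈ S) :
    π s ∈ mkSub cX p h1 hm ↔ (s : G) ∈ mkSub co p h1 hm := by
  rw [mem_mkSub, mem_mkSub, h.cx s hs]
  exact ⟨fun h' => ⟨hs, h'.2⟩, fun h' => ⟨h.mem_P hs, h'.2⟩⟩

theorem im_mk (h : Tr S co Cz π P cX) : im π (mkSub co p h1 hm) = mkSub cX p h1 hm := by
  ext x
  rw [mem_im]
  constructor
  · rintro ⟨a, ha, rfl⟩
    exact (h.mk_iff ha.1).2 ha
  · intro hx
    obtain ⟨s, hs, rfl⟩ := h.exists_eq hx.1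
    exact ⟨s, (h.mk_iff hs).1 hx, rfl⟩

end mk

theorem im_Z (h : Tr S co Cz π P cX) : im π (Z co) = Z cX := h.im_mk
theorem im_E2 (h : Tr S co Cz π P cX) : im π (E2 co) = E2 cX := h.im_mk
theorem im_F0 (h : Tr S co Cz π P cX) : im π (F0 co) = F0 cX := h.im_mk
theorem im_RR (h : Tr S co Cz π P cX) : im π (RR co) = RR cX := h.im_mk
theorem im_Da (h : Tr S co Cz π P cX) : im π (Da co) = Da cX := h.im_mk
theorem im_Db (h : Tr S co Cz π P cX) : im π (Db co) = Db cX := h.im_mk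
theorem Z_iff (h : Tr S co Cz π P cX) {s : Cz} (hs : (s : G) ∈ S) : π s ∈ Z cX ↔ (s : G) ∈ Z co := h.mk_iff hs
theorem E2_iff (h : Tr S co Cz π P cX) {s : Cz} (hs : (s : G) ∈ S) : π s ∈ E2 cX ↔ (s : G) ∈ E2 co := h.mk_iff hs
theorem RR_iff (h : Tr S co Cz π P cX) {s : Cz} (hs : (s : G) ∈ S) : π s ∈ RR cX ↔ (s : G) ∈ RR co := h.mk_iff hs
theorem Da_iff (h : Tr S co Cz π P cX) {s : Cz} (hs : (s : G) ∈ S) : π s ∈ Da cX ↔ (s : G) ∈ Da co := h.mk_iff hs

omit [Finite G] [Finite X] in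
theorem im_conj {A : Subgroup G} {c : Cz} (hc : (c : G) ∈ normalizer (A : Set G)) :
    π c ∈ normalizer ((im π A : Subgroup X) : Set X) := by
  have h1 : ∀ c : Cz, (c : G) ∈ normalizer (A : Set G) → ∀ x ∈ im π A, π c * x * (π c)⁻¹ ∈ im π A := by
    intro c hc x hx
    obtain ⟨a, ha, rfl⟩ := mem_im.1 hx
    rw [← map_inv, ← map_mul, ← map_mul]
    exact mem_im.2 ⟨c * a * c⁻¹, (mem_normalizer_iff.1 hc a).1 ha, rfl⟩
  rw [mem_normalizer_iff]
  intro x
  refine ⟨h1 c hc x, fun hx => ?_⟩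
  have h2 := h1 c⁻¹ (inv_mem hc) _ hx
  rw [map_inv] at h2
  convert h2 using 1
  group

/-- `N_X(Db)` comes from `N_G(Db)` -/
theorem lift_normalizer (h : Tr S co Cz π P cX) {g : X} (hg : g ∈ normalizer ((Db cX : Subgroup X) : Set X)) :
    ∃ n : Cz, (n : G) ∈ normalizer ((Db co : Subgroup G) : Set G) ∧ π n = g := by
  have hDb : Db co ≤ Cz := fun x hx => h.S_le hx.1
  obtain ⟨c, rfl⟩ := h.surj g
  set A : Subgroup Cz := (Db co).subgroupOf Cz with hA
  have hAp : IsPGroup 2 A :=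
    (S.isPGroup'.to_le (fun x (hx : x ∈ Db co) => hx.1)).comap_of_injective Cz.subtype Cz.subtype_injective
  have hmem : ∀ x, x ∈ A ⊔ π.ker ↔ ∃ a ∈ A, ∃ b ∈ π.ker, x = a * b := by
    intro x
    apply Cfsg.Agent.TypeL3.mem_sup_of_le_normalizer
    rw [Subgroup.normalizer_eq_top_iff.2 inferInstance]
    exact le_top
  have hi : ¬ 2 ∣ A.relIndex (A ⊔ π.ker) := by
    intro hd
    have hdvd : A.relIndex (A ⊔ π.ker) ∣ Nat.card π.ker := by
      have h1 := Cfsg.Agent.Lib.Cores.card_sup_dvd π.ker A inferInstance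
      have h2 : Nat.card A * A.relIndex (A ⊔ π.ker) = Nat.card (A ⊔ π.ker : Subgroup Cz) := by
        rw [← relIndex_bot_left, ← relIndex_bot_left]
        exact relIndex_mul_relIndex ⊥ A (A ⊔ π.ker) bot_le le_sup_left
      rw [sup_comm, ← h2, mul_comm (Nat.card π.ker)] at h1
      exact Nat.dvd_of_mul_dvd_mul_left Nat.card_pos h1
    have h1 := hd.trans hdvd
    have h2 : Nat.gcd (Nat.card π.ker) 2 = 2 := Nat.gcd_eq_right h1
    have h3 := h.odd
    rw [Nat.Coprime] at h3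
    omega
  have hle : A.map (MulAut.conj c).toMonoidHom ≤ A ⊔ π.ker := by
    rintro _ ⟨a, ha, rfl⟩
    have h1 : π a ∈ Db cX := by rw [← h.im_Db]; exact mem_im.2 ⟨a, ha, rfl⟩
    have h2 := (mem_normalizer_iff.1 hg _).1 h1
    rw [← map_inv, ← map_mul, ← map_mul, ← h.im_Db] at h2
    obtain ⟨b, hb, e⟩ := mem_im.1 h2
    refine (hmem _).2 ⟨b, hb, b⁻¹ * (c * a * c⁻¹), ?_, by simp⟩
    rw [MonoidHom.mem_ker, map_mul, map_inv, e, inv_mul_cancel]
  obtain ⟨r, hr, hrle⟩ := exists_conj_le_in (p := 2) hAp hi hle (hAp.map _)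
  rw [map_conj_map_conj] at hrle
  obtain ⟨a, ha, o, ho, rfl⟩ := (hmem r).1 hr
  have h1 : a * o * c ∈ normalizer (A : Set Cz) :=
    mem_normalizer_iff_map_conj.2 (map_conj_le_of_le_normalizer hrle)
  have h2 : o * c ∈ normalizer (A : Set Cz) := by
    have := mul_mem (inv_mem (le_normalizer ha)) h1
    simpa [mul_assoc] using this
  refine ⟨o * c, ?_, ?_⟩
  · rw [← Cfsg.Agent.TypeL3.coe_mem_normalizer_map, hA, Subgroup.map_subgroupOf_eq_of_le hDb] at h2
    exact h2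
  · rw [map_mul, MonoidHom.mem_ker.1 ho, one_mul]

/-- `Z` and `Da` are strongly closed in `P` -/
theorem closed (h : Tr S co Cz π P cX) (hf : Fus.{u} C)
    (hti : ∀ n : Cz, (n : G) ∈ normalizer ((Db co : Subgroup G) : Set G) →
      (n : G) ∈ normalizer ((Z co : Subgroup G) : Set G))
    (hinv : normalizer ((Db co : Subgroup G) : Set G) ≤ normalizer ((F0 co : Subgroup G) : Set G)) :
    Cfsg.IsStronglyClosed (Z cX) (P : Subgroup X) ∧ Cfsg.IsStronglyClosed (Da cX) (P : Subgroup X) := by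
  have hDbZ : normalizer ((Db cX : Subgroup X) : Set X) ≤ normalizer ((Z cX : Subgroup X) : Set X) := by
    intro g hg
    obtain ⟨n, hn, rfl⟩ := h.lift_normalizer hg
    rw [← h.im_Z]
    exact im_conj (hti n hn)
  have hDbF : normalizer ((Db cX : Subgroup X) : Set X) ≤ normalizer ((F0 cX : Subgroup X) : Set X) := by
    intro g hg
    obtain ⟨n, hn, rfl⟩ := h.lift_normalizer hg
    rw [← h.im_F0]
    exact im_conj (hinv hn)
  have hDbR : ∀ g ∈ normalizer ((Db cX : Subgroup X) : Set X), ∀ x ∈ RR cX, g * x * g⁻¹ ∈ RR cX := by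
    intro g hg x hx
    refine Facts.mem_RR_of_Db ((mem_normalizer_iff.1 hg x).1 (RR_le_Db hx)) ?_
    intro w hw
    have h1 : g⁻¹ * w * g ∈ F0 cX := by
      have := (mem_normalizer_iff.1 (inv_mem (hDbF hg)) w).1 hw
      rwa [inv_inv] at this
    have h2 := (mem_normalizer_iff.1 (hDbZ hg) _).1 (Facts.mem_Z_of_RR_F0 hx h1)
    rw [conj_cm] at h2
    convert h2 using 2
    group
  have hgen : ∀ x ∈ (P : Subgroup X), ∀ g : X, g * x * g⁻¹ ∈ (P : Subgroup X) →
      Gen (P : Subgroup X) (fun D => D = P ∨ D = Da cX ∨ D = Db cX) (zpowers x) g := by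
    intro x hx g hg
    refine hf.gen X P cX _ (by rwa [zpowers_le]) g ?_
    rw [MonoidHom.map_zpowers, zpowers_le]
    exact hg
  constructor
  · refine ⟨fun x hx => hx.1, fun x hx g hg => ?_⟩
    have key : ∀ (A : Subgroup X) (g : X), Gen (P : Subgroup X) (fun D => D = P ∨ D = Da cX ∨ D = Db cX) A g →
        ∀ a ∈ A, a ∈ Z cX → g * a * g⁻¹ ∈ Z cX := by
      intro A g hA
      induction hA with
      | cent hA hc =>
        intro a ha haZ
        rw [conj_eq_of_mem_centralizer hc ha]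
        exact haZ
      | base hX hF hAX hg =>
        intro a ha haZ
        rcases hF with rfl | rfl | rfl
        · exact conj_mem_of_le (Facts.le_normalizer_Z_of_P le_rfl) hg haZ
        · exact conj_mem_of_le (Facts.le_normalizer_Z_of_Da le_rfl) hg haZ
        · exact conj_mem_of_le hDbZ hg haZ
      | @mul A g k _ _ ih1 ih2 =>
        intro a ha haZ
        have h1 := ih2 _ (conj_mem_map_conj ha g) (ih1 a ha haZ)
        convert h1 using 1
        group
    exact key _ g (hgen x hx.1 g hg) x (mem_zpowers x) hx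
  · refine ⟨fun x hx => hx.1, fun x hx g hg => ?_⟩
    have key : ∀ (A : Subgroup X) (g : X), Gen (P : Subgroup X) (fun D => D = P ∨ D = Da cX ∨ D = Db cX) A g →
        ∀ a ∈ A, a ∈ Da cX → g * a * g⁻¹ ∈ Da cX := by
      intro A g hA
      induction hA with
      | cent hA hc =>
        intro a ha haZ
        rw [conj_eq_of_mem_centralizer hc ha]
        exact haZ
      | base hX hF hAX hg =>
        intro a ha haZ
        rcases hF with rfl | rfl | rfl
        · exact conj_mem_of_le (hf.nDa X P cX) hg haZ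
        · exact conj_mem_of_le le_rfl hg haZ
        · exact RR_le_Da (hDbR _ hg a ⟨haZ.1, haZ.2, (hAX ha).2⟩)
      | @mul A g k _ _ ih1 ih2 =>
        intro a ha haZ
        have h1 := ih2 _ (conj_mem_map_conj ha g) (ih1 a ha haZ)
        convert h1 using 1
        group
    exact key _ g (hgen x hx.1 g hg) x (mem_zpowers x) hx

/-- the preimage of a subgroup -/
def pre (π : Cz →* X) (A : Subgroup G) (Y : Subgroup X) : Subgroup G := A ⊓ (Y.comap π).map Cz.subtype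

omit [Finite G] [Finite X] in
theorem mem_pre {A : Subgroup G} {Y : Subgroup X} {x : Cz} : (x : G) ∈ pre π A Y ↔ (x : G) ∈ A ∧ π x ∈ Y := by
  unfold pre
  rw [mem_inf, mem_map]
  refine and_congr_right fun _ => ⟨?_, fun h => ⟨x, h, rfl⟩⟩
  rintro ⟨y, hy, e⟩
  have : y = x := Subtype.ext e
  rw [← this]; exact hy

omit [Finite G] [Finite X] in
theorem pre_le {A : Subgroup G} {Y : Subgroup X} : pre π A Y ≤ A := inf_le_left

omit [Finite G] [Finite X] in
theorem mem_Cz_of_pre {A : Subgroup G} {Y : Subgroup X} {x : G} (hx : x ∈ pre π A Y) : x ∈ Cz := by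
  obtain ⟨-, y, -, rfl⟩ := hx
  exact y.2

omit [Finite G] [Finite X] in
theorem le_normalizer_pre {L A : Subgroup G} {Y : Subgroup X} (hL : L ≤ Cz) (hA : L ≤ normalizer (A : Set G))
    (hY : im π L ≤ normalizer (Y : Set X)) : L ≤ normalizer ((pre π A Y : Subgroup G) : Set G) := by
  refine le_normalizer_of fun n hn x hx => ?_
  have hxC := mem_Cz_of_pre hx
  have h1 : ((⟨n, hL hn⟩ * ⟨x, hxC⟩ * (⟨n, hL hn⟩ : Cz)⁻¹ : Cz) : G) ∈ pre π A Y := by
    rw [mem_pre]
    obtain ⟨h2, h3⟩ := mem_pre.1 (show ((⟨x, hxC⟩ : Cz) : G) ∈ pre π A Y from hx)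
    refine ⟨conj_mem_of_le hA hn h2, ?_⟩
    rw [map_mul, map_mul, map_inv]
    exact conj_mem_of_le hY (mem_im.2 ⟨⟨n, hL hn⟩, hn, rfl⟩) h3
  exact h1

variable {z : G}

omit [Finite X] in
theorem map_cm (a b : Cz) : π (⟨cm (a : G) b, by unfold cm; exact (a * b * a⁻¹ * b⁻¹).2⟩) = cm (π a) (π b) := by
  have : (⟨cm (a : G) b, by unfold cm; exact (a * b * a⁻¹ * b⁻¹).2⟩ : Cz) = a * b * a⁻¹ * b⁻¹ := rfl
  rw [this]
  simp only [map_mul, map_inv]
  rfl

/-- from `Out1`, `Out2` to `CZ` -/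
theorem cz (h : Tr S co Cz π P cX) (hf : Fus.{u} C) (hcore : Cfsg.oddCore X = ⊥) (h1 : Out1 S co)
    (hti : ∀ n : Cz, (n : G) ∈ normalizer ((Db co : Subgroup G) : Set G) →
      (n : G) ∈ normalizer ((Z co : Subgroup G) : Set G))
    (hinv : normalizer ((Db co : Subgroup G) : Set G) ≤ normalizer ((F0 co : Subgroup G) : Set G))
    (hL : L1 S co ≤ Cz) (hCe : centralizer ((Da co : Subgroup G) : Set G) ≤ Cz) : CZ P cX (im π (L1 S co)) := by
  obtain ⟨hcZ, hcD⟩ := h.closed hf hti hinv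
  have hLD : L1 S co ≤ normalizer ((Da co : Subgroup G) : Set G) := conjClosure_le_self P_le_normalizer_Da
  have hSL : (S : Subgroup G) ≤ L1 S co := le_conjClosure _ _
  have hLX : im π (L1 S co) ≤ normalizer ((Da cX : Subgroup X) : Set X) := by
    intro x hx
    obtain ⟨l, hl, rfl⟩ := mem_im.1 hx
    rw [← h.im_Da]
    exact im_conj (hLD hl)
  have hDaC : Da co ≤ Cz := fun x hx => h.S_le hx.1
  -- pull back
  have hpre : ∀ Y : Subgroup X, im π (L1 S co) ≤ normalizer (Y : Set X) →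
      L1 S co ≤ normalizer ((pre π (Da co) Y : Subgroup G) : Set G) := fun Y hY => le_normalizer_pre hL hLD hY
  have hpreZ : ∀ Y : Subgroup X, Y ≤ Da cX → ¬ Y ≤ Z cX → ¬ pre π (Da co) Y ≤ Z co := by
    intro Y hYD hYZ hcon
    apply hYZ
    intro y hy
    obtain ⟨s, hs, rfl⟩ := h.exists_eq (hYD hy).1
    exact (h.Z_iff hs).2 (hcon (mem_pre.2 ⟨(h.Da_iff hs).1 (hYD hy), hy⟩))
  have hS1 : ∀ s y : Cz, (s : G) ∈ S → (y : G) ∈ S → cm (s : G) y ∈ (S : Subgroup G) := fun s y hs hy => cm_mem hs hy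
  refine ⟨hcore, hcZ, hcD, ?_, hLX, ?_, ?_, ?_, ?_, ?_, ?_, ?_⟩
  · rw [h.P_eq]; exact im_mono hSL
  · intro l hl z hz
    obtain ⟨l, hl', rfl⟩ := mem_im.1 hl
    obtain ⟨s, hs, rfl⟩ := h.exists_eq hz.1
    rw [← map_mul, ← map_mul]
    congr 1
    exact Subtype.ext (h1.cent l hl' s ((h.Z_iff hs).1 hz))
  · -- f0
    obtain ⟨g, hg, v, hv, hgv⟩ := h1.f0
    refine ⟨π ⟨g, hL hg⟩, mem_im.2 ⟨⟨g, hL hg⟩, hg, rfl⟩, π ⟨v, h.S_le hv.1⟩, (h.E2_iff hv.1).2 hv, ?_⟩
    rw [← map_inv, ← map_mul, ← map_mul]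
    have h2 : g * v * g⁻¹ ∈ Da co := conj_mem_of_le hLD hg (E2_le_F0.trans F0_le_Da hv)
    intro h3
    exact hgv ((h.RR_iff (s := ⟨g, hL hg⟩ * ⟨v, h.S_le hv.1⟩ * ⟨g, hL hg⟩⁻¹) h2.1).1 h3)
  · -- f1
    intro g hg hgn v hv hgv
    obtain ⟨g, hg', rfl⟩ := mem_im.1 hg
    obtain ⟨v, hv', rfl⟩ := h.exists_eq hv.1
    rw [← map_inv, ← map_mul, ← map_mul] at hgv
    have hvE := (h.E2_iff hv').1 hv
    have h2 : (g : G) * v * (g : G)⁻¹ ∈ Da co := conj_mem_of_le hLD hg' (E2_le_F0.trans F0_le_Da hvE)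
    have h3 : (g : G) ∉ normalizer ((E2 co : Subgroup G) : Set G) := by
      intro h4
      apply hgn
      rw [← h.im_E2]
      exact im_conj h4
    exact (h.Z_iff hv').2 (h1.f1 g hg' h3 v hvE ((h.RR_iff (s := g * v * g⁻¹) h2.1).1 hgv))
  · -- f3
    intro Y hYD hYL hYZ x hx hxy
    obtain ⟨s, hs, rfl⟩ := h.exists_eq hx
    refine (h.Z_iff hs).2 (h1.f3 _ pre_le (hpre Y hYL) (hpreZ Y hYD hYZ) s hs ?_)
    intro y hy
    have hyC := mem_Cz_of_pre hy
    obtain ⟨hyD, hyY⟩ := mem_pre.1 (show ((⟨y, hyC⟩ : Cz) : G) ∈ pre π (Da co) Y from hy)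
    have h2 := hxy _ hyY
    rw [← map_cm] at h2
    have h3 := h.inj _ (hS1 s ⟨y, hyC⟩ hs hyD.1) h2
    exact congrArg Subtype.val h3
  · -- f3'
    intro Y hYD hYL hYZ x hx hxy
    obtain ⟨s, hs, rfl⟩ := h.exists_eq hx
    refine (h.Da_iff hs).2 (h1.f3' _ pre_le (hpre Y hYL) (hpreZ Y hYD hYZ) s hs ?_)
    intro y hy
    have hyC := mem_Cz_of_pre hy
    obtain ⟨hyD, hyY⟩ := mem_pre.1 (show ((⟨y, hyC⟩ : Cz) : G) ∈ pre π (Da co) Y from hy)
    have h2 := hxy _ hyY
    rw [← map_cm] at h2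
    exact (h.Z_iff (hS1 s ⟨y, hyC⟩ hs hyD.1)).1 h2
  · -- f4
    intro h3 Y hYD hYL hYZ
    apply le_antisymm hYD
    have h2 := h1.f4 h3 _ pre_le (hpre Y hYL) (hpreZ Y hYD hYZ)
    intro y hy
    obtain ⟨s, hs, rfl⟩ := h.exists_eq hy.1
    have h4 := (h.Da_iff hs).1 hy
    rw [← h2] at h4
    exact (mem_pre.1 h4).2
  · -- simple
    intro M hM hML
    have hsup : ∀ x : Cz, (x : G) ∈ Da co ⊔ centralizer ((Da co : Subgroup G) : Set G) →
        π x ∈ Da cX ⊔ centralizer ((Da cX : Subgroup X) : Set X) := by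
      intro x hx
      have h2 : π x ∈ im π (Da co ⊔ centralizer ((Da co : Subgroup G) : Set G)) := mem_im.2 ⟨x, hx, rfl⟩
      rw [im_sup hDaC hCe, h.im_Da] at h2
      have hle : im π (centralizer ((Da co : Subgroup G) : Set G)) ≤ centralizer ((Da cX : Subgroup X) : Set X) := by
        intro y hy
        obtain ⟨c, hc, rfl⟩ := mem_im.1 hy
        rw [mem_centralizer_iff]
        intro d hd
        obtain ⟨s, hs, rfl⟩ := h.exists_eq hd.1
        rw [← map_mul, ← map_mul]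
        congr 1
        exact Subtype.ext (mem_centralizer_iff.1 hc s ((h.Da_iff hs).1 hd))
      have hle' := sup_le_sup_left hle (Da cX)
      exact hle' h2
    rcases h1.simple (pre π (L1 S co) M) pre_le (le_normalizer_pre hL le_normalizer hML) with h2 | h2
    · left
      intro m hm
      obtain ⟨l, hl, rfl⟩ := mem_im.1 (hM hm)
      exact hsup l (h2 (mem_pre.2 ⟨hl, hm⟩))
    · right
      intro m hm
      obtain ⟨l, hl, rfl⟩ := mem_im.1 hm
      have h3 : π l ∈ im π (pre π (L1 S co) M ⊔ (Da co ⊔ centralizer ((Da co : Subgroup G) : Set G))) :=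
        mem_im.2 ⟨l, h2 hl, rfl⟩
      rw [im_sup (pre_le.trans hL) (sup_le hDaC hCe)] at h3
      have hle1 : im π (pre π (L1 S co) M) ≤ M := by
        intro y hy
        obtain ⟨c, hc, rfl⟩ := mem_im.1 hy
        exact (mem_pre.1 hc).2
      have hle2 : im π (Da co ⊔ centralizer ((Da co : Subgroup G) : Set G)) ≤
          Da cX ⊔ centralizer ((Da cX : Subgroup X) : Set X) := by
        intro y hy
        obtain ⟨c, hc, rfl⟩ := mem_im.1 hy
        exact hsup c hc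
      have hle' := sup_le_sup hle1 hle2
      exact hle' h3

end Tr

/-! ### The group `C_G(z) / O(C_G(z))` -/

variable {S : Sylow 2 G} {co : Coord C (S : Subgroup G)}

theorem exists_tr (Cz : Subgroup G) (hS : (S : Subgroup G) ≤ Cz) (O : Subgroup Cz) [hO : O.Normal]
    (hOodd : (Nat.card O).Coprime 2) :
    ∃ (P : Sylow 2 (Cz ⧸ O)) (cX : Coord C (P : Subgroup (Cz ⧸ O))), Tr S co Cz (QuotientGroup.mk' O) P cX := by
  let SC : Sylow 2 Cz := S.subtype hS
  have hSCc : (SC : Subgroup Cz) = (S : Subgroup G).subgroupOf Cz := rfl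
  let P := SC.mapSurjective (QuotientGroup.mk'_surjective O)
  have hinj : ∀ x : Cz, (x : G) ∈ S → QuotientGroup.mk' O x = 1 → x = 1 := by
    intro x hx hx1
    have hxO : x ∈ O := (QuotientGroup.eq_one_iff _).1 hx1
    have h1 : orderOf x ∣ Nat.card O := by
      have := orderOf_dvd_natCard (⟨x, hxO⟩ : O)
      rwa [← Subgroup.orderOf_coe] at this
    obtain ⟨k, hk⟩ := SC.isPGroup' ⟨x, hx⟩
    have h2 : orderOf x ∣ 2 ^ k := orderOf_dvd_of_pow_eq_one (congrArg Subtype.val hk)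
    have h3 : orderOf x ∣ Nat.gcd (Nat.card O) (2 ^ k) := Nat.dvd_gcd h1 h2
    rw [Nat.Coprime.pow_right k hOodd] at h3
    exact orderOf_eq_one_iff.1 (Nat.dvd_one.1 h3)
  have hP : (P : Subgroup (Cz ⧸ O)) = im (QuotientGroup.mk' O) S := by
    show ((SC.mapSurjective (QuotientGroup.mk'_surjective O) : Sylow 2 (Cz ⧸ O)) : Subgroup (Cz ⧸ O)) = _
    rw [Sylow.coe_mapSurjective]; rfl
  have hmem : ∀ s : (S : Subgroup G), QuotientGroup.mk' O ⟨s, hS s.2⟩ ∈ (P : Subgroup (Cz ⧸ O)) := by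
    intro s
    rw [hP]
    exact mem_im.2 ⟨⟨s, hS s.2⟩, s.2, rfl⟩
  let φ : (S : Subgroup G) →* (P : Subgroup (Cz ⧸ O)) :=
    { toFun := fun s => ⟨QuotientGroup.mk' O ⟨s, hS s.2⟩, hmem s⟩
      map_one' := by
        apply Subtype.ext
        exact map_one (QuotientGroup.mk' O)
      map_mul' := fun a b => by
        apply Subtype.ext
        exact map_mul (QuotientGroup.mk' O) ⟨a, hS a.2⟩ ⟨b, hS b.2⟩ }
  have hφ : Function.Bijective φ := by
    constructor
    · rw [injective_iff_map_eq_one]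
      intro s hs
      have h1 := hinj ⟨s, hS s.2⟩ s.2 (congrArg Subtype.val hs)
      have h2 : (s : G) = 1 := congrArg (fun y : Cz => (y : G)) h1
      exact Subtype.ext h2
    · rintro ⟨x, hx⟩
      rw [hP] at hx
      obtain ⟨s, hs, rfl⟩ := mem_im.1 hx
      exact ⟨⟨s, hs⟩, rfl⟩
  let E := MulEquiv.ofBijective φ hφ
  let cX : Coord C (P : Subgroup (Cz ⧸ O)) :=
    { e := E.symm.toEquiv.trans co.e
      map_mul := fun g h => by
        show co.e (E.symm (g * h)) = C.mul (co.e (E.symm g)) (co.e (E.symm h))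
        rw [map_mul, co.map_mul] }
  refine ⟨P, cX, hS, QuotientGroup.mk'_surjective O, hP, hinj, ?_, ?_⟩
  · intro s hs
    rw [cx_eq (show QuotientGroup.mk' O s ∈ (P : Subgroup (Cz ⧸ O)) from hmem ⟨s, hs⟩), cx_eq hs]
    show co.e (E.symm _) = _
    congr 1
    rw [MulEquiv.symm_apply_eq]
    rfl
  · rw [QuotientGroup.ker_mk']
    exact hOodd

/-- **Piece G**: `Goal C` implies `OutZ` -/
theorem outZ_of_goal (hf : Fus.{u} C) (hG : Goal.{u} C) (h1 : Out1 S co)
    (hti : ∀ n ∈ normalizer ((Db co : Subgroup G) : Set G), ∀ z ∈ Z co, z ≠ 1 → n * z * n⁻¹ ∈ Z co →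
      n ∈ normalizer ((Z co : Subgroup G) : Set G))
    (hinv : normalizer ((Db co : Subgroup G) : Set G) ≤ normalizer ((F0 co : Subgroup G) : Set G)) :
    OutZ S co := by
  have main : ∀ z ∈ Z co, z ≠ 1 → ∃ (P : Sylow 2 (centralizer ({z} : Set G) ⧸ Cfsg.oddCore (centralizer ({z} : Set G))))
      (cX : Coord C (P : Subgroup (centralizer ({z} : Set G) ⧸ Cfsg.oddCore (centralizer ({z} : Set G))))),
      Tr S co (centralizer ({z} : Set G)) (QuotientGroup.mk' (Cfsg.oddCore (centralizer ({z} : Set G)))) P cX ∧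
      (Da cX).Normal ∧
      ¬ Cfsg.HasComponent (centralizer ({z} : Set G) ⧸ Cfsg.oddCore (centralizer ({z} : Set G))) := by
    intro z hz hz1
    have hOn : (Cfsg.oddCore (centralizer ({z} : Set G))).Normal := Cfsg.Agent.Lib.Cores.pPrimeCore_normal 2
    have hOodd : (Nat.card (Cfsg.oddCore (centralizer ({z} : Set G)))).Coprime 2 :=
      Cfsg.Agent.Lib.Cores.pPrimeCore_coprime 2
    have hL : L1 S co ≤ centralizer ({z} : Set G) := by
      intro l hl
      rw [mem_centralizer_singleton_iff]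
      exact h1.cent l hl z hz
    have hCe : centralizer ((Da co : Subgroup G) : Set G) ≤ centralizer ({z} : Set G) :=
      centralizer_le (Set.singleton_subset_iff.2 (Z_le_Da hz))
    obtain ⟨P, cX, hT⟩ := exists_tr (co := co) (centralizer ({z} : Set G)) ((le_conjClosure _ _).trans hL)
      (Cfsg.oddCore (centralizer ({z} : Set G))) hOodd
    have hcore : Cfsg.oddCore (centralizer ({z} : Set G) ⧸ Cfsg.oddCore (centralizer ({z} : Set G))) = ⊥ :=
      Cfsg.Agent.Lib.Cores.pPrimeCore_quotient_pPrimeCore 2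
    have hcz := hT.cz hf hcore h1 (fun n hn => hti n hn z hz hz1 (by
      have := mem_centralizer_singleton_iff.1 n.2
      rw [this, mul_inv_cancel_right]
      exact hz)) hinv hL hCe
    obtain ⟨h2, h3⟩ := hG _ P cX _ hcz
    exact ⟨P, cX, hT, h2, h3⟩
  refine ⟨?_, fun z hz hz1 => ?_⟩
  · intro z hz hz1 c hc x hx
    obtain ⟨P, cX, hT, hN, -⟩ := main z hz hz1
    set π := QuotientGroup.mk' (Cfsg.oddCore (centralizer ({z} : Set G))) with hπ
    have hxC : x ∈ centralizer ({z} : Set G) := hT.S_le hx.1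
    have h2 : π ⟨x, hxC⟩ ∈ Da cX := (hT.Da_iff (s := ⟨x, hxC⟩) hx.1).2 hx
    have h3 := hN.conj_mem _ h2 (π ⟨c, hc⟩)
    rw [← map_inv, ← map_mul, ← map_mul, ← hT.im_Da] at h3
    obtain ⟨y, hy, e⟩ := mem_im.1 h3
    have h4 : y⁻¹ * (⟨c, hc⟩ * ⟨x, hxC⟩ * (⟨c, hc⟩ : centralizer ({z} : Set G))⁻¹) ∈
        Cfsg.oddCore (centralizer ({z} : Set G)) := QuotientGroup.eq.1 e
    refine ⟨y, hy, _, ⟨_, h4, rfl⟩, ?_⟩
    show c * x * c⁻¹ = (y : G) * ((y : G)⁻¹ * (c * x * c⁻¹))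
    group
  · obtain ⟨P, cX, -, -, h3⟩ := main z hz hz1
    exact h3

end Cfsg.Agent.HexGlob.CenZ
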