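import Cfsg.Agent.HexGlob.CenZOne
import Cfsg.Agent.HexGlob.CompTools

/-!
# The tools of `CenZOne` from the component tools
-/

set_option autoImplicit false

namespace Cfsg.Agent.HexGlob.CenZTools

open Cfsg.Agent.HexRec Cfsg.Agent.HexEss Cfsg.Agent.HexGlob Subgroup
open Cfsg.Agent.HexGlob.CompTools Cfsg.Agent.HexGlob.MinPlus Cfsg.Agent.TypeL3

universe u

/-- A1 + A5, general form -/
theorem a1k' (h1169 : H1169.{u}) (h1171 : H1171.{u}) (hbend : HBend.{u}) {X : Type u} [Group X] [Finite X]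
    (hcore : Cfsg.oddCore X = ⊥) (P : Sylow 2 X) {K : Subgroup X} (hK : Cfsg.IsComponent K) {A : Subgroup X}
    (hA : Cfsg.IsStronglyClosed A (P : Subgroup X))
    (hAc : ∀ x ∈ A ⊓ K, ∀ y ∈ A ⊓ K, cm x y ∈ centralizer (K : Set X))
    (hA2 : ∀ x ∈ A ⊓ K, x * x ∈ centralizer (K : Set X)) (hA0 : ¬ A ⊓ K ≤ centralizer (K : Set X))
    {t : X} (ht : t ∈ (P : Subgroup X) ⊓ K) (ht2 : t * t ∈ centralizer (K : Set X)) :
    (∃ a ∈ A ⊓ K, ∃ c ∈ K ⊓ centralizer (K : Set X), t = a * c) ∧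
      ∀ p ∈ (P : Subgroup X) ⊓ K, cm t p ∈ centralizer (K : Set X) := by
  obtain ⟨h1, h2⟩ := Ctx.min_plus h1169 h1171 hbend ⟨hcore, hK⟩ P (A := A) (inf_le_left.trans hA.1)
    (fun x hx g _ hg => hA.2 x (mem_inf.1 hx).1 g hg) hAc hA2 hA0 ht ht2
  refine ⟨h1, fun p hp => ?_⟩
  have h3 := inv_mem (h2 p hp)
  have e : (p * t * p⁻¹ * t⁻¹)⁻¹ = cm t p := by
    show (p * t * p⁻¹ * t⁻¹)⁻¹ = t * p * t⁻¹ * p⁻¹
    group
  rwa [e] at h3

theorem tools (h1169 : H1169.{u}) (h1171 : H1171.{u}) (hbend : HBend.{u}) : CenZ.Tools.{u} where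
  a1k := by
    intro X _ _ hcore P K hK A hA hAc hA2 hA0 t ht ht2
    refine a1k' h1169 h1171 hbend hcore P hK hA (fun x hx y hy => ?_) (fun x hx => ?_) hA0 ht ht2
    · have : cm x y = 1 := by
        show x * y * x⁻¹ * y⁻¹ = 1
        rw [hAc x (mem_inf.1 hx).1 y (mem_inf.1 hy).1]; group
      rw [this]; exact one_mem _
    · rw [hA2 x (mem_inf.1 hx).1]; exact one_mem _
  a2 := by
    intro X _ _ hcore P K hK hPK hZ hD
    exact Ctx.false_of_le_derived ⟨hcore, hK⟩ P hPK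
      (fun x hx s hs => ((mem_centralizer_iff.1 (hZ hx)) s hs).symm) hD
  a3 := by
    intro X _ _ hcore P K hK A hA a ha hc
    by_contra hne
    refine Ctx.false_of_moved ⟨hcore, hK⟩ P hA ha hne ?_
    intro k hk l hl
    have h1 := hc k⁻¹ (inv_mem hk) _ (SignalizersComponents.Components.isComponent_conj a hK)
    have e : k⁻¹ * a * k⁻¹⁻¹ * a⁻¹ = k⁻¹ * (a * k * a⁻¹) := by group
    rw [e] at h1
    exact ((mem_centralizer_iff.1 h1) l hl).symm
  a4 := by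
    intro X _ _ hcore P K hK A hA hAN hAK a ha
    rw [mem_centralizer_iff]
    intro k hk
    exact (Ctx.comm_of_inf_le h1171 ⟨hcore, hK⟩ P hA hAN hAK a ha k hk).symm

end Cfsg.Agent.HexGlob.CenZTools
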