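import Cfsg.Agent.HexGlob.CenZOne

/-!
# `C_G(z) / O(C_G(z))`, second part

A component `K` of `X = C_G(z) / O(C_G(z))` is unique, `Da ∩ K` is not abelian.
-/

set_option autoImplicit false

namespace Cfsg.Agent.HexGlob.CenZ

open Cfsg.Agent.HexRec Cfsg.Agent.HexEss Cfsg.Agent.HexGlob Subgroup Cfsg.Agent.Lib.GoldschmidtFusion
open Cfsg.Agent.HexEss.Abel
open scoped commutatorElement

universe u v

/-- hyperbolic pairs -/
theorem two_mul_card_le {F W ι : Type*} [Field F] [AddCommGroup W] [Module F W] [Module.Finite F W] [Finite ι]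
    (B : LinearMap.BilinForm F W) (a b : ι → W) (haa : ∀ i j, B (a i) (a j) = 0) (hbb : ∀ i j, B (b i) (b j) = 0)
    (hab : ∀ i j, i ≠ j → B (a i) (b j) = 0) (hne : ∀ i, B (a i) (b i) ≠ 0) :
    2 * Nat.card ι ≤ Module.finrank F W := by
  classical
  have := Fintype.ofFinite ι
  have hli : LinearIndependent F (Sum.elim a b) := by
    rw [Fintype.linearIndependent_iff]
    intro g hg
    rw [Fintype.sum_sum_type] at hg
    simp only [Sum.elim_inl, Sum.elim_inr] at hg
    rintro (j | j)
    · have h1 := congrArg (fun w => B w (b j)) hg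
      simp only [map_add, map_sum, LinearMap.add_apply, LinearMap.sum_apply, map_smul, LinearMap.smul_apply,
        smul_eq_mul, hbb, mul_zero, Finset.sum_const_zero, add_zero, map_zero, LinearMap.zero_apply] at h1
      rw [Finset.sum_eq_single j] at h1
      · exact (mul_eq_zero.1 h1).resolve_right (hne j)
      · intro i _ hij
        rw [hab i j hij, mul_zero]
      · intro h
        exact absurd (Finset.mem_univ j) h
    · have h1 := congrArg (fun w => B (a j) w) hg
      simp only [map_add, map_sum, map_smul,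
        smul_eq_mul, haa, mul_zero, Finset.sum_const_zero, zero_add, map_zero] at h1
      rw [Finset.sum_eq_single j] at h1
      · exact (mul_eq_zero.1 h1).resolve_right (hne j)
      · intro i _ hij
        rw [hab j i (Ne.symm hij), mul_zero]
      · intro h
        exact absurd (Finset.mem_univ j) h
  have h1 := hli.fintype_card_le_finrank
  rw [Fintype.card_sum] at h1
  rw [Nat.card_eq_fintype_card]
  omega

variable {F K : Type v} [Field F] [Field K] [Algebra F K] {C : Cubic F K}

section coord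

variable {X : Type u} [Group X] [Finite X] {P : Subgroup X} {co : Coord C P}

/-- `C_P(Da) = Z` -/
theorem mem_Z_of_comm_Da {x : X} (hx : x ∈ P) (h : ∀ y ∈ Da co, cm x y = 1) : x ∈ Z co := by
  have h0 : x ∈ F0 co := mem_F0_of_cm_eq_one hx (fun y hy => h y (F0_le_Da hy))
  exact mem_Z_of_Da (F0_le_Da h0) (fun t ht => Facts.cm_one_swap.1 (h t ht))

/-- `P ∩ Da C(Da) = Da` -/
theorem mem_Da_of_mem_sup {x : X} (hx : x ∈ P)
    (h : x ∈ Da co ⊔ centralizer ((Da co : Subgroup X) : Set X)) : x ∈ Da co := by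
  have hn : centralizer ((Da co : Subgroup X) : Set X) ≤ normalizer ((Da co : Subgroup X) : Set X) :=
    centralizer_le_normalizer _
  rw [sup_comm, Cfsg.Agent.TypeL3.mem_sup_of_le_normalizer hn] at h
  obtain ⟨c, hc, d, hd, rfl⟩ := h
  have hdP : d ∈ P := hd.1
  have hcP : c ∈ P := by
    have := mul_mem hx (inv_mem hdP)
    rwa [mul_inv_cancel_right] at this
  have hcZ : c ∈ Z co := mem_Z_of_comm_Da hcP (fun y hy => by
    rw [cm_eq_one]
    exact (mem_centralizer_iff.1 hc y hy).symm)
  exact mul_mem (Z_le_Da hcZ) hd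

end coord

variable {X : Type u} [Group X] [Finite X] {P : Sylow 2 X} {co : Coord C (P : Subgroup X)} {L : Subgroup X}

/-- `Da` normalises every component -/
theorem CZ.Da_le_normalizer (T : Tools.{u}) (hD : Mild.{u} C) (h : CZ P co L) {K : Subgroup X}
    (hK : Cfsg.IsComponent K) : Da co ≤ normalizer (K : Set X) := by
  intro a ha
  rw [mem_normalizer_iff_map_conj]
  refine T.a3 X h.core P K hK (Da co) h.closedDa a ha ?_
  intro k hk K' hK'
  exact h.Z_comm T hD hK' (cm_mem_Z_of_Da (mem_inf.1 hk).1 ha)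

/-- `Da ∩ K` is not central in `K` -/
theorem CZ.not_Da_inf_le (T : Tools.{u}) (hD : Mild.{u} C) (h : CZ P co L) {K : Subgroup X}
    (hK : Cfsg.IsComponent K) : ¬ Da co ⊓ K ≤ centralizer (K : Set X) := by
  intro hle
  have h1 := T.a4 X h.core P K hK (Da co) h.closedDa (h.Da_le_normalizer T hD hK) hle
  apply not_inf_le (P := P) h.core hK
  intro x hx
  obtain ⟨hxP, hxK⟩ := mem_inf.1 hx
  refine h.Z_inf_le T hD hK (mem_inf.2 ⟨mem_Z_of_comm_Da hxP (fun y hy => ?_), hxK⟩)
  rw [cm_eq_one]
  exact mem_centralizer_iff.1 (h1 hy) x hxK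

theorem CZ.not_Da_inf_le_Z (T : Tools.{u}) (hD : Mild.{u} C) (h : CZ P co L) {K : Subgroup X}
    (hK : Cfsg.IsComponent K) : ¬ Da co ⊓ K ≤ Z co := fun hle =>
  h.not_Da_inf_le T hD hK fun _ hx => h.Z_inf_le T hD hK (mem_inf.2 ⟨hle hx, (mem_inf.1 hx).2⟩)

/-- the subgroup generated by the `Da ∩ K^l`, `l ∈ L` -/
noncomputable def YY (co : Coord C (P : Subgroup X)) (L K : Subgroup X) : Subgroup X :=
  closure {x | ∃ l ∈ L, x ∈ Da co ∧ x ∈ K.map (MulAut.conj l).toMonoidHom}

omit [Finite X] in
theorem mem_YY_aux [Finite X] {K : Subgroup X} {x : X} (hx : x ∈ Da co ⊓ K) : x ∈ YY co L K :=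
  subset_closure ⟨1, one_mem _, (mem_inf.1 hx).1, by rw [map_conj_one]; exact (mem_inf.1 hx).2⟩

/-- the centralizer of `YY` in `P` is `Z` -/
theorem CZ.mem_Z_of_comm_YY (T : Tools.{u}) (hD : Mild.{u} C) (h : CZ P co L) {K : Subgroup X}
    (hK : Cfsg.IsComponent K) {x : X} (hx : x ∈ (P : Subgroup X))
    (hc : ∀ l ∈ L, ∀ y ∈ Da co, y ∈ K.map (MulAut.conj l).toMonoidHom → x * y = y * x) : x ∈ Z co := by
  refine h.f3 (YY co L K) ?_ ?_ ?_ x hx ?_
  · rw [YY, closure_le]
    rintro y ⟨l, -, hy, -⟩
    exact hy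
  · apply le_normalizer_closure
    rintro n hn y ⟨l, hl, hy, hyl⟩
    refine ⟨n * l, mul_mem hn hl, conj_mem_of_le h.L_le hn hy, ?_⟩
    rw [← map_conj_map_conj]
    exact conj_mem_map_conj hyl n
  · intro hle
    apply h.not_Da_inf_le_Z T hD hK
    intro y hy
    exact hle (mem_YY_aux hy)
  · have h1 : YY co L K ≤ centralizer {x} := by
      rw [YY, closure_le]
      rintro y ⟨l, hl, hy, hyl⟩
      rw [SetLike.mem_coe, mem_centralizer_singleton_iff]
      exact (hc l hl y hy hyl).symm
    intro y hy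
    rw [cm_eq_one]
    exact (mem_centralizer_singleton_iff.1 (h1 hy)).symm

/-- `L` is transitive on the components -/
theorem CZ.exists_conj (T : Tools.{u}) (hD : Mild.{u} C) (h : CZ P co L) {K K' : Subgroup X}
    (hK : Cfsg.IsComponent K) (hK' : Cfsg.IsComponent K') :
    ∃ l ∈ L, K.map (MulAut.conj l).toMonoidHom = K' := by
  by_contra hcon
  push Not at hcon
  apply h.not_Da_inf_le_Z T hD hK'
  intro x hx
  obtain ⟨hxD, hxK⟩ := mem_inf.1 hx
  refine h.mem_Z_of_comm_YY T hD hK hxD.1 ?_
  intro l hl y hy hyl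
  have h1 := SignalizersComponents.Components.component_le_centralizer_of_ne
    (SignalizersComponents.Components.isComponent_conj l hK) hK' (hcon l hl) hyl
  exact mem_centralizer_iff.1 h1 x hxK

/-- `Da ∩ K` is not abelian -/
theorem CZ.exists_nc (T : Tools.{u}) (hD : Mild.{u} C) (h : CZ P co L) {K : Subgroup X}
    (hK : Cfsg.IsComponent K) : ∃ a ∈ Da co ⊓ K, ∃ b ∈ Da co ⊓ K, cm a b ≠ 1 := by
  by_contra hcon
  push Not at hcon
  apply h.not_Da_inf_le_Z T hD hK
  intro x hx
  obtain ⟨hxD, hxK⟩ := mem_inf.1 hx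
  refine h.mem_Z_of_comm_YY T hD hK hxD.1 ?_
  intro l hl y hy hyl
  by_cases hne : K.map (MulAut.conj l).toMonoidHom = K
  · rw [hne] at hyl
    exact cm_eq_one.1 (hcon x hx y (mem_inf.2 ⟨hy, hyl⟩))
  · exact mem_centralizer_iff.1 (mem_centralizer_of_conj_ne hK hne hyl) x hxK

/-- the set of components -/
abbrev Comp (X : Type u) [Group X] : Type u := {K : Subgroup X // Cfsg.IsComponent K}

theorem CZ.card_comp_le (T : Tools.{u}) (hD : Mild.{u} C) (h : CZ P co L) [Finite F] [Finite K] :
    Nat.card (Comp X) ≤ 1 + Module.finrank F K := by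
  classical
  choose a ha b hb hab using fun (K' : Comp X) => h.exists_nc T hD K'.2
  have hfin : Module.Finite F K := inferInstance
  have h1 := two_mul_card_le (formA C) (fun i => wA co (a i)) (fun i => wA co (b i)) ?_ ?_ ?_ ?_
  · have h2 : Module.finrank F (F × K × K × F) = 2 + 2 * Module.finrank F K := by
      simp only [Module.finrank_prod, Module.finrank_self]
      ring
    rw [h2] at h1
    omega
  · intro i j
    rw [← cm_Da_eq_one (mem_inf.1 (ha i)).1 (mem_inf.1 (ha j)).1, cm_eq_one]
    by_cases hij : i = j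
    · rw [hij]
    · have h2 := SignalizersComponents.Components.component_le_centralizer_of_ne i.2 j.2
        (fun e => hij (Subtype.ext e)) (mem_inf.1 (ha i)).2
      exact (mem_centralizer_iff.1 h2 _ (mem_inf.1 (ha j)).2).symm
  · intro i j
    rw [← cm_Da_eq_one (mem_inf.1 (hb i)).1 (mem_inf.1 (hb j)).1, cm_eq_one]
    by_cases hij : i = j
    · rw [hij]
    · have h2 := SignalizersComponents.Components.component_le_centralizer_of_ne i.2 j.2
        (fun e => hij (Subtype.ext e)) (mem_inf.1 (hb i)).2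
      exact (mem_centralizer_iff.1 h2 _ (mem_inf.1 (hb j)).2).symm
  · intro i j hij
    rw [← cm_Da_eq_one (mem_inf.1 (ha i)).1 (mem_inf.1 (hb j)).1, cm_eq_one]
    have h2 := SignalizersComponents.Components.component_le_centralizer_of_ne i.2 j.2
        (fun e => hij (Subtype.ext e)) (mem_inf.1 (ha i)).2
    exact (mem_centralizer_iff.1 h2 _ (mem_inf.1 (hb j)).2).symm
  · intro i
    rw [Ne, ← cm_Da_eq_one (mem_inf.1 (ha i)).1 (mem_inf.1 (hb i)).1]
    exact hab i

/-- the action on the set of components -/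
def act (g : X) : Equiv.Perm (Comp X) where
  toFun K' := ⟨K'.1.map (MulAut.conj g).toMonoidHom, SignalizersComponents.Components.isComponent_conj g K'.2⟩
  invFun K' := ⟨K'.1.map (MulAut.conj g⁻¹).toMonoidHom, SignalizersComponents.Components.isComponent_conj g⁻¹ K'.2⟩
  left_inv K' := by
    apply Subtype.ext
    show (K'.1.map _).map _ = K'.1
    rw [map_conj_map_conj, inv_mul_cancel, map_conj_one]
  right_inv K' := by
    apply Subtype.ext
    show (K'.1.map _).map _ = K'.1
    rw [map_conj_map_conj, mul_inv_cancel, map_conj_one]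

/-- the common stabilizer of the components -/
def St (X : Type u) [Group X] : Subgroup X where
  carrier := {g | ∀ K : Subgroup X, Cfsg.IsComponent K → K.map (MulAut.conj g).toMonoidHom = K}
  one_mem' := fun K _ => map_conj_one K
  mul_mem' := by
    intro a b ha hb K hK
    rw [← map_conj_map_conj, hb K hK, ha K hK]
  inv_mem' := by
    intro a ha K hK
    have h1 := congrArg (fun A : Subgroup X => A.map (MulAut.conj a⁻¹).toMonoidHom) (ha K hK)
    simp only [map_conj_map_conj, inv_mul_cancel, map_conj_one] at h1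
    exact h1.symm

omit [Finite X] in
theorem mem_St {g : X} : g ∈ St X ↔ ∀ K : Subgroup X, Cfsg.IsComponent K → K.map (MulAut.conj g).toMonoidHom = K :=
  Iff.rfl

omit [Finite X] in
theorem conj_mem_St {g x : X} (hx : x ∈ St X) : g * x * g⁻¹ ∈ St X := by
  intro K hK
  have h1 := hx _ (SignalizersComponents.Components.isComponent_conj g⁻¹ hK)
  rw [← map_conj_map_conj, ← map_conj_map_conj, h1, map_conj_map_conj, mul_inv_cancel, map_conj_one]

/-- all components are normalised by `L` -/
theorem CZ.L_le_St (T : Tools.{u}) (hD : Mild.{u} C) (h : CZ P co L) : L ≤ St X := by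
  have hF : Finite F := finite_F co
  have hKf : Finite K := finite_K co
  have hcent : Da co ⊔ centralizer ((Da co : Subgroup X) : Set X) ≤ St X := by
    apply sup_le
    · intro a ha K hK
      exact mem_normalizer_iff_map_conj.1 (h.Da_le_normalizer T hD hK ha)
    · intro c hc K hK
      by_contra hne
      apply h.not_Da_inf_le T hD hK
      intro x hx
      obtain ⟨hxD, hxK⟩ := mem_inf.1 hx
      refine mem_centralizer_of_conj_ne hK hne ?_
      rw [mem_map_conj]
      have := mem_centralizer_iff.1 hc x hxD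
      have e : c⁻¹ * x * c = x := by rw [mul_assoc, this, inv_mul_cancel_left]
      rwa [e]
  rcases h.simple (L ⊓ St X) inf_le_left (le_normalizer_of fun n hn x hx =>
      mem_inf.2 ⟨mul_mem (mul_mem hn (mem_inf.1 hx).1) (inv_mem hn), conj_mem_St (mem_inf.1 hx).2⟩) with h1 | h1
  · exfalso
    -- an injection of `K` into the symmetric group
    choose g hg hgc using fun t : K => exists_cx (co := co) ⟨t, 0, 0, 0, 0, 0⟩
    have hinj : Function.Injective (fun t : K => act (g t)) := by
      intro t s hts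
      have h2 : (g s)⁻¹ * g t ∈ St X := by
        intro K' hK'
        have h3 := congrArg Subtype.val (Equiv.congr_fun hts ⟨K', hK'⟩)
        have h4 : K'.map (MulAut.conj (g t)).toMonoidHom = K'.map (MulAut.conj (g s)).toMonoidHom := h3
        rw [← map_conj_map_conj, h4, map_conj_map_conj, inv_mul_cancel, map_conj_one]
      have h3 : (g s)⁻¹ * g t ∈ (P : Subgroup X) := mul_mem (inv_mem (hg s)) (hg t)
      have h4 := mem_Da_of_mem_sup h3 (h1 (mem_inf.2 ⟨h.P_le h3, h2⟩))
      have h5 := a1_mul (co := co) (hg s) h3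
      rw [mul_inv_cancel_left, h4.2, hgc, hgc, add_zero] at h5
      exact h5
    refine hD.sym (Comp X) (h.card_comp_le T hD) (fun t : K => act (g t)) ?_ hinj
    intro t s
    -- `g t * g s` and `g (t + s)` differ by an element of `Da`
    have h2 : (g (t + s))⁻¹ * (g t * g s) ∈ (P : Subgroup X) := mul_mem (inv_mem (hg _)) (mul_mem (hg t) (hg s))
    have h3 : (g (t + s))⁻¹ * (g t * g s) ∈ Da co := by
      refine ⟨h2, ?_⟩
      have h4 := a1_mul (co := co) (hg (t + s)) h2
      rw [mul_inv_cancel_left, a1_mul (hg t) (hg s), hgc, hgc, hgc] at h4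
      simpa using h4
    have h4 := hcent (mem_sup_left h3)
    apply Equiv.ext
    intro K'
    apply Subtype.ext
    show K'.1.map (MulAut.conj (g (t + s))).toMonoidHom = (K'.1.map (MulAut.conj (g s)).toMonoidHom).map
      (MulAut.conj (g t)).toMonoidHom
    have h5 := h4 K'.1 K'.2
    rw [map_conj_map_conj]
    have e : g t * g s = g (t + s) * ((g (t + s))⁻¹ * (g t * g s)) := by group
    rw [e, ← map_conj_map_conj, h5]
  · exact h1.trans (sup_le inf_le_right hcent)

/-- there is at most one component -/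
theorem CZ.comp_unique (T : Tools.{u}) (hD : Mild.{u} C) (h : CZ P co L) {K K' : Subgroup X}
    (hK : Cfsg.IsComponent K) (hK' : Cfsg.IsComponent K') : K = K' := by
  obtain ⟨l, hl, e⟩ := h.exists_conj T hD hK hK'
  rw [← e]
  exact (h.L_le_St T hD hl K hK).symm

/-- a component is normal -/
theorem CZ.comp_normal (T : Tools.{u}) (hD : Mild.{u} C) (h : CZ P co L) {K : Subgroup X}
    (hK : Cfsg.IsComponent K) : K.Normal := by
  rw [← Subgroup.normalizer_eq_top_iff, eq_top_iff]
  intro g _
  rw [mem_normalizer_iff_map_conj]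
  exact h.comp_unique T hD (SignalizersComponents.Components.isComponent_conj g hK) hK

end Cfsg.Agent.HexGlob.CenZ
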