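import Mathlib
import Cfsg.Agent.HexGlob.LevSpec
import Cfsg.Agent.ClassTwo.Sp4Final

/-!
# Closing (piece J = G9): `G = ⟨L₁, L₂⟩` and the output structure `Lev`
-/

set_option autoImplicit false

namespace Cfsg.Agent.HexGlob.Close

open Cfsg.Agent.HexRec Cfsg.Agent.HexEss Cfsg.Agent.HexGlob Subgroup Matrix
open Cfsg.Agent.ClassTwo.Sp4Defs

universe u v

/-! ### General -/

section general

variable {G : Type u} [Group G] [Finite G] (S : Sylow 2 G)

/-- Frattini for `⟨S^N⟩` -/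
theorem frattini {N : Subgroup G} {n : G} (hn : n ∈ N) :
    ∃ l ∈ conjClosure N (S : Subgroup G), ∃ s ∈ normalizer ((S : Subgroup G) : Set G), n = l * s := by
  classical
  set L := conjClosure N (S : Subgroup G) with hL
  have hSL : (S : Subgroup G) ≤ L := le_conjClosure N _
  have h2 : (((n • S : Sylow 2 G) : Subgroup G)) ≤ L := by
    intro x hx
    rw [Sylow.coe_subgroup_smul, Subgroup.mem_pointwise_smul_iff_inv_smul_mem, ← map_inv] at hx
    change n⁻¹ * x * n⁻¹⁻¹ ∈ (S : Subgroup G) at hx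
    have := conj_mem_conjClosure (N := N) (S := (S : Subgroup G)) hn hx
    have e : n * (n⁻¹ * x * n⁻¹⁻¹) * n⁻¹ = x := by group
    rwa [e] at this
  let P : Sylow 2 L := S.subtype hSL
  let Q : Sylow 2 L := (n • S).subtype h2
  obtain ⟨l, hl⟩ := MulAction.exists_smul_eq L P Q
  have key : ∀ x : G, x ∈ (S : Subgroup G) → (l : G) * x * (l : G)⁻¹ ∈ ((n • S : Sylow 2 G) : Subgroup G) := by
    intro x hx
    have h3 : (⟨x, hSL hx⟩ : L) ∈ P := hx
    have h4 : l * ⟨x, hSL hx⟩ * l⁻¹ ∈ Q := by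
      rw [← hl]
      exact ⟨_, h3, rfl⟩
    exact h4
  refine ⟨l, l.2, (l : G)⁻¹ * n, ?_, by group⟩
  have key2 : ∀ x ∈ (S : Subgroup G), n⁻¹ * ((l : G) * x * (l : G)⁻¹) * n ∈ (S : Subgroup G) := by
    intro x hx
    have := key x hx
    rw [Sylow.coe_subgroup_smul, Subgroup.mem_pointwise_smul_iff_inv_smul_mem, ← map_inv] at this
    change n⁻¹ * ((l : G) * x * (l : G)⁻¹) * n⁻¹⁻¹ ∈ (S : Subgroup G) at this
    rwa [inv_inv] at this
  have h5 : (l : G)⁻¹ * n ∈ normalizer ((S : Subgroup G) : Set G) ↔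
      ((l : G)⁻¹ * n)⁻¹ ∈ normalizer ((S : Subgroup G) : Set G) := (inv_mem_iff).symm
  rw [h5, Cfsg.Agent.Lib.GoldschmidtFusion.mem_normalizer_iff_map_conj]
  apply Subgroup.eq_of_le_of_card_ge
  · rintro _ ⟨x, hx, rfl⟩
    change ((l : G)⁻¹ * n)⁻¹ * x * ((l : G)⁻¹ * n)⁻¹⁻¹ ∈ (S : Subgroup G)
    have := key2 x hx
    have e : ((l : G)⁻¹ * n)⁻¹ * x * ((l : G)⁻¹ * n)⁻¹⁻¹ = n⁻¹ * ((l : G) * x * (l : G)⁻¹) * n := by group
    rwa [e]
  · rw [← Nat.card_congr ((S : Subgroup G).equivMapOfInjective (MulAut.conj ((l : G)⁻¹ * n)⁻¹).toMonoidHom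
      (MulAut.conj ((l : G)⁻¹ * n)⁻¹).injective).toEquiv]

/-- an involution of a subgroup containing the Sylow subgroup `S` is conjugate into `S` inside this subgroup -/
theorem exists_conj_mem {H : Subgroup G} (hSH : (S : Subgroup G) ≤ H) {t : G} (ht : t ∈ H) (htt : t * t = 1) :
    ∃ h ∈ H, h * t * h⁻¹ ∈ (S : Subgroup G) := by
  classical
  let P : Sylow 2 H := S.subtype hSH
  have h1 : IsPGroup 2 (Subgroup.zpowers (⟨t, ht⟩ : H)) := by
    rintro ⟨_, k, rfl⟩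
    refine ⟨1, Subtype.ext (Subtype.ext ?_)⟩
    change ((t ^ k) ^ 2 ^ 1 : G) = 1
    rw [pow_one, ← zpow_natCast, ← _root_.zpow_mul, mul_comm, _root_.zpow_mul]
    have : t ^ ((2 : ℕ) : ℤ) = 1 := by rw [zpow_natCast, pow_two, htt]
    rw [this, _root_.one_zpow]
  obtain ⟨Q, hQ⟩ := h1.exists_le_sylow
  obtain ⟨h, hh⟩ := MulAction.exists_smul_eq H Q P
  refine ⟨h, h.2, ?_⟩
  have h2 : (⟨t, ht⟩ : H) ∈ Q := hQ (Subgroup.mem_zpowers _)
  have h3 : h * ⟨t, ht⟩ * h⁻¹ ∈ P := by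
    rw [← hh]
    exact ⟨_, h2, rfl⟩
  exact h3

end general

section hex

variable {F K : Type v} [Field F] [Field K] [Algebra F K] {C : Cubic F K}
variable {G : Type u} [Group G] [Finite G] {S : Sylow 2 G} {co : Coord C (S : Subgroup G)}

theorem S_le_L1 : (S : Subgroup G) ≤ L1 S co := le_conjClosure _ _
theorem S_le_L2 : (S : Subgroup G) ≤ L2 S co := le_conjClosure _ _

theorem nS1 : normalizer ((Da co : Subgroup G) : Set G) ≤ normalizer ((L1 S co : Subgroup G) : Set G) :=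
  le_normalizer_conjClosure _ _
theorem nS2 : normalizer ((Db co : Subgroup G) : Set G) ≤ normalizer ((L2 S co : Subgroup G) : Set G) :=
  le_normalizer_conjClosure _ _

theorem norm1 (hns : OutNS S co) : normalizer ((Da co : Subgroup G) : Set G) ≤
    normalizer ((L1 S co ⊔ L2 S co : Subgroup G) : Set G) := by
  intro n hn
  obtain ⟨l, hl, s, hs, rfl⟩ := frattini S hn
  refine mul_mem (le_normalizer (mem_sup_left hl)) ?_
  exact le_normalizer_sup (hns.nDa.trans nS1) (hns.nDb.trans nS2) hs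

theorem norm2 (hns : OutNS S co) : normalizer ((Db co : Subgroup G) : Set G) ≤
    normalizer ((L1 S co ⊔ L2 S co : Subgroup G) : Set G) := by
  intro n hn
  obtain ⟨l, hl, s, hs, rfl⟩ := frattini S hn
  refine mul_mem (le_normalizer (mem_sup_right hl)) ?_
  exact le_normalizer_sup (hns.nDa.trans nS1) (hns.nDb.trans nS2) hs

/-- centralizers of involutions -/
theorem cent_le (hns : OutNS S co) (hi : OutInv S co) (hc : OutCen S co) {t : G}
    (ht : t ∈ normalizer ((L1 S co ⊔ L2 S co : Subgroup G) : Set G)) (htt : t * t = 1) (ht1 : t ≠ 1) {g : G}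
    (hg : g * t = t * g) : g ∈ normalizer ((L1 S co ⊔ L2 S co : Subgroup G) : Set G) := by
  set H := normalizer ((L1 S co ⊔ L2 S co : Subgroup G) : Set G) with hH
  have hSH : (S : Subgroup G) ≤ H := (S_le_L1 (co := co)).trans (le_sup_left.trans le_normalizer)
  obtain ⟨h, hh, hhS⟩ := exists_conj_mem S hSH ht htt
  obtain ⟨m, hm, hcase⟩ := hi.conj _ hhS (by
    have : h * t * h⁻¹ * (h * t * h⁻¹) = h * (t * t) * h⁻¹ := by group
    rw [this, htt]; group) (by
    intro h1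
    apply ht1
    have : t = h⁻¹ * (h * t * h⁻¹) * h := by group
    rw [this, h1]; group)
  have hmH : m ∈ H := by
    have : normalizer ((Da co : Subgroup G) : Set G) ⊔ normalizer ((Db co : Subgroup G) : Set G) ≤ H :=
      sup_le (norm1 hns) (norm2 hns)
    exact this hm
  have hk : m * h ∈ H := mul_mem hmH hh
  have e : m * (h * t * h⁻¹) * m⁻¹ = (m * h) * t * (m * h)⁻¹ := by group
  rw [e] at hcase
  have hcomm : ((m * h) * g * (m * h)⁻¹) * ((m * h) * t * (m * h)⁻¹) =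
      ((m * h) * t * (m * h)⁻¹) * ((m * h) * g * (m * h)⁻¹) := by
    have e1 : ((m * h) * g * (m * h)⁻¹) * ((m * h) * t * (m * h)⁻¹) = (m * h) * (g * t) * (m * h)⁻¹ := by group
    have e2 : ((m * h) * t * (m * h)⁻¹) * ((m * h) * g * (m * h)⁻¹) = (m * h) * (t * g) * (m * h)⁻¹ := by group
    rw [e1, e2, hg]
  have hne : (m * h) * t * (m * h)⁻¹ ≠ 1 := by
    intro h1
    apply ht1
    have : t = (m * h)⁻¹ * ((m * h) * t * (m * h)⁻¹) * (m * h) := by group
    rw [this, h1]; group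
  have hcent : (m * h) * g * (m * h)⁻¹ ∈ centralizer ({(m * h) * t * (m * h)⁻¹} : Set G) := by
    rw [mem_centralizer_singleton_iff]
    exact hcomm
  have hres : (m * h) * g * (m * h)⁻¹ ∈ H := by
    rcases hcase with h1 | ⟨k, hk0, h1⟩
    · exact norm1 hns (hc.cz _ h1 hne hcent)
    · rw [h1] at hcent
      exact norm2 hns (hc.cu k hk0 hcent)
  have e3 : g = (m * h)⁻¹ * ((m * h) * g * (m * h)⁻¹) * (m * h) := by group
  rw [e3]
  exact mul_mem (mul_mem (inv_mem hk) hres) hk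

theorem exists_Z_ne : ∃ z ∈ Z co, z ≠ 1 := by
  obtain ⟨z, hz, hzc⟩ := exists_cx (co := co) ⟨0, 0, 0, 1, 0, 0⟩
  refine ⟨z, ⟨hz, by rw [hzc], by rw [hzc], by rw [hzc], by rw [hzc], by rw [hzc]⟩, ?_⟩
  rintro rfl
  rw [cx_one] at hzc
  exact one_ne_zero (congrArg Tup.a4 hzc).symm

theorem x3_mem_F0 (k : K) : ((co.x3 k : (S : Subgroup G)) : G) ∈ F0 co := by
  refine ⟨(co.x3 k).2, ?_, ?_, ?_⟩ <;> rw [cx_eq (co.x3 k).2] <;> simp [Coord.e_x3]

omit [Finite G] in
theorem x3_ne_one {k : K} (hk : k ≠ 0) : ((co.x3 k : (S : Subgroup G)) : G) ≠ 1 := by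
  intro h
  have h1 : cx co ((co.x3 k : (S : Subgroup G)) : G) = co.e (co.x3 k) := cx_eq (co.x3 k).2
  rw [h, cx_one, co.e_x3] at h1
  exact hk (congrArg Tup.a3 h1).symm

/-- `G = ⟨L₁, L₂⟩` -/
theorem gen [IsSimpleGroup G] (hns : OutNS S co) (hi : OutInv S co) (hc : OutCen S co) :
    L1 S co ⊔ L2 S co = ⊤ := by
  obtain ⟨z, hz, hz1⟩ := exists_Z_ne (co := co)
  have hSH : (S : Subgroup G) ≤ normalizer ((L1 S co ⊔ L2 S co : Subgroup G) : Set G) :=
    (S_le_L1 (co := co)).trans (le_sup_left.trans le_normalizer)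
  have h1 : normalizer ((L1 S co ⊔ L2 S co : Subgroup G) : Set G) = ⊤ := by
    refine Cfsg.Agent.ClassTwo.Sp4Final.eq_top_of_cent _ (hSH hz.1) (sq_F0 (Z_le_F0 hz)) hz1
      (hSH (co.x3 1).2) (sq_F0 (x3_mem_F0 1)) (x3_ne_one one_ne_zero)
      (fun t ht htt ht1 g hg => cent_le hns hi hc ht htt ht1 hg) (fun g => hi.ne z hz hz1 1 one_ne_zero g)
  have h2 : (L1 S co ⊔ L2 S co : Subgroup G).Normal := Subgroup.normalizer_eq_top_iff.1 h1
  rcases h2.eq_bot_or_eq_top with h | h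
  · exfalso
    apply hz1
    have : z ∈ L1 S co ⊔ L2 S co := mem_sup_left (S_le_L1 hz.1)
    rwa [h, Subgroup.mem_bot] at this
  · exact h

/-- **The output of the global analysis.** -/
theorem exists_lev [IsSimpleGroup G] (h1 : Out1 S co) (h2 : Out2 S co) (hi : OutInv S co) (hc : OutCen S co)
    (hns : OutNS S co) (hp1 : OutP1 S co) (hp2 : OutP2 S co) : Nonempty (Lev S co) := by
  obtain ⟨p1, a1, a2, a3⟩ := hp1
  obtain ⟨p2, b1, b2, b3⟩ := hp2
  exact ⟨⟨p1, p2, a1, b1, a2, b2, a3, b3, h1, h2, hi, hc, hns, nS1, nS2, fun n hn => frattini S hn,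
    fun n hn => frattini S hn, gen hns hi hc⟩⟩

end hex

end Cfsg.Agent.HexGlob.Close
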