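import Cfsg.Agent.HexGlob.Facts
import Cfsg.Agent.HexEss.Step1

/-!
# Both `Da` and `Db` are essential (piece G1)

Fusion in `S` is generated by `N(S)`, `N(Da)`, `N(Db)`; `Z` and `E2` are not strongly closed, so
`Da`, `Db` are essential and `N(Da)` does not normalise `E2`, `N(Db)` does not normalise `Z`.
-/

set_option autoImplicit false

namespace Cfsg.Agent.HexGlob.EssBoth

open Cfsg.Agent.HexRec Cfsg.Agent.HexEss Subgroup Cfsg.Agent.Lib.GoldschmidtFusion Cfsg.Agent.Lib
open Cfsg.Agent.TypeL3 Cfsg.Agent.HexGlob.Facts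

universe u v

variable {F K : Type v} [Field F] [Field K] [Algebra F K] {C : Cubic F K}
variable {G : Type u} [Group G] [Finite G]

/-- fusion in `S` is generated by `N(S)`, `N(Da)`, `N(Db)` -/
theorem gen (hE : HEss.{u} C) (S : Sylow 2 G) (co : Coord C (S : Subgroup G)) {A : Subgroup G}
    (hA : A ≤ S) {g : G} (hg : A.map (MulAut.conj g).toMonoidHom ≤ S) :
    Gen (S : Subgroup G) (fun X => X = S ∨ X = Da co ∨ X = Db co) A g :=
  EssBridge.gen_of_conj S _ (Or.inl rfl) (fun X hX => Or.inr (hE G S co X hX)) hA hg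

/-- a subgroup normalised by the normalisers of the family is strongly closed -/
theorem closed_of_gen {S : Sylow 2 G} {Fam : Subgroup G → Prop} {A : Subgroup G} (hAS : A ≤ S)
    (hgen : ∀ (B : Subgroup G) (g : G), B ≤ S → B.map (MulAut.conj g).toMonoidHom ≤ S →
      Gen (S : Subgroup G) Fam B g)
    (hF : ∀ X, Fam X → normalizer (X : Set G) ≤ normalizer (A : Set G)) :
    Cfsg.IsStronglyClosed A (S : Subgroup G) := by
  refine ⟨hAS, fun x hx g hg => ?_⟩
  have h1 : zpowers x ≤ (S : Subgroup G) := zpowers_le.2 (hAS hx)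
  have h2 := hgen (zpowers x) g h1 (zpowers_map_conj_le hg)
  have h3 := h2.invariant (fun y => y ∈ A) ?_ x (mem_zpowers x)
  · exact (iff_of_eq h3).2 hx
  · intro X _ hX n hn y _
    exact propext (conj_mem_iff_of_mem_normalizer (hF X hX hn))


section

variable {S : Sylow 2 G}

/-- `x1(1)` is an involution outside `Da` -/
theorem exists_involution (co : Coord C (S : Subgroup G)) :
    ∃ x ∈ (S : Subgroup G), x * x = 1 ∧ (cx co x).a1 ≠ 0 := by
  obtain ⟨x, hx, hxc⟩ := exists_cx (co := co) ⟨1, 0, 0, 0, 0, 0⟩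
  have h6 : (cx co x).a6 = 0 := by rw [hxc]
  refine ⟨x, hx, ?_, by rw [hxc]; exact one_ne_zero⟩
  refine eq_one_of_cx (co := co) (mul_mem hx hx) (a1_sq hx) ?_ ?_ ?_ ?_ (a6_sq hx)
  · rw [a2_sq_Db hx h6, hxc]; simp [Cubic.T_zero_right]
  · rw [a3_sq_Db hx h6, hxc, C.cr_zero_right]
  · rw [a4_sq_Db hx h6, hxc, C.sh_zero, C.T_zero_right, C.T_zero_right, add_zero]
  · rw [a5_sq hx, h6, zero_smul]

theorem Z_ne_bot (co : Coord C (S : Subgroup G)) : (Z co : Subgroup G) ≠ ⊥ := by
  obtain ⟨z, hz, hz1⟩ := Step1.exists_Z_ne_one co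
  intro h
  rw [h] at hz
  exact hz1 (mem_bot.1 hz)

/-- no nontrivial subgroup of `E2` is strongly closed -/
theorem not_closed (h1169 : H1169.{u}) [IsSimpleGroup G] (co : Coord C (S : Subgroup G)) {A : Subgroup G}
    (hA : Cfsg.IsStronglyClosed A (S : Subgroup G)) (hne : A ≠ ⊥) (hAE : A ≤ E2 co) : False := by
  obtain ⟨x, hx, hx2, hx1⟩ := exists_involution co
  have hcomm : IsMulCommutative A := ⟨⟨fun a b => Subtype.ext (by
    exact cm_eq_one.1 (cm_F0_F0 (co := co) (E2_le_F0 (hAE a.2)) (E2_le_F0 (hAE b.2))))⟩⟩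
  rcases h1169 G S A hne hcomm hA with h1 | ⟨H, hH⟩
  · have h2 : x ∈ Z co := mem_Z_of_center hx (fun y hy => cm_eq_one.2
      (congrArg Subtype.val (h1.1.1 (⟨y, hy⟩ : (S : Subgroup G)) ⟨x, hx⟩)))
    exact hx1 h2.2.1
  · obtain ⟨a, ha, ha1⟩ : ∃ a ∈ A, a ≠ 1 := by
      by_contra h0
      push Not at h0
      exact hne ((Subgroup.eq_bot_iff_forall _).2 h0)
    have h2 := mem_of_stronglyEmbedded hH hA ha (sq_F0 (co := co) (E2_le_F0 (hAE ha))) ha1 hx hx2
    exact hx1 (hAE h2).2.1

theorem nS_Z {co : Coord C (S : Subgroup G)} :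
    normalizer ((S : Subgroup G) : Set G) ≤ normalizer ((Z co : Subgroup G) : Set G) :=
  le_normalizer_Z_of_P le_rfl

variable (h1169 : H1169.{u}) [IsSimpleGroup G] (hD : Dat C) (hE : HEss.{u} C)
  (co : Coord C (S : Subgroup G))

include h1169 hD hE

/-- `N(Da)` does not normalise `E2` -/
theorem not_le_normalizer_E2 :
    ¬ normalizer ((Da co : Subgroup G) : Set G) ≤ normalizer ((E2 co : Subgroup G) : Set G) := by
  intro h
  have hcl : Cfsg.IsStronglyClosed (E2 co) (S : Subgroup G) := by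
    refine closed_of_gen E2_le (fun B g hB hg => gen hE S co hB hg) ?_
    rintro X (rfl | rfl | rfl)
    · exact le_normalizer_E2_of_P hD le_rfl
    · exact h
    · exact le_normalizer_E2_of_Db le_rfl
  refine not_closed h1169 co hcl (fun h0 => Z_ne_bot co ?_) le_rfl
  exact le_bot_iff.1 (h0 ▸ Z_le_E2)

/-- `N(Db)` does not normalise `Z` -/
theorem not_le_normalizer_Z :
    ¬ normalizer ((Db co : Subgroup G) : Set G) ≤ normalizer ((Z co : Subgroup G) : Set G) := by
  intro h
  have hcl : Cfsg.IsStronglyClosed (Z co) (S : Subgroup G) := by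
    refine closed_of_gen Z_le (fun B g hB hg => gen hE S co hB hg) ?_
    rintro X (rfl | rfl | rfl)
    · exact nS_Z
    · exact le_normalizer_Z_of_Da le_rfl
    · exact h
  exact not_closed h1169 co hcl (Z_ne_bot co) Z_le_E2

/-- `Da` is essential -/
theorem ess_Da : EssDefs.Ess 2 (S : Subgroup G) (Da co) := by
  by_contra hcon
  have hcl : Cfsg.IsStronglyClosed (E2 co) (S : Subgroup G) := by
    refine closed_of_gen (Fam := fun X => X = S ∨ X = Db co) E2_le
      (fun B g hB hg => EssBridge.gen_of_conj S _ (Or.inl rfl) (fun X hX => ?_) hB hg) ?_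
    · rcases hE G S co X hX with rfl | rfl
      · exact absurd hX hcon
      · exact Or.inr rfl
    · rintro X (rfl | rfl)
      · exact le_normalizer_E2_of_P hD le_rfl
      · exact le_normalizer_E2_of_Db le_rfl
  refine not_closed h1169 co hcl (fun h0 => Z_ne_bot co ?_) le_rfl
  exact le_bot_iff.1 (h0 ▸ Z_le_E2)

/-- `Db` is essential -/
theorem ess_Db : EssDefs.Ess 2 (S : Subgroup G) (Db co) := by
  by_contra hcon
  have hcl : Cfsg.IsStronglyClosed (Z co) (S : Subgroup G) := by
    refine closed_of_gen (Fam := fun X => X = S ∨ X = Da co) Z_le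
      (fun B g hB hg => EssBridge.gen_of_conj S _ (Or.inl rfl) (fun X hX => ?_) hB hg) ?_
    · rcases hE G S co X hX with rfl | rfl
      · exact Or.inr rfl
      · exact absurd hX hcon
    · rintro X (rfl | rfl)
      · exact nS_Z
      · exact le_normalizer_Z_of_Da le_rfl
  exact not_closed h1169 co hcl (Z_ne_bot co) Z_le_E2

end

end Cfsg.Agent.HexGlob.EssBoth
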