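import Cfsg.Agent.HexGlob.Spec
import Cfsg.Agent.HexRec.Frame
import Cfsg.Agent.HexRec.OfPair
import Cfsg.Agent.HexRec.Model
import Cfsg.Prelude.Def_ChevG2
import Cfsg.Prelude.Def_LieTwisted

/-!
# Skeleton of the final theorem (S1770)

Named propositions for the pieces and `main`: the literal conclusion of S1770 from them.
-/

set_option autoImplicit false

namespace Cfsg.Agent.HexGlob.FinalS

open Cfsg.Agent.HexRec Cfsg.Agent.HexGlob Cfsg.Agent.Hex.Defs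

universe u

/-- GLOBAL + REC: a simple group with hexagonal Sylow 2-subgroup is generated by a frame -/
def GlobalFrame : Prop := ∀ {F K : Type} [Field F] [Field K] [Algebra F K] {C : Cubic F K}, Dat C →
  ∀ {G : Type u} [Group G] [Finite G] [IsSimpleGroup G] (S : Sylow 2 G) (_ : Coord C (S : Subgroup G)),
  ∃ Φ : Frame C G, Subgroup.closure ((Φ.S : Set G) ∪ {Φ.na, Φ.nb}) = ⊤

/-- the model `M`, with Sylow 2-subgroups having coordinates over `C`, and identification -/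
def Inst {F K : Type} [Field F] [Field K] [Algebra F K] (C : Cubic F K) (M : Type) [Group M] : Prop :=
  Dat C ∧ (∀ P : Sylow 2 M, Nonempty (Coord C (P : Subgroup M))) ∧
  ∀ {G : Type u} [Group G] [IsSimpleGroup G] (Φ : Frame C G),
    Subgroup.closure ((Φ.S : Set G) ∪ {Φ.na, Φ.nb}) = ⊤ → Nonempty (G ≃* M)

/-- model side of `G₂(2^r)`, `r ≥ 2` -/
def InstG2 : Prop := ∀ (F : Type) [Field F] [Fintype F] (r : ℕ), 2 ≤ r → Fintype.card F = 2 ^ r →
  ∃ C : Cubic F F, Inst.{u} C ↥(Cfsg.Lie.chevG2.group F)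

/-- model side of `³D₄(2^r)`, `r ≥ 2` -/
def InstD4 : Prop := ∀ (K : Type) [Field K] [Fintype K] (r : ℕ), 2 ≤ r → Fintype.card K = 8 ^ r →
  ∃ (F : Type) (_ : Field F) (_ : Algebra F K) (C : Cubic F K), Inst.{u} C ↥(Cfsg.Lie.twistedD4 K (2 ^ r))

/-- the case `³D₄(2)` -/
def TwoD4 : Prop := ∀ (K : Type) [Field K] [Fintype K], Fintype.card K = 8 →
  ∀ {G : Type u} [Group G] [Finite G] [IsSimpleGroup G] (S : Sylow 2 G) (P : Sylow 2 ↥(Cfsg.Lie.twistedD4 K 2)),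
    Nonempty (↥(S : Subgroup G) ≃* ↥(P : Subgroup ↥(Cfsg.Lie.twistedD4 K 2))) →
      Nonempty (G ≃* ↥(Cfsg.Lie.twistedD4 K 2))

theorem of_inst (hglob : GlobalFrame.{u}) {F K : Type} [Field F] [Field K] [Algebra F K] {C : Cubic F K}
    {M : Type} [Group M] (h : Inst.{u} C M) {G : Type u} [Group G] [Finite G] [IsSimpleGroup G] (S : Sylow 2 G)
    (P : Sylow 2 M) (hSP : Nonempty (↥(S : Subgroup G) ≃* ↥(P : Subgroup M))) : Nonempty (G ≃* M) := by
  obtain ⟨hd, hc, hi⟩ := h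
  obtain ⟨co⟩ := hc P
  obtain ⟨f⟩ := hSP
  obtain ⟨Φ, hΦ⟩ := hglob hd S (Model.transport co f)
  exact hi Φ hΦ

/-- **S1770 from the pieces.** -/
theorem main (hglob : GlobalFrame.{u}) (hG2 : InstG2.{u}) (hD4 : InstD4.{u}) (htwo : TwoD4.{u})
    {G : Type u} [Group G] [Finite G] [IsSimpleGroup G] (S : Sylow 2 G) (r : ℕ) :
    (∀ (F : Type) [Field F] [Fintype F], 2 ≤ r → Fintype.card F = 2 ^ r →
        ∀ P : Sylow 2 ↥(Cfsg.Lie.chevG2.group F), Nonempty (↥(S : Subgroup G) ≃* ↥(P : Subgroup ↥(Cfsg.Lie.chevG2.group F))) →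
          Nonempty (G ≃* ↥(Cfsg.Lie.chevG2.group F))) ∧
      (∀ (K : Type) [Field K] [Fintype K], 1 ≤ r → Fintype.card K = 8 ^ r →
        ∀ P : Sylow 2 ↥(Cfsg.Lie.twistedD4 K (2 ^ r)), Nonempty (↥(S : Subgroup G) ≃* ↥(P : Subgroup ↥(Cfsg.Lie.twistedD4 K (2 ^ r)))) →
          Nonempty (G ≃* ↥(Cfsg.Lie.twistedD4 K (2 ^ r)))) := by
  refine ⟨fun F _ _ hr hF P hSP => ?_, fun K _ _ hr hK P hSP => ?_⟩
  · obtain ⟨C, hC⟩ := hG2 F r hr hF
    exact of_inst hglob hC S P hSP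
  · rcases Nat.lt_or_ge 1 r with h | h
    · obtain ⟨F, _, _, C, hC⟩ := hD4 K r h hK
      exact of_inst hglob hC S P hSP
    · obtain rfl : r = 1 := le_antisymm h hr
      rw [pow_one] at hK
      exact htwo K hK S P hSP

end Cfsg.Agent.HexGlob.FinalS
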