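import Mathlib
import Cfsg.Agent.HexGlob.OneSpec
import Cfsg.Agent.HexEss.Common
import Cfsg.Agent.TypeL3.Fusion

/-!
# The representation of `L` on `Da / Z`

`L ≤ N_G(Da)` centralizing `Z`: `rho hL hZ : L →* (MM F K ≃ₗ[F] MM F K)`, with
`rho_wA : wA co (l x l⁻¹) = rho l (wA co x)` for `x ∈ Da`.
-/

set_option autoImplicit false

namespace Cfsg.Agent.HexGlob.OneRep

open Cfsg.Agent.HexRec Cfsg.Agent.HexEss Cfsg.Agent.HexEss.Abel Subgroup Cfsg.Agent.HexGlob.OneSpec

variable {F K : Type*} [Field F] [Field K] [Algebra F K] {C : Cubic F K}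
  {G : Type*} [Group G] [Finite G] {P : Subgroup G} {co : Coord C P}

omit [Finite G] in
theorem wA_one : wA co 1 = 0 := by simp [wA, cx_one]

theorem wA_inv {x : G} (hx : x ∈ Da co) : wA co x⁻¹ = wA co x := by
  have h := wA_mul (co := co) (inv_mem hx) hx
  rw [inv_mul_cancel, wA_one] at h
  have h2 : wA co x⁻¹ = - wA co x := eq_neg_of_add_eq_zero_left h.symm
  rw [h2]
  refine Prod.ext (C.neg_eq _) (Prod.ext (C.neg_eqK _) (Prod.ext (C.neg_eqK _) (C.neg_eq _)))

theorem wA_eq_iff {x y : G} (hx : x ∈ Da co) (hy : y ∈ Da co) : wA co x = wA co y ↔ x⁻¹ * y ∈ Z co := by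
  refine ⟨wA_inv_mul hx hy, fun h => ?_⟩
  have h1 := wA_mul (co := co) hx (Z_le_Da h)
  rw [mul_inv_cancel_left, (wA_eq_zero (Z_le_Da h)).2 h, add_zero] at h1
  exact h1.symm

theorem sq_mem_Z {x : G} (hx : x ∈ Da co) : x * x ∈ Z co := by
  rw [← wA_eq_zero (mul_mem hx hx), wA_mul hx hx]
  exact Prod.ext (C.add_self _) (Prod.ext (C.add_selfK _) (Prod.ext (C.add_selfK _) (C.add_self _)))

theorem a4_sq {x : G} (hx : x ∈ Da co) : (cx co (x * x)).a4 = qf C (wA co x) := by
  rw [a4_sq_Da hx.1 hx.2, qf, wA]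
  simp only
  rw [C.T_comm]

theorem eq_of_a4 {x y : G} (hx : x ∈ Z co) (hy : y ∈ Z co) (h : (cx co x).a4 = (cx co y).a4) : x = y := by
  apply cx_inj (co := co) hx.1 hy.1
  exact Tup.ext (hx.2.1.trans hy.2.1.symm) (hx.2.2.1.trans hy.2.2.1.symm) (hx.2.2.2.1.trans hy.2.2.2.1.symm) h
    (hx.2.2.2.2.1.trans hy.2.2.2.2.1.symm) (hx.2.2.2.2.2.trans hy.2.2.2.2.2.symm)

theorem sq_eq_one_iff {x : G} (hx : x ∈ Da co) : x * x = 1 ↔ qf C (wA co x) = 0 := by
  rw [← a4_sq hx]
  constructor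
  · intro h; rw [h, cx_one]
  · intro h
    exact eq_of_a4 (sq_mem_Z hx) (one_mem _) (by rw [h, cx_one])

/-- `x1`-coordinates: the action of `P` on `Da / Z` -/
theorem wA_conj {s x : G} (hs : s ∈ P) (hx : x ∈ Da co) :
    wA co (s * x * s⁻¹) = AA C (cx co s).a1 (wA co x) := by
  have h1 : cm s x ∈ Da co := RR_le_Da (cm_mem_RR hs hx.1)
  rw [conj_eq_cm_mul, wA_mul h1 hx]
  unfold wA
  rw [a6_cm hs hx.1, a5_cm_Da hs hx.1 hx.2, a3_cm_Da hs hx.1 hx.2, a2_cm_Da hs hx.1 hx.2, AA_apply]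
  refine Prod.ext ?_ (Prod.ext ?_ (Prod.ext ?_ ?_))
  · simp
  · simp only [Prod.mk_add_mk]; abel
  · simp only [Prod.mk_add_mk]; abel
  · simp only [Prod.mk_add_mk]; ring

variable (L : Subgroup G)

/-- `L` normalises `Da` and centralises `Z` -/
structure Acts (co : Coord C P) (L : Subgroup G) : Prop where
  nor : ∀ l ∈ L, ∀ x ∈ Da co, l * x * l⁻¹ ∈ Da co
  cen : ∀ l ∈ L, ∀ z ∈ Z co, l * z = z * l

variable {L} (hL : Acts co L)

/-- a lift of `w` to `Da` -/
noncomputable def lift (co : Coord C P) (w : MM F K) : G := (exists_wA (co := co) w).choose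

theorem lift_mem (w : MM F K) : lift co w ∈ Da co := (exists_wA (co := co) w).choose_spec.1
theorem wA_lift (w : MM F K) : wA co (lift co w) = w := (exists_wA (co := co) w).choose_spec.2

include hL in
theorem Acts.conj_Z {l : G} (hl : l ∈ L) {z : G} (hz : z ∈ Z co) : l * z * l⁻¹ = z := by
  rw [hL.cen l hl z hz, mul_inv_cancel_right]

include hL in
theorem Acts.wA_congr {l : G} (hl : l ∈ L) {x y : G} (hx : x ∈ Da co) (hy : y ∈ Da co) (h : wA co x = wA co y) :
    wA co (l * x * l⁻¹) = wA co (l * y * l⁻¹) := by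
  rw [wA_eq_iff (hL.nor l hl x hx) (hL.nor l hl y hy)]
  have e : (l * x * l⁻¹)⁻¹ * (l * y * l⁻¹) = l * (x⁻¹ * y) * l⁻¹ := by group
  have h2 := (wA_eq_iff hx hy).1 h
  rw [e, hL.conj_Z hl h2]
  exact h2

include hL in
/-- the form is invariant -/
theorem Acts.form_conj {l : G} (hl : l ∈ L) {x y : G} (hx : x ∈ Da co) (hy : y ∈ Da co) :
    formA C (wA co (l * x * l⁻¹)) (wA co (l * y * l⁻¹)) = formA C (wA co x) (wA co y) := by
  rw [← cm_Da_eq (hL.nor l hl x hx) (hL.nor l hl y hy), ← cm_Da_eq hx hy, ← conj_cm,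
    hL.conj_Z hl (cm_mem_Z_of_Da hx hy)]

include hL in
theorem Acts.quad_conj {l : G} (hl : l ∈ L) {x : G} (hx : x ∈ Da co) :
    qf C (wA co (l * x * l⁻¹)) = qf C (wA co x) := by
  rw [← a4_sq (hL.nor l hl x hx), ← a4_sq hx]
  have e : l * x * l⁻¹ * (l * x * l⁻¹) = l * (x * x) * l⁻¹ := by group
  rw [e, hL.conj_Z hl (sq_mem_Z hx)]

/-- the action as a function -/
noncomputable def rhoFun (co : Coord C P) (l : G) (w : MM F K) : MM F K := wA co (l * lift co w * l⁻¹)

include hL in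
theorem Acts.rhoFun_wA {l : G} (hl : l ∈ L) {x : G} (hx : x ∈ Da co) :
    rhoFun co l (wA co x) = wA co (l * x * l⁻¹) :=
  hL.wA_congr hl (lift_mem _) hx (wA_lift _)

include hL in
theorem Acts.rhoFun_mul {l m : G} (hl : l ∈ L) (hm : m ∈ L) (w : MM F K) :
    rhoFun co l (rhoFun co m w) = rhoFun co (l * m) w := by
  have h1 : rhoFun co m w = wA co (m * lift co w * m⁻¹) := rfl
  rw [h1, hL.rhoFun_wA hl (hL.nor m hm _ (lift_mem _))]
  unfold rhoFun
  congr 1
  group

theorem rhoFun_one (w : MM F K) : rhoFun co 1 w = w := by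
  unfold rhoFun
  rw [one_mul, inv_one, mul_one, wA_lift]

include hL in
theorem Acts.rhoFun_add {l : G} (hl : l ∈ L) (w w' : MM F K) :
    rhoFun co l (w + w') = rhoFun co l w + rhoFun co l w' := by
  have h1 : w + w' = wA co (lift co w * lift co w') := by
    rw [wA_mul (lift_mem _) (lift_mem _), wA_lift, wA_lift]
  rw [h1, hL.rhoFun_wA hl (mul_mem (lift_mem _) (lift_mem _))]
  have e : l * (lift co w * lift co w') * l⁻¹ = (l * lift co w * l⁻¹) * (l * lift co w' * l⁻¹) := by group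
  rw [e, wA_mul (hL.nor l hl _ (lift_mem _)) (hL.nor l hl _ (lift_mem _))]
  rfl

include hL in
theorem Acts.form_rhoFun {l : G} (hl : l ∈ L) (w w' : MM F K) :
    formA C (rhoFun co l w) (rhoFun co l w') = formA C w w' := by
  have := hL.form_conj hl (lift_mem w) (lift_mem w')
  rw [wA_lift, wA_lift] at this
  exact this

include hL in
theorem Acts.rhoFun_smul {l : G} (hl : l ∈ L) (f : F) (w : MM F K) :
    rhoFun co l (f • w) = f • rhoFun co l w := by
  have key : rhoFun co l (f • w) - f • rhoFun co l w = 0 := by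
    apply (formA_nondegenerate (C := C)).1
    intro v
    have h1 : v = rhoFun co l (rhoFun co l⁻¹ v) := by
      rw [hL.rhoFun_mul hl (inv_mem hl), mul_inv_cancel, rhoFun_one]
    rw [map_sub, map_smul, LinearMap.sub_apply, LinearMap.smul_apply, h1, hL.form_rhoFun hl, hL.form_rhoFun hl,
      map_smul, LinearMap.smul_apply, sub_self]
  exact sub_eq_zero.1 key

/-- the action of an element of `L` as a linear equivalence -/
noncomputable def rhoEquiv (hL : Acts co L) (l : L) : MM F K ≃ₗ[F] MM F K where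
  toFun := rhoFun co (l : G)
  invFun := rhoFun co (l : G)⁻¹
  map_add' := hL.rhoFun_add l.2
  map_smul' := fun f w => hL.rhoFun_smul l.2 f w
  left_inv := fun w => by rw [hL.rhoFun_mul (inv_mem l.2) l.2, inv_mul_cancel, rhoFun_one]
  right_inv := fun w => by rw [hL.rhoFun_mul l.2 (inv_mem l.2), mul_inv_cancel, rhoFun_one]

/-- the representation of `L` on `Da / Z` -/
noncomputable def rho (hL : Acts co L) : L →* (MM F K ≃ₗ[F] MM F K) where
  toFun := rhoEquiv hL
  map_one' := LinearEquiv.ext fun w => rhoFun_one w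
  map_mul' := fun l m => LinearEquiv.ext fun w => (hL.rhoFun_mul l.2 m.2 w).symm

theorem rho_wA (l : L) {x : G} (hx : x ∈ Da co) : rho hL l (wA co x) = wA co ((l : G) * x * (l : G)⁻¹) :=
  hL.rhoFun_wA l.2 hx

theorem form_rho (l : L) (w w' : MM F K) : formA C (rho hL l w) (rho hL l w') = formA C w w' :=
  hL.form_rhoFun l.2 w w'

theorem quad_rho (l : L) (w : MM F K) : qf C (rho hL l w) = qf C w := by
  have := hL.quad_conj l.2 (lift_mem (co := co) w)
  rw [wA_lift] at this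
  exact this

theorem rho_of_mem {s : G} (hs : s ∈ P) (hsL : s ∈ L) : rho hL ⟨s, hsL⟩ = AA C (cx co s).a1 := by
  apply LinearEquiv.ext
  intro w
  rw [← wA_lift (co := co) w, rho_wA hL _ (lift_mem _)]
  exact wA_conj hs (lift_mem _)

theorem rho_eq_one_iff (l : L) : rho hL l = 1 ↔ ∀ x ∈ Da co, cm (l : G) x ∈ Z co := by
  constructor
  · intro h x hx
    have h1 := rho_wA hL l hx
    rw [h] at h1
    have h2 : wA co x = wA co ((l : G) * x * (l : G)⁻¹) := h1
    have h3 := (wA_eq_iff (hL.nor _ l.2 x hx) hx).1 h2.symm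
    have e : ((l : G) * x * (l : G)⁻¹)⁻¹ * x = x⁻¹ * (cm (l : G) x)⁻¹ * x := by unfold cm; group
    rw [e] at h3
    have hxZ := (cm_eq_one.1 (cm_Z (co := co) hx.1 h3))
    have e2 : (cm (l : G) x)⁻¹ = x⁻¹ * (cm (l : G) x)⁻¹ * x := by
      have h4 : x * (x⁻¹ * (cm (l : G) x)⁻¹ * x) = (x⁻¹ * (cm (l : G) x)⁻¹ * x) * x := hxZ
      have h5 : (cm (l : G) x)⁻¹ * x = (x⁻¹ * (cm (l : G) x)⁻¹ * x) * x := by rw [← h4]; group
      exact mul_right_cancel h5
    rw [← e2] at h3
    exact (Subgroup.inv_mem_iff _).1 h3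
  · intro h
    apply LinearEquiv.ext
    intro w
    rw [← wA_lift (co := co) w, rho_wA hL _ (lift_mem _)]
    have h1 := h _ (lift_mem (co := co) w)
    have h2 : wA co (cm (l : G) (lift co w) * lift co w) = wA co (lift co w) := by
      rw [wA_mul (Z_le_Da h1) (lift_mem _), (wA_eq_zero (Z_le_Da h1)).2 h1, zero_add]
    rw [conj_eq_cm_mul, h2]
    rfl

theorem Z_le_center_Da : Da co ≤ centralizer ((Z co : Subgroup G) : Set G) := by
  intro x hx
  rw [mem_centralizer_iff]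
  intro z hz
  exact (cm_eq_one.1 (cm_Z (co := co) hx.1 hz)).symm

omit [Finite G] in
theorem centralizer_le_normalizer' (A : Subgroup G) : centralizer (A : Set G) ≤ normalizer (A : Set G) := by
  intro c hc
  rw [mem_normalizer_iff]
  intro x
  constructor
  · intro hx
    rw [← (mem_centralizer_iff.1 hc) x hx, mul_inv_cancel_right]
    exact hx
  · intro hx
    have h1 := (mem_centralizer_iff.1 hc) _ hx
    have h2 : x = c * x * c⁻¹ := by
      have h3 : c * x * c⁻¹ * c = c * (c * x * c⁻¹) := h1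
      have h4 : c * x = c * (c * x * c⁻¹) := by rw [← h3]; group
      exact mul_left_cancel h4
    rw [h2]; exact hx

/-- the elements acting trivially on `Da / Z` and `Z` -/
noncomputable def XX (co : Coord C P) : Subgroup G :=
  cenMod (centralizer ((Z co : Subgroup G) : Set G)) (Da co) (Z co) (centralizer_le_normalizer' _)

theorem mem_XX {g : G} : g ∈ XX co ↔ g ∈ centralizer ((Z co : Subgroup G) : Set G) ∧ ∀ d ∈ Da co, cm g d ∈ Z co :=
  Iff.rfl

theorem K0_le_XX : Da co ⊔ centralizer ((Da co : Subgroup G) : Set G) ≤ XX co := by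
  apply sup_le
  · intro x hx
    exact ⟨Z_le_center_Da hx, fun d hd => cm_mem_Z_of_Da hx hd⟩
  · intro c hc
    refine ⟨centralizer_le Z_le_Da hc, fun d hd => ?_⟩
    rw [cm_eq_one.2 ((mem_centralizer_iff.1 hc) d hd).symm]
    exact one_mem _

/-- `K0 = Da C_G(Da)` acts trivially -/
theorem rho_eq_one_of_mem (l : L) (h : (l : G) ∈ Da co ⊔ centralizer ((Da co : Subgroup G) : Set G)) :
    rho hL l = 1 := by
  rw [rho_eq_one_iff]
  exact (K0_le_XX h).2

theorem sq_mem_of_XX {g : G} (hg : g ∈ XX co) : g * g ∈ centralizer ((Da co : Subgroup G) : Set G) := by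
  rw [mem_centralizer_iff]
  intro x hx
  have h1 := hg.2 x hx
  have h2 : g * cm g x = cm g x * g := ((mem_centralizer_iff.1 hg.1) _ h1).symm
  have h3 : cm (g * g) x = 1 := by
    have e : cm (g * g) x = g * cm g x * g⁻¹ * cm g x := by unfold cm; group
    rw [e, h2, mul_inv_cancel_right]
    exact sq_F0 (Z_le_F0 h1)
  exact (cm_eq_one.1 h3).symm

section sylow

variable {S : Sylow 2 G} {co : Coord C (S : Subgroup G)}

/-- the elements acting trivially on `Da / Z` and `Z` are in `Da C_G(Da)` -/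
theorem XX_le : XX co ≤ Da co ⊔ centralizer ((Da co : Subgroup G) : Set G) := by
  intro g hg
  obtain ⟨a, m, hm, hn⟩ := Nat.exists_eq_two_pow_mul_odd (orderOf_pos g).ne'
  obtain ⟨j, hj⟩ := hm
  have hc : (g * g) ^ j ∈ centralizer ((Da co : Subgroup G) : Set G) := pow_mem (sq_mem_of_XX hg) j
  have hgm : g ^ m = (g * g) ^ j * g := by
    rw [hj, pow_add, pow_one, pow_mul, pow_two]
  -- the 2-part
  have h2 : IsPGroup 2 (zpowers (g ^ m)) := by
    refine IsPGroup.of_card (n := a) ?_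
    rw [Nat.card_zpowers, orderOf_pow, hn]
    have : Nat.gcd (2 ^ a * m) m = m := Nat.gcd_eq_right (Dvd.intro_left _ rfl)
    rw [this, Nat.mul_div_cancel]
    omega
  have hSN : (S : Subgroup G) ≤ normalizer ((Da co : Subgroup G) : Set G) :=
    le_normalizer_of fun s hs x hx => by
      rw [conj_eq_cm_mul]; exact mul_mem (RR_le_Da (cm_mem_RR hs hx.1)) hx
  have hXN : XX co ≤ normalizer ((Da co : Subgroup G) : Set G) := fun x hx => by
    refine mem_normalizer_of_cm fun d hd => Z_le_Da (hx.2 d hd)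
  have hZN : normalizer ((Da co : Subgroup G) : Set G) ≤ normalizer ((Z co : Subgroup G) : Set G) := by
    refine le_normalizer_of fun n hn z hz => ?_
    have h3 := conj_mem_of_le (N := normalizer ((Da co : Subgroup G) : Set G)) le_rfl hn (Z_le_Da hz)
    apply mem_Z_of_Da h3
    intro t ht
    have h4 := conj_mem_of_le (N := normalizer ((Da co : Subgroup G) : Set G)) le_rfl (inv_mem hn) ht
    have h5 : cm (n⁻¹ * t * n⁻¹⁻¹) z = 1 := cm_Z h4.1 hz
    have h6 := congrArg (fun y => n * y * n⁻¹) h5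
    simp only [conj_cm] at h6
    rw [mul_one, mul_inv_cancel] at h6
    rw [← h6]
    congr 1
    group
  have hCN : normalizer ((Da co : Subgroup G) : Set G) ≤
      normalizer ((centralizer ((Z co : Subgroup G) : Set G) : Subgroup G) : Set G) := by
    refine le_normalizer_of fun n hn c hc => ?_
    rw [mem_centralizer_iff]
    intro z hz
    have h3 := conj_mem_of_le hZN (inv_mem hn) hz
    have h4 := (mem_centralizer_iff.1 hc) _ h3
    have h5 : n * (n⁻¹ * z * n⁻¹⁻¹ * c) * n⁻¹ = n * (c * (n⁻¹ * z * n⁻¹⁻¹)) * n⁻¹ := by rw [h4]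
    have e1 : n * (n⁻¹ * z * n⁻¹⁻¹ * c) * n⁻¹ = z * (n * c * n⁻¹) := by group
    have e2 : n * (c * (n⁻¹ * z * n⁻¹⁻¹)) * n⁻¹ = n * c * n⁻¹ * z := by group
    rw [e1, e2] at h5
    exact h5
  have hNX : normalizer ((Da co : Subgroup G) : Set G) ≤ normalizer ((XX co : Subgroup G) : Set G) :=
    le_normalizer_cenMod hCN le_rfl hZN
  obtain ⟨n, hn', hnS⟩ := Cfsg.Agent.Lib.GoldschmidtFusion.exists_conj_le_in (p := 2) S.isPGroup'
    (Cfsg.Agent.TypeL3.sylow_not_dvd_relIndex S hSN)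
    ((zpowers_le.2 (pow_mem (hXN hg) m)) : zpowers (g ^ m) ≤ _) h2
  have h3 : n * g ^ m * n⁻¹ ∈ (S : Subgroup G) := hnS ⟨g ^ m, mem_zpowers _, rfl⟩
  have h4 : n * g ^ m * n⁻¹ ∈ XX co := conj_mem_of_le hNX hn' (pow_mem hg m)
  have h5 : n * g ^ m * n⁻¹ ∈ Da co := ⟨h3, mem_F0_of_comm h3 fun x hx => h4.2 x (F0_le_Da hx)⟩
  have h6 : g ^ m ∈ Da co := by
    have := conj_mem_of_le (N := normalizer ((Da co : Subgroup G) : Set G)) le_rfl (inv_mem hn') h5
    have e : n⁻¹ * (n * g ^ m * n⁻¹) * n⁻¹⁻¹ = g ^ m := by group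
    rwa [e] at this
  have h7 : g = ((g * g) ^ j)⁻¹ * g ^ m := by rw [hgm]; group
  rw [h7]
  exact mul_mem (inv_mem (mem_sup_right hc)) (mem_sup_left h6)

theorem ker_le {L : Subgroup G} (hL : Acts co L) (l : L) (h : rho hL l = 1) :
    (l : G) ∈ Da co ⊔ centralizer ((Da co : Subgroup G) : Set G) := by
  apply XX_le
  refine ⟨?_, (rho_eq_one_iff hL l).1 h⟩
  rw [mem_centralizer_iff]
  intro z hz
  exact (hL.cen _ l.2 z hz).symm

end sylow

end Cfsg.Agent.HexGlob.OneRep
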