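import Mathlib
import Cfsg.Agent.HexGlob.OneRep
import Cfsg.Agent.HexGlob.OddLin
import Cfsg.Agent.HexGlob.Close
import Cfsg.Agent.HexGlob.Facts
import Cfsg.Prelude.Def_Involutions
import Cfsg.Agent.TwoFusion.StronglyEmbeddedBasic
import Cfsg.Agent.Lib.Cores

/-!
# The group induced by `L₁` on `Da / Z`: basic properties

`RR1 co = rho(L₁)`, `T1 co` its Sylow 2-subgroup `{A(t)}`.
-/

set_option autoImplicit false

namespace Cfsg.Agent.HexGlob.OneBase

open Cfsg.Agent.HexRec Cfsg.Agent.HexEss Cfsg.Agent.HexEss.Abel Subgroup Cfsg.Agent.HexGlob.OneSpec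
  Cfsg.Agent.HexGlob.OneRep Cfsg.Agent.Lib.EssDefs

universe u v

variable {F K : Type v} [Field F] [Field K] [Algebra F K] {C : Cubic F K}
  {G : Type u} [Group G] [Finite G] {S : Sylow 2 G} (co : Coord C (S : Subgroup G))

theorem S_le_normalizer_Da : (S : Subgroup G) ≤ normalizer ((Da co : Subgroup G) : Set G) :=
  le_normalizer_of fun s hs x hx => by
    rw [conj_eq_cm_mul]; exact mul_mem (RR_le_Da (cm_mem_RR hs hx.1)) hx

theorem S_le_L1 : (S : Subgroup G) ≤ L1 S co := le_conjClosure _ _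

theorem L1_le_normalizer_Da : L1 S co ≤ normalizer ((Da co : Subgroup G) : Set G) :=
  conjClosure_le_self (S_le_normalizer_Da co)

omit [Finite G] in
theorem le_normalizer_centralizer {N A : Subgroup G} (h : N ≤ normalizer (A : Set G)) :
    N ≤ normalizer ((centralizer (A : Set G) : Subgroup G) : Set G) := by
  refine le_normalizer_of fun n hn c hc => ?_
  rw [mem_centralizer_iff]
  intro z hz
  have h3 := conj_mem_of_le h (inv_mem hn) hz
  have h4 := (mem_centralizer_iff.1 hc) _ h3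
  have h5 : n * (n⁻¹ * z * n⁻¹⁻¹ * c) * n⁻¹ = n * (c * (n⁻¹ * z * n⁻¹⁻¹)) * n⁻¹ := by rw [h4]
  have e1 : n * (n⁻¹ * z * n⁻¹⁻¹ * c) * n⁻¹ = z * (n * c * n⁻¹) := by group
  have e2 : n * (c * (n⁻¹ * z * n⁻¹⁻¹)) * n⁻¹ = n * c * n⁻¹ * z := by group
  rw [e1, e2] at h5
  exact h5

theorem L1_le_centralizer_Z : L1 S co ≤ centralizer ((Z co : Subgroup G) : Set G) := by
  refine conjClosure_le ?_ (le_normalizer_centralizer (Facts.le_normalizer_Z_of_Da le_rfl))
  intro s hs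
  rw [mem_centralizer_iff]
  intro z hz
  exact (cm_eq_one.1 (cm_Z (co := co) hs hz)).symm

/-- `L₁` acts -/
theorem acts : Acts co (L1 S co) where
  nor := fun _ hl _ hx => conj_mem_of_le (L1_le_normalizer_Da co) hl hx
  cen := fun _ hl z hz => ((mem_centralizer_iff.1 (L1_le_centralizer_Z co hl)) z hz).symm

/-- the representation of `L₁` -/
noncomputable def rh : L1 S co →* (MM F K ≃ₗ[F] MM F K) := rho (acts co)

/-- the image of `L₁` -/
noncomputable def R1 : Subgroup (MM F K ≃ₗ[F] MM F K) := (rh co).range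

/-- the representation of `L₁` as a surjection onto `R1` -/
noncomputable def rr : L1 S co →* R1 co := (rh co).rangeRestrict

theorem rr_surjective : Function.Surjective (rr co) := (rh co).rangeRestrict_surjective

theorem coe_rr (l : L1 S co) : ((rr co l : R1 co) : MM F K ≃ₗ[F] MM F K) = rh co l := rfl

theorem mem_R1 {g : MM F K ≃ₗ[F] MM F K} : g ∈ R1 co ↔ ∃ l : L1 S co, rh co l = g := Iff.rfl

instance : Finite (R1 co) := Finite.of_surjective _ (rr_surjective co)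

theorem form : ∀ g ∈ R1 co, ∀ v w, formA C (g v) (g w) = formA C v w := by
  rintro _ ⟨l, rfl⟩ v w
  exact form_rho (acts co) l v w

theorem quad : ∀ g ∈ R1 co, ∀ w, qf C (g w) = qf C w := by
  rintro _ ⟨l, rfl⟩ w
  exact quad_rho (acts co) l w

theorem rh_of_mem {s : G} (hs : s ∈ (S : Subgroup G)) : rh co ⟨s, S_le_L1 co hs⟩ = AA C (cx co s).a1 :=
  rho_of_mem (acts co) hs _

theorem exists_AA (t : K) : ∃ s, ∃ hs : s ∈ (S : Subgroup G), rh co ⟨s, S_le_L1 co hs⟩ = AA C t ∧ (cx co s).a1 = t := by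
  obtain ⟨s, hs, hsc⟩ := exists_cx (co := co) ⟨t, 0, 0, 0, 0, 0⟩
  refine ⟨s, hs, ?_, by rw [hsc]⟩
  rw [rh_of_mem co hs, hsc]

theorem memA : ∀ t, AA C t ∈ R1 co := by
  intro t
  obtain ⟨s, hs, h, -⟩ := exists_AA co t
  exact ⟨_, h⟩

/-- the Sylow 2-subgroup `{A(t)}` of `R1` -/
noncomputable def T1 : Sylow 2 (R1 co) := (S.subtype (S_le_L1 co)).mapSurjective (rr_surjective co)

theorem mem_T1 {x : R1 co} : x ∈ T1 co ↔ ∃ t, (x : MM F K ≃ₗ[F] MM F K) = AA C t := by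
  have h1 : x ∈ T1 co ↔ x ∈ ((S : Subgroup G).subgroupOf (L1 S co)).map (rr co) := Iff.rfl
  rw [h1]
  constructor
  · rintro ⟨l, hl, rfl⟩
    exact ⟨_, rh_of_mem co (s := (l : G)) hl⟩
  · rintro ⟨t, ht⟩
    obtain ⟨s, hs, h, -⟩ := exists_AA co t
    exact ⟨⟨s, S_le_L1 co hs⟩, hs, Subtype.ext (h.trans ht.symm)⟩

theorem rr_eq_one {l : L1 S co} (h : rr co l = 1) :
    (l : G) ∈ Da co ⊔ centralizer ((Da co : Subgroup G) : Set G) :=
  ker_le (acts co) l (congrArg (fun x : R1 co => (x : MM F K ≃ₗ[F] MM F K)) h)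

theorem rr_of_K0 {l : L1 S co} (h : (l : G) ∈ Da co ⊔ centralizer ((Da co : Subgroup G) : Set G)) :
    rr co l = 1 := Subtype.ext (rho_eq_one_of_mem (acts co) l h)

/-! ### The Sylow subgroup -/

theorem sq : ∀ x ∈ T1 co, x * x = 1 := by
  intro x hx
  obtain ⟨t, ht⟩ := (mem_T1 co).1 hx
  apply Subtype.ext
  show (x : MM F K ≃ₗ[F] MM F K) * x = 1
  rw [ht, AA_mul_self]

theorem card_T1 : Nat.card (T1 co) = Nat.card K := by
  refine (Nat.card_congr (Equiv.ofBijective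
    (fun t : K => (⟨⟨AA C t, memA co t⟩, (mem_T1 co).2 ⟨t, rfl⟩⟩ : T1 co)) ⟨?_, ?_⟩)).symm
  · intro t t' h
    exact AA_inj C (congrArg (fun x : T1 co => ((x : R1 co) : MM F K ≃ₗ[F] MM F K)) h)
  · rintro ⟨x, hx⟩
    obtain ⟨t, ht⟩ := (mem_T1 co).1 hx
    exact ⟨t, Subtype.ext (Subtype.ext ht.symm)⟩

theorem card_K_ge (hD : Dat C) : 4 ≤ Nat.card K := by
  have := OddLin.finite_K hD
  exact hD.q4.trans (Nat.card_le_card_of_injective _ (algebraMap F K).injective)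

theorem card4 (hD : Dat C) : 4 ≤ Nat.card (T1 co) := by
  rw [card_T1]
  exact card_K_ge hD

/-- `O(R) = 1` -/
theorem core (hD : Dat C) : Cfsg.oddCore (R1 co) = ⊥ := by
  let act : (R1 co) →* AddMonoid.End (⊤ : AddSubgroup (MM F K)) :=
    { toFun := fun g =>
        { toFun := fun w => ⟨(g : MM F K ≃ₗ[F] MM F K) w, trivial⟩
          map_zero' := Subtype.ext (map_zero _)
          map_add' := fun v w => Subtype.ext (map_add _ _ _) }
      map_one' := rfl
      map_mul' := fun g h => rfl }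
  have hodd : Odd (Nat.card (Cfsg.oddCore (R1 co))) := Nat.coprime_two_right.1 (Cfsg.Agent.Lib.Cores.pPrimeCore_coprime 2)
  have h1 := OddLin.act_eq_one hD (⊤ : AddSubgroup (MM F K)) ⟨(1, 0, 0, 0), trivial, one_ne_zero⟩
    (fun _ => rfl) act (fun t => ⟨AA C t, memA co t⟩) (fun t w => rfl) (Cfsg.oddCore (R1 co)) hodd
    (fun g _ v w => form co _ g.2 v w) (fun g _ w => quad co _ g.2 w) (fun t g hg => by
      exact (inferInstance : (Cfsg.oddCore (R1 co)).Normal).conj_mem g hg _)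
  rw [eq_bot_iff]
  intro g hg
  rw [mem_bot]
  apply Subtype.ext
  apply LinearEquiv.ext
  intro w
  have h2 := DFunLike.congr_fun (h1 g hg) (⟨w, trivial⟩ : (⊤ : AddSubgroup (MM F K)))
  exact congrArg (fun y : (⊤ : AddSubgroup (MM F K)) => (y : MM F K)) h2

/-- `N_G(S)` normalises `Da` -/
theorem normalizer_S_le (hD : Dat C) : normalizer ((S : Subgroup G) : Set G) ≤ normalizer ((Da co : Subgroup G) : Set G) :=
  Facts.le_normalizer_Da_of_P hD le_rfl

/-- Frattini: `N_G(Da) = L₁ N_G(S)` -/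
theorem exists_mul {n : G} (hn : n ∈ normalizer ((Da co : Subgroup G) : Set G)) :
    ∃ l ∈ L1 S co, ∃ s ∈ normalizer ((S : Subgroup G) : Set G), n = l * s := Close.frattini S hn

/-- `R = ⟨T^R⟩` -/
theorem gen : Subgroup.normalClosure ((T1 co : Subgroup (R1 co)) : Set (R1 co)) = ⊤ := by
  rw [eq_top_iff]
  intro x _
  obtain ⟨⟨l, hl⟩, rfl⟩ := rr_surjective co x
  have key : ∀ l (hl : l ∈ L1 S co), rr co ⟨l, hl⟩ ∈
      Subgroup.normalClosure ((T1 co : Subgroup (R1 co)) : Set (R1 co)) := by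
    intro l hl
    refine Subgroup.closure_induction (p := fun l _ => ∀ hl : l ∈ L1 S co, rr co ⟨l, hl⟩ ∈
      Subgroup.normalClosure ((T1 co : Subgroup (R1 co)) : Set (R1 co))) ?_ ?_ ?_ ?_ hl hl
    · rintro _ ⟨n, hn, s, hs, rfl⟩ hl'
      obtain ⟨l, hlL, m, hm, rfl⟩ := exists_mul co hn
      have hms : m * s * m⁻¹ ∈ (S : Subgroup G) := (mem_normalizer_iff.1 hm s).1 hs
      have e : (⟨l * m * s * (l * m)⁻¹, hl'⟩ : L1 S co) =
          ⟨l, hlL⟩ * ⟨m * s * m⁻¹, S_le_L1 co hms⟩ * (⟨l, hlL⟩ : L1 S co)⁻¹ := by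
        apply Subtype.ext
        show l * m * s * (l * m)⁻¹ = l * (m * s * m⁻¹) * l⁻¹
        group
      rw [e, map_mul, map_mul, map_inv]
      apply Subgroup.normalClosure_normal.conj_mem
      apply Subgroup.subset_normalClosure
      exact (mem_T1 co).2 ⟨_, rh_of_mem co hms⟩
    · intro h
      have e : (⟨1, h⟩ : L1 S co) = 1 := rfl
      rw [e, map_one]
      exact one_mem _
    · intro x y hx hy ihx ihy h
      have hx' : x ∈ L1 S co := hx
      have hy' : y ∈ L1 S co := hy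
      have e : (⟨x * y, h⟩ : L1 S co) = ⟨x, hx'⟩ * ⟨y, hy'⟩ := rfl
      rw [e, map_mul]
      exact mul_mem (ihx hx') (ihy hy')
    · intro x hx ihx h
      have hx' : x ∈ L1 S co := hx
      have e : (⟨x⁻¹, h⟩ : L1 S co) = (⟨x, hx'⟩)⁻¹ := rfl
      rw [e, map_inv]
      exact inv_mem (ihx hx')
  exact key l hl

/-! ### The stabiliser of `V` -/

/-- `E2` is the preimage of `Vb` -/
theorem mem_E2_iff {x : G} (hx : x ∈ Da co) : x ∈ E2 co ↔ wA co x ∈ Vb F K := by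
  constructor
  · intro h
    exact ⟨h.2.2.2.2, h.2.2.2.1, h.2.2.1⟩
  · intro h
    exact ⟨hx.1, hx.2, h.2.2, h.2.1, h.1⟩

theorem mem_F0_iff {x : G} (hx : x ∈ Da co) : x ∈ F0 co ↔ wA co x ∈ Wb F K := by
  constructor
  · intro h
    exact ⟨h.2.2.2, h.2.2.1⟩
  · intro h
    exact ⟨hx.1, hx.2, h.2, h.1⟩

theorem mem_RR_iff {x : G} (hx : x ∈ Da co) : x ∈ RR co ↔ (wA co x).1 = 0 := by
  constructor
  · intro h
    exact h.2.2
  · intro h
    exact ⟨hx.1, hx.2, h⟩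

theorem rh_wA (l : L1 S co) {x : G} (hx : x ∈ Da co) : rh co l (wA co x) = wA co ((l : G) * x * (l : G)⁻¹) :=
  rho_wA (acts co) l hx

theorem conj_mem_Da {l : G} (hl : l ∈ L1 S co) {x : G} (hx : x ∈ Da co) : l * x * l⁻¹ ∈ Da co :=
  (acts co).nor l hl x hx

/-- `l` fixes `V̄` iff it normalises `E2` -/
theorem fixV_iff (l : L1 S co) : FixV (rh co l) ↔ (l : G) ∈ normalizer ((E2 co : Subgroup G) : Set G) := by
  constructor
  · intro h
    refine mem_normalizer_of_cm fun d hd => ?_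
    have hdD := E2_le_Da hd
    have h1 : (l : G) * d * (l : G)⁻¹ ∈ E2 co := by
      rw [mem_E2_iff co (conj_mem_Da co l.2 hdD), ← rh_wA co l hdD]
      exact h _ ((mem_E2_iff co hdD).1 hd)
    have h2 : cm (l : G) d = (l : G) * d * (l : G)⁻¹ * d⁻¹ := rfl
    rw [h2]
    exact mul_mem h1 (inv_mem hd)
  · intro h w hw
    obtain ⟨x, hx, rfl⟩ := exists_wA (co := co) w
    rw [rh_wA co l hx, ← mem_E2_iff co (conj_mem_Da co l.2 hx)]
    exact (mem_normalizer_iff.1 h x).1 ((mem_E2_iff co hx).2 hw)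

theorem fixW_iff (l : L1 S co) (h : (l : G) ∈ normalizer ((F0 co : Subgroup G) : Set G)) :
    ∀ w ∈ Wb F K, rh co l w ∈ Wb F K := by
  intro w hw
  obtain ⟨x, hx, rfl⟩ := exists_wA (co := co) w
  rw [rh_wA co l hx, ← mem_F0_iff co (conj_mem_Da co l.2 hx)]
  exact (mem_normalizer_iff.1 h x).1 ((mem_F0_iff co hx).2 hw)

include co in
/-- `V̄` is the space of fixed points of `T` -/
theorem mem_Vb_iff_fixed' (z2 : ∀ x ∈ (S : Subgroup G), (∀ y ∈ (S : Subgroup G), cm y x ∈ Z co) → x ∈ E2 co)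
    (w : MM F K) : w ∈ Vb F K ↔ ∀ t : K, AA C t w = w := by
  constructor
  · intro hw t
    obtain ⟨u, s, k, y⟩ := w
    obtain ⟨rfl, rfl, rfl⟩ := mk_mem_Vb.1 hw
    rw [AA_apply, C.cr_zero_right, C.T_zero_right, C.T_zero_right]
    simp
  · intro h
    obtain ⟨x, hx, rfl⟩ := exists_wA (co := co) w
    rw [← mem_E2_iff co hx]
    apply z2 x hx.1
    intro y hy
    have h1 := h (cx co y).a1
    rw [← wA_conj hy hx] at h1
    have hyx : y * x * y⁻¹ ∈ Da co := conj_mem_of_le (S_le_normalizer_Da co) hy hx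
    have h2 := (wA_eq_iff hx hyx).1 h1.symm
    have e : cm x⁻¹ y = x⁻¹ * (y * x * y⁻¹) := by unfold cm; group
    have h3 : cm x⁻¹ y ∈ Z co := by rw [e]; exact h2
    have h4 : cm y x⁻¹ ∈ Z co := Facts.cm_mem_swap.1 h3
    have h5 : cm y x = x * (cm y x⁻¹)⁻¹ * x⁻¹ := by unfold cm; group
    rw [h5]
    exact conj_mem_of_le Facts.P_le_normalizer_Z hx.1 (inv_mem h4)

include co in
theorem mem_Vb_iff_fixed (hD : Dat C) (w : MM F K) : w ∈ Vb F K ↔ ∀ t : K, AA C t w = w :=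
  mem_Vb_iff_fixed' co (fun _ hx h => Facts.mem_E2_of_Z2 hD hx h) w

theorem norT_iff {g : R1 co} : NorT C (g : MM F K ≃ₗ[F] MM F K) ↔
    g ∈ normalizer ((T1 co : Subgroup (R1 co)) : Set (R1 co)) := by
  constructor
  · intro h
    refine mem_normalizer_of_cm fun x hx => ?_
    obtain ⟨t, ht⟩ := (mem_T1 co).1 hx
    obtain ⟨t', ht'⟩ := h t
    have h1 : g * x * g⁻¹ ∈ (T1 co : Subgroup (R1 co)) := by
      refine (mem_T1 co).2 ⟨t', ?_⟩
      rw [← ht', ← ht]
      rfl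
    exact mul_mem h1 (inv_mem hx)
  · intro h t
    have h1 : (⟨AA C t, memA co t⟩ : R1 co) ∈ (T1 co : Subgroup (R1 co)) := (mem_T1 co).2 ⟨t, rfl⟩
    have h2 := (mem_normalizer_iff.1 h _).1 h1
    obtain ⟨t', ht'⟩ := (mem_T1 co).1 h2
    exact ⟨t', ht'⟩

include co in
theorem fixV_of_norT' (z2 : ∀ x ∈ (S : Subgroup G), (∀ y ∈ (S : Subgroup G), cm y x ∈ Z co) → x ∈ E2 co)
    {g : MM F K ≃ₗ[F] MM F K} (h : NorT C g⁻¹) : FixV g := by
  intro w hw
  rw [mem_Vb_iff_fixed' co z2] at hw ⊢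
  intro t
  obtain ⟨t', ht'⟩ := h t
  have h1 : AA C t * g = g * AA C t' := by rw [← ht']; group
  have h2 := congrArg (fun y : MM F K ≃ₗ[F] MM F K => y w) h1
  have h3 : AA C t (g w) = g (AA C t' w) := h2
  rw [h3, hw]

include co in
theorem fixV_of_norT (hD : Dat C) {g : MM F K ≃ₗ[F] MM F K} (h : NorT C g⁻¹) : FixV g :=
  fixV_of_norT' co (fun _ hx h => Facts.mem_E2_of_Z2 hD hx h) h

/-- some element of `R` moves `V̄` -/
theorem ne' (nE2 : normalizer ((S : Subgroup G) : Set G) ≤ normalizer ((E2 co : Subgroup G) : Set G)) (hN : ¬ normalizer ((Da co : Subgroup G) : Set G) ≤ normalizer ((E2 co : Subgroup G) : Set G)) :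
    ∃ g ∈ R1 co, ¬ FixV g := by
  by_contra hcon
  push Not at hcon
  apply hN
  intro n hn
  obtain ⟨l, hl, m, hm, rfl⟩ := exists_mul co hn
  exact mul_mem ((fixV_iff co ⟨l, hl⟩).1 (hcon _ ⟨⟨l, hl⟩, rfl⟩)) (nE2 hm)

theorem ne (hD : Dat C) (hN : ¬ normalizer ((Da co : Subgroup G) : Set G) ≤ normalizer ((E2 co : Subgroup G) : Set G)) :
    ∃ g ∈ R1 co, ¬ FixV g := ne' co (Facts.le_normalizer_E2_of_P hD le_rfl) hN

/-- elements normalising `T` fix `W̄` -/
theorem norW (hW : normalizer ((S : Subgroup G) : Set G) ≤ normalizer ((F0 co : Subgroup G) : Set G))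
    {g : R1 co} (hg : g ∈ normalizer ((T1 co : Subgroup (R1 co)) : Set (R1 co))) :
    ∀ w ∈ Wb F K, (g : MM F K ≃ₗ[F] MM F K) w ∈ Wb F K := by
  obtain ⟨l, rfl⟩ := rr_surjective co g
  -- the preimage of the normaliser
  set N : Subgroup G := ((normalizer ((T1 co : Subgroup (R1 co)) : Set (R1 co))).comap (rr co)).map (L1 S co).subtype
  have hlN : (l : G) ∈ N := ⟨l, hg, rfl⟩
  obtain ⟨m, hm, s, hs, hls⟩ := Close.frattini S hlN
  set M : Subgroup G := ((T1 co : Subgroup (R1 co)).comap (rr co)).map (L1 S co).subtype with hM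
  have hSM : (S : Subgroup G) ≤ M := fun s hs =>
    ⟨⟨s, S_le_L1 co hs⟩, (mem_T1 co).2 ⟨_, rh_of_mem co hs⟩, rfl⟩
  have hNM : N ≤ normalizer (M : Set G) := by
    refine le_normalizer_of ?_
    rintro _ ⟨n, hn, rfl⟩ _ ⟨x, hx, rfl⟩
    refine ⟨n * x * n⁻¹, ?_, rfl⟩
    have hn' : rr co n ∈ normalizer ((T1 co : Subgroup (R1 co)) : Set (R1 co)) := hn
    have h1 := (mem_normalizer_iff.1 hn' (rr co x)).1 hx
    show rr co (n * x * n⁻¹) ∈ (T1 co : Subgroup (R1 co))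
    rw [map_mul, map_mul, map_inv]
    exact h1
  obtain ⟨m', hm', hmm⟩ := conjClosure_le hSM hNM hm
  have hs' : s ∈ L1 S co := by
    have : s = m⁻¹ * (l : G) := by rw [hls]; group
    rw [this]
    refine mul_mem (inv_mem ?_) l.2
    rw [← hmm]; exact m'.2
  have e : l = m' * ⟨s, hs'⟩ := by
    apply Subtype.ext
    rw [hls, ← hmm]
    rfl
  obtain ⟨t, ht⟩ := (mem_T1 co).1 hm'
  intro w hw
  have h2 : ((rr co l : R1 co) : MM F K ≃ₗ[F] MM F K) w = AA C t (rh co ⟨s, hs'⟩ w) := by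
    rw [e, map_mul, ← ht]
    rfl
  rw [h2]
  have h3 := fixW_iff co ⟨s, hs'⟩ (hW hs) w hw
  obtain ⟨h31, h32⟩ := h3
  refine ⟨?_, ?_⟩
  · rw [AA_fst, h31]
  · show (rh co ⟨s, hs'⟩ w).2.1 + (rh co ⟨s, hs'⟩ w).1 • t = 0
    rw [h31, h32, zero_smul, add_zero]

/-! ### The strongly embedded subgroup -/

theorem se' (nDa : normalizer ((S : Subgroup G) : Set G) ≤ normalizer ((Da co : Subgroup G) : Set G)) (hE : Ess 2 (S : Subgroup G) (Da co)) : ∃ H : Subgroup (R1 co), Cfsg.IsStronglyEmbedded H := by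
  obtain ⟨H, hE⟩ := hE
  have hK0 : ∀ l : L1 S co, rr co l = 1 → (l : G) ∈ H := fun l hl => hE.sup_le (rr_eq_one co hl)
  have hSH : (S : Subgroup G) ≤ H := fun s hs => hE.inf_le ⟨hs, S_le_normalizer_Da co hs⟩
  have hmem : ∀ l : L1 S co, rr co l ∈ (H.subgroupOf (L1 S co)).map (rr co) ↔ (l : G) ∈ H := by
    intro l
    constructor
    · rintro ⟨k, hk, hkl⟩
      have h1 : rr co (k⁻¹ * l) = 1 := by rw [map_mul, map_inv, hkl, inv_mul_cancel]
      have h2 := hK0 _ h1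
      have h3 : (l : G) = (k : G) * (((k⁻¹ * l : L1 S co)) : G) := by
        show (l : G) = (k : G) * ((k : G)⁻¹ * l)
        group
      rw [h3]
      exact mul_mem hk h2
    · intro h
      exact ⟨l, h, rfl⟩
  refine ⟨(H.subgroupOf (L1 S co)).map (rr co), ?_, ?_, ?_⟩
  · -- proper
    intro htop
    apply hE.ne
    apply le_antisymm hE.le
    intro n hn
    obtain ⟨l, hl, m, hm, rfl⟩ := exists_mul co hn
    refine mul_mem ((hmem ⟨l, hl⟩).1 (by rw [htop]; trivial)) ?_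
    by_contra hmH
    obtain ⟨s, hs, hsc⟩ := exists_cx (co := co) ⟨1, 0, 0, 0, 0, 0⟩
    have h1 : s ^ 2 ∈ Da co ⊔ centralizer ((Da co : Subgroup G) : Set G) := by
      refine mem_sup_left ?_
      rw [pow_two]
      exact ⟨mul_mem hs hs, a1_sq hs⟩
    have h2 := hE.se m (nDa hm) hmH s (hSH hs) h1 (hSH ((mem_normalizer_iff.1 hm s).1 hs))
    have h3 := Cfsg.Agent.Hex.SE.mem_of_mem_K0 hE hs h2
    have h4 := h3.2
    rw [hsc] at h4
    exact one_ne_zero h4
  · -- even order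
    obtain ⟨s, hs, h, hsc⟩ := exists_AA co 1
    have h1 : rr co ⟨s, S_le_L1 co hs⟩ ∈ (H.subgroupOf (L1 S co)).map (rr co) := (hmem _).2 (hSH hs)
    have h2 : orderOf (rr co ⟨s, S_le_L1 co hs⟩) = 2 := by
      refine orderOf_eq_prime ?_ ?_
      · apply Subtype.ext
        rw [pow_two]
        show rh co ⟨s, S_le_L1 co hs⟩ * rh co ⟨s, S_le_L1 co hs⟩ = 1
        rw [h, AA_mul_self]
      · intro h3
        have h4 : rh co ⟨s, S_le_L1 co hs⟩ = 1 := congrArg (fun x : R1 co => (x : MM F K ≃ₗ[F] MM F K)) h3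
        rw [h] at h4
        exact one_ne_zero (AA_eq_one C h4)
    have h3 := Subgroup.orderOf_dvd_natCard _ h1
    rw [h2] at h3
    exact even_iff_two_dvd.2 h3
  · -- odd intersections
    intro g hg
    obtain ⟨x, rfl⟩ := rr_surjective co g
    by_contra hodd
    rw [Nat.not_odd_iff_even, even_iff_two_dvd] at hodd
    have : Fact (Nat.Prime 2) := ⟨Nat.prime_two⟩
    obtain ⟨y, hy⟩ := exists_prime_orderOf_dvd_card' 2 hodd
    obtain ⟨y, hy1, y', hy', hyy⟩ := y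
    obtain ⟨k, hk, rfl⟩ := hy'
    have hyy' : rr co (x * k * x⁻¹) = y := by
      rw [← hyy, map_mul, map_mul, map_inv]
      rfl
    have h1 : (x * k * x⁻¹ : G) ∈ H := by
      have := (hmem (x * k * x⁻¹)).1 (by rw [hyy']; exact hy1)
      exact this
    have hy2 : y ^ 2 = 1 := by
      have := pow_orderOf_eq_one (⟨y, hy1, rr co k, ⟨k, hk, rfl⟩, hyy⟩ : ↥(((H.subgroupOf (L1 S co)).map (rr co)) ⊓
        ((H.subgroupOf (L1 S co)).map (rr co)).map (MulAut.conj (rr co x)).toMonoidHom))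
      rw [hy] at this
      exact congrArg Subtype.val this
    have hy1' : y ≠ 1 := by
      intro h
      subst h
      have h3 : (⟨1, hy1, rr co k, ⟨k, hk, rfl⟩, hyy⟩ : ↥(((H.subgroupOf (L1 S co)).map (rr co)) ⊓
        ((H.subgroupOf (L1 S co)).map (rr co)).map (MulAut.conj (rr co x)).toMonoidHom)) = 1 := rfl
      rw [h3, orderOf_one] at hy
      exact absurd hy (by norm_num)
    have hk2 : rr co (k ^ 2) = 1 := by
      have h3 : k ^ 2 = x⁻¹ * (x * k * x⁻¹) ^ 2 * x := by simp [pow_two, mul_assoc]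
      rw [h3, map_mul, map_mul, map_pow, hyy', hy2, mul_one, map_inv, inv_mul_cancel]
    have h4 := hE.se (x : G) (L1_le_normalizer_Da co x.2) (fun hx => hg ((hmem x).2 hx)) (k : G) hk
      (rr_eq_one co hk2) h1
    have h5 := rr_of_K0 co h4
    apply hy1'
    rw [← hyy', map_mul, map_mul, h5, mul_one, map_inv, mul_inv_cancel]

theorem se (hD : Dat C) (hE : Ess 2 (S : Subgroup G) (Da co)) : ∃ H : Subgroup (R1 co), Cfsg.IsStronglyEmbedded H :=
  se' co (normalizer_S_le co hD) hE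

end Cfsg.Agent.HexGlob.OneBase
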