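import Mathlib
import Cfsg.Agent.HexGlob.OneSpec
import Cfsg.Agent.HexGlob.Spec

/-!
# The linear group induced on `Da / Z`: conjugates of `V̄` (f1)
-/

set_option autoImplicit false

namespace Cfsg.Agent.HexGlob.OneLinA

open Cfsg.Agent.HexRec Cfsg.Agent.HexEss Cfsg.Agent.HexEss.Abel Cfsg.Agent.HexGlob.OneSpec

universe v

variable {F K : Type v} [Field F] [Field K] [Algebra F K] {C : Cubic F K}

/-- the vector spanning `V̄` -/
def v0 (F K : Type v) [Field F] [Field K] : MM F K := (0, 0, 0, 1)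

theorem smul_v0 (c : F) : c • v0 F K = (0, 0, 0, c) := by simp [v0]

theorem mem_Vb_iff {w : MM F K} : w ∈ Vb F K ↔ ∃ c : F, w = c • v0 F K := by
  obtain ⟨u, s, k, v⟩ := w
  rw [mk_mem_Vb]
  constructor
  · rintro ⟨rfl, rfl, rfl⟩
    exact ⟨v, (smul_v0 v).symm⟩
  · rintro ⟨c, hc⟩
    rw [smul_v0] at hc
    simp only [Prod.mk.injEq] at hc
    exact ⟨hc.1, hc.2.1, hc.2.2.1⟩

theorem v0_mem : v0 F K ∈ Vb F K := mem_Vb_iff.2 ⟨1, (one_smul _ _).symm⟩

theorem smul_v0_mem (c : F) : c • v0 F K ∈ Vb F K := mem_Vb_iff.2 ⟨c, rfl⟩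

theorem fixV_iff {g : MM F K ≃ₗ[F] MM F K} : FixV g ↔ g (v0 F K) ∈ Vb F K := by
  constructor
  · intro h
    exact h _ v0_mem
  · intro h w hw
    obtain ⟨c, rfl⟩ := mem_Vb_iff.1 hw
    rw [map_smul]
    exact (Vb F K).smul_mem c h

theorem fixV_iff' {g : MM F K ≃ₗ[F] MM F K} : FixV g ↔ ∃ c : F, c ≠ 0 ∧ g (v0 F K) = c • v0 F K := by
  rw [fixV_iff, mem_Vb_iff]
  constructor
  · rintro ⟨c, hc⟩
    refine ⟨c, ?_, hc⟩
    rintro rfl
    rw [zero_smul] at hc
    have h1 : v0 F K = 0 := by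
      rw [← g.map_eq_zero_iff]; exact hc
    have h2 := congrArg (fun w : MM F K => w.2.2.2) h1
    simp [v0] at h2
  · rintro ⟨c, -, hc⟩
    exact ⟨c, hc⟩

theorem inv_apply_self (g : MM F K ≃ₗ[F] MM F K) (w : MM F K) : g⁻¹ (g w) = w := g.symm_apply_apply w
theorem apply_inv_self (g : MM F K ≃ₗ[F] MM F K) (w : MM F K) : g (g⁻¹ w) = w := g.apply_symm_apply w

theorem fixV_mul {g h : MM F K ≃ₗ[F] MM F K} (hg : FixV g) (hh : FixV h) : FixV (g * h) :=
  fun w hw => hg _ (hh w hw)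

theorem fixV_inv {g : MM F K ≃ₗ[F] MM F K} (hg : FixV g) : FixV g⁻¹ := by
  obtain ⟨c, hc, h⟩ := fixV_iff'.1 hg
  rw [fixV_iff']
  refine ⟨c⁻¹, inv_ne_zero hc, ?_⟩
  apply g.injective
  rw [apply_inv_self, map_smul, h, smul_smul, inv_mul_cancel₀ hc, one_smul]

theorem fixV_inv_iff {g : MM F K ≃ₗ[F] MM F K} : FixV g⁻¹ ↔ FixV g :=
  ⟨fun h => by simpa using fixV_inv h, fun h => fixV_inv h⟩

theorem AA_v0 (t : K) : AA C t (v0 F K) = v0 F K := by
  rw [v0, AA_apply]
  simp [C.cr_zero_right, C.T_zero_right]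

theorem fixV_AA (t : K) : FixV (AA C t) := by
  rw [fixV_iff, AA_v0]
  exact v0_mem

theorem AA_inv (t : K) : (AA C t)⁻¹ = AA C t := inv_eq_of_mul_eq_one_left (AA_mul_self C t)

theorem formA_v0 (w : MM F K) : formA C w (v0 F K) = w.1 := by
  rw [formA_apply]
  simp [v0, C.T_zero_right]

theorem v0_formA (w : MM F K) : formA C (v0 F K) w = w.1 := by
  rw [formA_apply]
  simp [v0, C.T_zero_left]

theorem qf_v0 : qf C (v0 F K) = 0 := by simp [qf, v0, C.T_zero_left]

/-! ### Characteristic two -/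

include C in
theorem add_selfM (w : MM F K) : w + w = 0 := by
  obtain ⟨u, s, k, v⟩ := w
  simp [C.add_self, C.add_selfK]

theorem exists_sqrt [Finite F] (C : Cubic F K) (a : F) : ∃ b : F, b ^ 2 = a := by
  have := charPF C
  have hinj : Function.Injective (fun b : F => b ^ 2) := by
    intro b c hbc
    simp only at hbc
    have h1 : (b + c) ^ 2 = 0 := by
      have h2 : (b + c) ^ 2 = b ^ 2 + c ^ 2 + (b * c + b * c) := by ring
      rw [h2, C.add_self, add_zero, hbc, C.add_self]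
    exact C.eq_of_add_eq_zero ((pow_eq_zero_iff (two_ne_zero)).1 h1)
  exact (Finite.injective_iff_surjective.1 hinj) a

/-! ### The torus in the plane spanned by two orthogonal conjugates -/

section

variable {R : Subgroup (MM F K ≃ₗ[F] MM F K)}

/-- `T₁` and `T₁^g` induce full groups of transvections on the plane `⟨v₀, g v₀⟩`: there is an element with
eigenvalues `l`, `l⁻¹`. -/
theorem exists_torus (hA : ∀ t, AA C t ∈ R) {g : MM F K ≃ₗ[F] MM F K} (hg : g ∈ R)
    (ha : ∀ a : F, ∃ t, AA C t (g (v0 F K)) = g (v0 F K) + a • v0 F K)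
    (hb : ∀ a : F, ∃ t, AA C t (g⁻¹ (v0 F K)) = g⁻¹ (v0 F K) + a • v0 F K) {l : F} (hl : l ≠ 0) :
    ∃ d ∈ R, d (v0 F K) = l • v0 F K ∧ d (g (v0 F K)) = l⁻¹ • g (v0 F K) := by
  set v := v0 F K with hv
  set y := g v with hy
  -- the element interchanging the two lines
  have key : ∀ a : F, a ≠ 0 → ∃ n ∈ R, n v = a⁻¹ • y ∧ n y = a • v := by
    intro a ha0
    obtain ⟨t, ht⟩ := ha a
    obtain ⟨t', ht'⟩ := hb a⁻¹
    have hAv : AA C t v = v := AA_v0 t
    have hAv' : AA C t' v = v := AA_v0 t'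
    refine ⟨AA C t * (g * AA C t' * g⁻¹) * AA C t,
      mul_mem (mul_mem (hA t) (mul_mem (mul_mem hg (hA t')) (inv_mem hg))) (hA t), ?_, ?_⟩
    · change AA C t (g (AA C t' (g⁻¹ (AA C t v)))) = _
      rw [hAv, ht', map_add, map_smul, apply_inv_self, ← hy, map_add, map_smul, hAv, ht, smul_add, smul_smul,
        inv_mul_cancel₀ ha0, one_smul, add_comm (a⁻¹ • y) v, ← add_assoc, add_selfM (C := C), zero_add]
    · have e1 : g⁻¹ (AA C t y) = v + a • g⁻¹ v := by
        rw [ht, map_add, map_smul, hy, inv_apply_self]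
      have e2 : AA C t' (g⁻¹ (AA C t y)) = a • g⁻¹ v := by
        rw [e1, map_add, hAv', map_smul, ht', smul_add, smul_smul, mul_inv_cancel₀ ha0, one_smul,
          add_comm (a • g⁻¹ v) v, ← add_assoc, add_selfM (C := C), zero_add]
      change AA C t (g (AA C t' (g⁻¹ (AA C t y)))) = _
      rw [e2, map_smul, apply_inv_self, map_smul, hAv]
  obtain ⟨n, hn, hn1, hn2⟩ := key l hl
  obtain ⟨m, hm, hm1, hm2⟩ := key 1 one_ne_zero
  refine ⟨n * m, mul_mem hn hm, ?_, ?_⟩
  · change n (m v) = _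
    rw [hm1, inv_one, one_smul, hn2]
  · change n (m y) = _
    rw [hm2, one_smul, hn1]

/-! ### General facts on the elements of `R` -/

theorem inv_v0_fst (h : Lin C R) {g : MM F K ≃ₗ[F] MM F K} (hg : g ∈ R) :
    (g⁻¹ (v0 F K)).1 = (g (v0 F K)).1 := by
  rw [← formA_v0 (C := C) (g⁻¹ (v0 F K)), ← h.form g hg, apply_inv_self, v0_formA]

theorem qf_gv0 (h : Lin C R) {g : MM F K ≃ₗ[F] MM F K} (hg : g ∈ R) : qf C (g (v0 F K)) = 0 := by
  rw [h.quad g hg, qf_v0]

/-- an element fixing the line `V̄` acts on the first coordinate by the inverse scalar -/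
theorem fst_apply (h : Lin C R) {d : MM F K ≃ₗ[F] MM F K} (hd : d ∈ R) {l : F} (hl : l ≠ 0)
    (hdv : d (v0 F K) = l • v0 F K) (w : MM F K) : (d w).1 = l⁻¹ * w.1 := by
  have h1 := h.form d hd w (v0 F K)
  rw [hdv, map_smul, smul_eq_mul, formA_v0, formA_v0] at h1
  rw [← h1, ← mul_assoc, inv_mul_cancel₀ hl, one_mul]

theorem exists_tau (h : Lin C R) {d : MM F K ≃ₗ[F] MM F K} (hd : d ∈ R) (hf : FixV d) (t : K) :
    ∃ t' : K, ∀ w, d (AA C t w) = AA C t' (d w) := by
  obtain ⟨t', ht'⟩ := (h.stab d hd).1 hf t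
  refine ⟨t', fun w => ?_⟩
  rw [← ht']
  change _ = d (AA C t (d⁻¹ (d w)))
  rw [inv_apply_self]

end

/-! ### The case `K = F` -/

section one

variable (hs : Function.Surjective (algebraMap F K))
include hs

theorem exists_smul_one (a : K) : ∃ f : F, a = f • (1 : K) := by
  obtain ⟨f, rfl⟩ := hs a
  exact ⟨f, Algebra.algebraMap_eq_smul_one f⟩

omit hs in
theorem sh_f (f : F) : C.sh (f • (1 : K)) = f ^ 2 • (1 : K) := by rw [C.sh_smul, C.sh_one]
omit hs in
theorem N_f (f : F) : C.N (f • (1 : K)) = f ^ 3 := by rw [C.N_smul, C.N_one, mul_one]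
omit hs in
theorem T_f (f g : F) : C.T (f • (1 : K)) (g • (1 : K)) = f * g := by
  rw [C.T_smul_left, C.T_smul_right, Cubic.T, mul_one, C.tr_one, mul_one]

theorem cr_eq_zero (a b : K) : C.cr a b = 0 := by
  obtain ⟨f, rfl⟩ := exists_smul_one hs a
  obtain ⟨g, rfl⟩ := exists_smul_one hs b
  rw [cr_smul_left, cr_smul_right, C.cr_self, smul_zero, smul_zero]

theorem AA_one (t u s k v : F) : AA C (t • (1 : K)) (u, s • (1 : K), k • (1 : K), v) =
    (u, (s + u * t) • (1 : K), (k + u * t ^ 2) • (1 : K), v + t * k + t ^ 2 * s + u * t ^ 3) := by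
  rw [AA_apply, cr_eq_zero hs, sh_f, T_f, T_f, N_f]
  refine Prod.ext rfl (Prod.ext ?_ (Prod.ext ?_ rfl))
  · simp only [add_smul, mul_smul]
  · simp only [add_smul, mul_smul, add_zero]

theorem exists_coord (w : MM F K) : ∃ u s k v : F, w = (u, s • (1 : K), k • (1 : K), v) := by
  obtain ⟨u, s, k, v⟩ := w
  obtain ⟨s, rfl⟩ := exists_smul_one hs s
  obtain ⟨k, rfl⟩ := exists_smul_one hs k
  exact ⟨u, s, k, v, rfl⟩

omit hs in
theorem coord_inj {u s k v u' s' k' v' : F} (h : ((u, s • (1 : K), k • (1 : K), v) : MM F K) =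
    (u', s' • (1 : K), k' • (1 : K), v')) : u = u' ∧ s = s' ∧ k = k' ∧ v = v' := by
  simp only [Prod.mk.injEq] at h
  obtain ⟨h1, h2, h3, h4⟩ := h
  refine ⟨h1, ?_, ?_, h4⟩
  · exact smul_left_injective F (one_ne_zero (α := K)) h2
  · exact smul_left_injective F (one_ne_zero (α := K)) h3

omit hs in
theorem qf_one (u s k v : F) : qf C ((u, s • (1 : K), k • (1 : K), v) : MM F K) = u * v + s * k := by
  rw [qf, T_f]

variable {R : Subgroup (MM F K ≃ₗ[F] MM F K)}

theorem exists_transvection_one [Finite F] (h : Lin C R) {g : MM F K ≃ₗ[F] MM F K} (hg : g ∈ R) (hn : ¬ FixV g)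
    (hu : (g (v0 F K)).1 = 0) (a : F) : ∃ t, AA C t (g (v0 F K)) = g (v0 F K) + a • v0 F K := by
  obtain ⟨u, s, k, v, hy⟩ := exists_coord hs (g (v0 F K))
  have hq := qf_gv0 h hg
  rw [hy] at hu hq ⊢
  simp only at hu
  subst hu
  rw [qf_one, zero_mul, zero_add, mul_eq_zero] at hq
  have hsk : ¬ (s = 0 ∧ k = 0) := by
    rintro ⟨rfl, rfl⟩
    apply hn
    rw [fixV_iff, hy, mk_mem_Vb]
    simp
  rcases hq with rfl | rfl
  · have hk : k ≠ 0 := fun h0 => hsk ⟨rfl, h0⟩
    refine ⟨(a / k) • 1, ?_⟩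
    rw [AA_one hs, smul_v0]
    simp only [Prod.mk_add_mk, mul_zero, zero_mul, add_zero]
    rw [div_mul_cancel₀ _ hk]
  · have hs0 : s ≠ 0 := fun h0 => hsk ⟨h0, rfl⟩
    obtain ⟨b, hb⟩ := exists_sqrt C (a / s)
    refine ⟨b • 1, ?_⟩
    rw [AA_one hs, smul_v0, hb]
    simp only [Prod.mk_add_mk, mul_zero, zero_mul, add_zero]
    rw [div_mul_cancel₀ _ hs0]

theorem fst_ne_zero_one [Finite F] (h : Lin C R) (hq : ∃ l : F, l ≠ 0 ∧ l ≠ 1) {g : MM F K ≃ₗ[F] MM F K}
    (hg : g ∈ R) (hn : ¬ FixV g) : (g (v0 F K)).1 ≠ 0 := by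
  have := charPF C
  intro hu
  have hu' : (g⁻¹ (v0 F K)).1 = 0 := by rw [inv_v0_fst h hg, hu]
  have hn' : ¬ FixV g⁻¹ := fun h1 => hn (fixV_inv_iff.1 h1)
  obtain ⟨l, hl, hl1⟩ := hq
  obtain ⟨d, hd, hdv, hdy⟩ := exists_torus (C := C) h.memA hg (exists_transvection_one hs h hg hn hu)
    (exists_transvection_one hs h (inv_mem hg) hn' hu') hl
  have hdf : FixV d := fixV_iff'.2 ⟨l, hl, hdv⟩
  obtain ⟨u, s, k, v, hy⟩ := exists_coord hs (g (v0 F K))
  have hq := qf_gv0 h hg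
  rw [hy] at hu hq hdy
  simp only at hu
  subst hu
  rw [qf_one, zero_mul, zero_add, mul_eq_zero] at hq
  have hsk : ¬ (s = 0 ∧ k = 0) := by
    rintro ⟨rfl, rfl⟩
    apply hn
    rw [fixV_iff, hy, mk_mem_Vb]
    simp
  -- the action of `d` on the basis vectors
  obtain ⟨u1, s1, k1, v1, h1⟩ := exists_coord hs (d (1, 0, 0, 0))
  obtain ⟨u2, φ, ψ, v2, h2⟩ := exists_coord hs (d (0, 1, 0, 0))
  obtain ⟨u3, φ', ψ', v3, h3⟩ := exists_coord hs (d (0, 0, 1, 0))
  have e1 := fst_apply h hd hl hdv (1, 0, 0, 0)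
  have e2 := fst_apply h hd hl hdv (0, 1, 0, 0)
  have e3 := fst_apply h hd hl hdv (0, 0, 1, 0)
  rw [h1] at e1
  rw [h2] at e2
  rw [h3] at e3
  simp only [mul_one, mul_zero] at e1 e2 e3
  subst e1 e2 e3
  have hgen : ∀ u s k v : F, d (u, s • (1 : K), k • (1 : K), v) =
      (u * l⁻¹, (u * s1 + s * φ + k * φ') • (1 : K), (u * k1 + s * ψ + k * ψ') • (1 : K),
        u * v1 + s * v2 + k * v3 + v * l) := by
    intro u s k v
    have e : ((u, s • (1 : K), k • (1 : K), v) : MM F K) = u • ((1, 0, 0, 0) : MM F K) + s • ((0, 1, 0, 0) : MM F K) +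
        k • ((0, 0, 1, 0) : MM F K) + v • v0 F K := by
      rw [smul_v0]
      simp
    rw [e, map_add, map_add, map_add, map_smul, map_smul, map_smul, map_smul, h1, h2, h3, hdv, smul_v0]
    simp only [Prod.smul_mk, Prod.mk_add_mk, smul_smul, ← add_smul, smul_eq_mul, mul_zero, add_zero, smul_zero]
  have htau : ∀ t : F, ∃ t' : F, ∀ w, d (AA C (t • (1 : K)) w) = AA C (t' • (1 : K)) (d w) := by
    intro t
    obtain ⟨t', ht'⟩ := exists_tau h hd hdf (t • (1 : K))
    obtain ⟨t'', rfl⟩ := exists_smul_one hs t'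
    exact ⟨t'', ht'⟩
  -- the relations
  have rel : ∀ t : F, ∃ t' : F, t * φ + t ^ 2 * φ' = t' * l⁻¹ ∧ t * ψ + t ^ 2 * ψ' = t' ^ 2 * l⁻¹ ∧
      (∀ s k : F, l * (t * k + t ^ 2 * s) = t' * (s * ψ + k * ψ') + t' ^ 2 * (s * φ + k * φ')) := by
    intro t
    obtain ⟨t', ht'⟩ := htau t
    refine ⟨t', ?_, ?_, ?_⟩
    · have h4 := ht' (1, (0 : F) • (1 : K), (0 : F) • (1 : K), 0)
      rw [AA_one hs, hgen, hgen, AA_one hs] at h4
      have h5 := (coord_inj h4).2.1
      linear_combination h5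
    · have h4 := ht' (1, (0 : F) • (1 : K), (0 : F) • (1 : K), 0)
      rw [AA_one hs, hgen, hgen, AA_one hs] at h4
      have h5 := (coord_inj h4).2.2.1
      linear_combination h5
    · intro s k
      have h4 := ht' (0, s • (1 : K), k • (1 : K), 0)
      rw [AA_one hs, hgen, hgen, AA_one hs] at h4
      have h5 := (coord_inj h4).2.2.2
      linear_combination h5
  rcases hq with rfl | rfl
  · have hk : k ≠ 0 := fun h0 => hsk ⟨rfl, h0⟩
    rw [hgen] at hdy
    simp only [Prod.smul_mk, smul_smul, smul_eq_mul] at hdy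
    obtain ⟨-, h5, h6, -⟩ := coord_inj hdy
    have hφ' : φ' = 0 := by
      have : k * φ' = 0 := by linear_combination h5
      exact (mul_eq_zero.1 this).resolve_left hk
    have hψ' : ψ' = l⁻¹ := by
      apply mul_left_cancel₀ hk
      linear_combination h6
    subst hφ' hψ'
    have key : ∀ t : F, t * ψ = t ^ 2 * (l ^ 3 + l⁻¹) := by
      intro t
      obtain ⟨t', r1, r2, r3⟩ := rel t
      have r4 := r3 0 1
      have r5 : t' = l ^ 2 * t := by
        field_simp at r4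
        linear_combination -r4
      rw [r5] at r2
      field_simp at r2 ⊢
      linear_combination r2 - t * C.char2 t
    have k1 := key 1
    have kl := key l
    have h7 : (l ^ 3 + l⁻¹) * (l * (1 - l)) = 0 := by linear_combination kl - l * k1
    have h8 : l * (1 - l) ≠ 0 := mul_ne_zero hl (sub_ne_zero.2 (Ne.symm hl1))
    have h9 := (mul_eq_zero.1 h7).resolve_right h8
    have h10 : l ^ 4 = 1 := by
      field_simp at h9
      grind
    have h11 : (l - 1) ^ 4 = 0 := by grind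
    exact hl1 (sub_eq_zero.1 ((pow_eq_zero_iff (by norm_num)).1 h11))
  · have hs0 : s ≠ 0 := fun h0 => hsk ⟨h0, rfl⟩
    rw [hgen] at hdy
    simp only [Prod.smul_mk, smul_smul, smul_eq_mul] at hdy
    obtain ⟨-, h5, h6, -⟩ := coord_inj hdy
    have hφ : φ = l⁻¹ := by
      apply mul_left_cancel₀ hs0
      linear_combination h5
    have hψ : ψ = 0 := by
      have : s * ψ = 0 := by linear_combination h6
      exact (mul_eq_zero.1 this).resolve_left hs0
    subst hφ hψ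
    have key : ∀ t : F, t ^ 2 * φ' = t * (1 + l⁻¹) := by
      intro t
      obtain ⟨t', r1, r2, r3⟩ := rel t
      have r4 := r3 1 0
      have r5 : t' ^ 2 = (l * t) ^ 2 := by
        field_simp at r4
        linear_combination -r4
      have r6 : (t' + l * t) ^ 2 = 0 := by grind
      have r7 : t' = l * t := C.eq_of_add_eq_zero ((pow_eq_zero_iff two_ne_zero).1 r6)
      rw [r7] at r1
      field_simp at r1 ⊢
      grind
    have k1 := key 1
    have kl := key l
    have h7 : φ' * (l * (l - 1)) = 0 := by linear_combination kl - l * k1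
    have h8 : l * (l - 1) ≠ 0 := mul_ne_zero hl (sub_ne_zero.2 hl1)
    have h9 := (mul_eq_zero.1 h7).resolve_right h8
    rw [h9] at k1
    apply hl1
    have h10 : l⁻¹ = 1 := by grind
    exact inv_eq_one.1 h10

end one

/-! ### The case `[K : F] = 3` -/

section three

variable (h3 : Module.finrank F K = 3)
include h3

/-- every `k` is orthogonal to some nonzero `t` -/
theorem exists_T_eq_zero [Finite K] (C : Cubic F K) (k : K) : ∃ t : K, t ≠ 0 ∧ C.T t k = 0 := by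
  have hf : Module.Finite F K := Module.finite_of_finrank_pos (by rw [h3]; norm_num)
  let φ : K →ₗ[F] F := { toFun := fun t => C.T t k, map_add' := fun a b => C.T_add_left a b k,
                         map_smul' := fun f a => by simpa using C.T_smul_left f a k }
  have h1 : LinearMap.ker φ ≠ ⊥ := LinearMap.ker_ne_bot_of_finrank_lt (by rw [Module.finrank_self, h3]; norm_num)
  obtain ⟨t, ht, ht0⟩ := (Submodule.ne_bot_iff _).1 h1
  exact ⟨t, ht0, ht⟩

variable {R : Subgroup (MM F K ≃ₗ[F] MM F K)}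

theorem snd_ne_zero [Finite K] (h : Lin C R) {g : MM F K ≃ₗ[F] MM F K} (hg : g ∈ R) (hn : ¬ FixV g)
    (hu : (g (v0 F K)).1 = 0) : (g (v0 F K)).2.1 ≠ 0 := by
  intro hs
  obtain ⟨u, s, k, v, hy⟩ : ∃ u s k v, g (v0 F K) = (u, s, k, v) := ⟨_, _, _, _, rfl⟩
  rw [hy] at hu hs
  simp only at hu hs
  subst hu hs
  obtain ⟨t, ht, htk⟩ := exists_T_eq_zero h3 C k
  apply ht
  apply h.reg g hg hn t
  rw [fixV_iff]
  change g⁻¹ (AA C t (g (v0 F K))) ∈ Vb F K
  have e : AA C t (g (v0 F K)) = g (v0 F K) := by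
    rw [hy, AA_apply]
    simp [C.cr_zero_right, C.T_zero_right, htk]
  rw [e, inv_apply_self]
  exact v0_mem

omit h3 in
theorem exists_transvection_three [Finite F] (h : Lin C R) {g : MM F K ≃ₗ[F] MM F K} (hg : g ∈ R)
    (hu : (g (v0 F K)).1 = 0) (hs : (g (v0 F K)).2.1 ≠ 0) (a : F) :
    ∃ t, AA C t (g (v0 F K)) = g (v0 F K) + a • v0 F K := by
  have hq := qf_gv0 h hg
  obtain ⟨u, s, k, v, hy⟩ : ∃ u s k v, g (v0 F K) = (u, s, k, v) := ⟨_, _, _, _, rfl⟩
  rw [hy] at hu hs hq ⊢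
  simp only at hu hs
  subst hu
  rw [qf] at hq
  simp only [zero_mul, zero_add] at hq
  obtain ⟨b, hb⟩ := exists_sqrt C (a / C.N s)
  refine ⟨b • s, ?_⟩
  rw [AA_apply, smul_v0, cr_smul_left, C.cr_self, C.T_smul_left, hq, C.sh_smul, C.T_smul_left, C.T_sh_self, hb,
    div_mul_cancel₀ _ (C.N_ne_zero hs)]
  simp

theorem fst_ne_zero_three [Finite F] [Finite K] (h : Lin C R) (hq : ∃ l : F, l ≠ 0 ∧ l ≠ 1)
    {g : MM F K ≃ₗ[F] MM F K} (hg : g ∈ R) (hn : ¬ FixV g) : (g (v0 F K)).1 ≠ 0 := by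
  have := charPF C
  intro hu
  have hu' : (g⁻¹ (v0 F K)).1 = 0 := by rw [inv_v0_fst h hg, hu]
  have hn' : ¬ FixV g⁻¹ := fun h1 => hn (fixV_inv_iff.1 h1)
  have hs := snd_ne_zero h3 h hg hn hu
  have hs' := snd_ne_zero h3 h (inv_mem hg) hn' hu'
  obtain ⟨l, hl, hl1⟩ := hq
  obtain ⟨d, hd, hdv, hdy⟩ := exists_torus (C := C) h.memA hg (exists_transvection_three h hg hu hs)
    (exists_transvection_three h (inv_mem hg) hu' hs') hl
  have hdf : FixV d := fixV_iff'.2 ⟨l, hl, hdv⟩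
  have hq := qf_gv0 h hg
  obtain ⟨u, s, k, v, hy⟩ : ∃ u s k v, g (v0 F K) = (u, s, k, v) := ⟨_, _, _, _, rfl⟩
  rw [hy] at hu hs hdy hq
  simp only at hu hs
  subst hu
  rw [qf] at hq
  simp only [zero_mul, zero_add] at hq
  obtain ⟨s', ht'⟩ := exists_tau h hd hdf s
  -- `s' = s`
  have e1 : s' = s := by
    have h4 := congrArg (fun w : MM F K => w.2.1) (ht' (1, 0, 0, 0))
    have e2 : AA C s ((1, 0, 0, 0) : MM F K) = (1, 0, 0, 0) + ((0, s, k, v) + (0, 0, C.sh s + k, C.N s + v)) := by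
      rw [AA_apply]
      simp only [Prod.mk_add_mk, C.cr_zero_right, C.T_zero_right, one_smul, zero_add, add_zero, one_mul]
      refine Prod.ext rfl (Prod.ext rfl (Prod.ext ?_ ?_))
      · simp only
        rw [add_comm (C.sh s) k, ← add_assoc, C.add_selfK, zero_add]
      · simp only
        rw [add_comm (C.N s) v, ← add_assoc, C.add_self, zero_add]
    have e3 : (d ((0, 0, C.sh s + k, C.N s + v) : MM F K)).2.1 = 0 :=
      (mem_Wb.1 (h.norW d hd hdf _ (mk_mem_Wb.2 ⟨rfl, rfl⟩))).2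
    have e4 : (d ((1, 0, 0, 0) : MM F K)).1 = l⁻¹ := by rw [fst_apply h hd hl hdv, mul_one]
    have e5 : (AA C s' (d ((1, 0, 0, 0) : MM F K))).2.1 = (d ((1, 0, 0, 0) : MM F K)).2.1 + l⁻¹ • s' := by
      rw [← e4]; rfl
    rw [e5, e2, map_add, map_add, hdy] at h4
    simp only [Prod.snd_add, Prod.fst_add, Prod.smul_mk, e3, add_zero] at h4
    have h5 := add_left_cancel h4
    have h6 := congrArg (fun x => l • x) h5
    simp only [smul_smul, mul_inv_cancel₀ hl, one_smul] at h6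
    exact h6.symm
  subst e1
  -- commutation
  have e6 : AA C s' ((0, s', k, v) : MM F K) = (0, s', k, v) + C.N s' • v0 F K := by
    rw [AA_apply, smul_v0, C.cr_self, hq, C.T_sh_self]
    simp
  have h7 := ht' (0, s', k, v)
  rw [e6, map_add, map_smul, hdv, hdy, map_smul, e6, smul_add] at h7
  have h8 := add_left_cancel h7
  rw [smul_smul, smul_smul, smul_v0, smul_v0] at h8
  simp only [Prod.mk.injEq, true_and] at h8
  have h9 : C.N s' * (l ^ 2 - 1) = 0 := by
    have : C.N s' * l * l = l⁻¹ * C.N s' * l := by rw [h8]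
    rw [mul_comm l⁻¹, mul_assoc _ l⁻¹ l, inv_mul_cancel₀ hl, mul_one] at this
    linear_combination this
  have h10 := (mul_eq_zero.1 h9).resolve_left (C.N_ne_zero hs)
  have h11 : (l - 1) ^ 2 = 0 := by grind
  exact hl1 (sub_eq_zero.1 ((pow_eq_zero_iff two_ne_zero).1 h11))

end three

theorem exists_scalar [Finite F] (d : Dat C) : ∃ l : F, l ≠ 0 ∧ l ≠ 1 := by
  classical
  by_contra hcon
  push Not at hcon
  have : Fintype F := Fintype.ofFinite F
  have h1 : (Finset.univ : Finset F) ⊆ {0, 1} := by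
    intro x _
    by_cases hx : x = 0
    · simp [hx]
    · simp [hcon x hx]
  have h2 := Finset.card_le_card h1
  have h3 : ({0, 1} : Finset F).card ≤ 2 := Finset.card_le_two
  have h4 := d.q4
  rw [Nat.card_eq_fintype_card, ← Finset.card_univ] at h4
  omega

/-- **f1**: a conjugate of `V̄` different from `V̄` is not in `{u = 0}`. -/
theorem fst_ne_zero [Finite F] [Finite K] (dd : Dat C) {R : Subgroup (MM F K ≃ₗ[F] MM F K)} (h : Lin C R)
    {g : MM F K ≃ₗ[F] MM F K} (hg : g ∈ R) (hn : ¬ FixV g) : (g (v0 F K)).1 ≠ 0 := by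
  rcases dd.deg with hs | h3
  · exact fst_ne_zero_one hs h (exists_scalar dd) hg hn
  · exact fst_ne_zero_three h3 h (exists_scalar dd) hg hn

end Cfsg.Agent.HexGlob.OneLinA
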