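import Mathlib
import Cfsg.Agent.HexGlob.OneLinA

/-!
# The linear group induced on `Da / Z`: f2 (`W̄ ∩ W̄^g = 0`)
-/

set_option autoImplicit false

namespace Cfsg.Agent.HexGlob.OneLinB

open Cfsg.Agent.HexRec Cfsg.Agent.HexEss Cfsg.Agent.HexEss.Abel Cfsg.Agent.HexGlob.OneSpec
open Cfsg.Agent.HexGlob.OneLinA

universe v

variable {F K : Type v} [Field F] [Field K] [Algebra F K] {C : Cubic F K}

/-- the trace form -/
def trF (C : Cubic F K) : LinearMap.BilinForm F K :=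
  LinearMap.mk₂ F C.T C.T_add_left (fun f a b => by rw [C.T_smul_left, smul_eq_mul]) C.T_add_right
    (fun f a b => by rw [C.T_smul_right, smul_eq_mul])

theorem trF_apply (a b : K) : trF C a b = C.T a b := rfl

theorem trF_nondegenerate : (trF C).Nondegenerate :=
  ⟨fun a ha => C.T_nondeg ha, fun a ha => C.T_nondeg fun b => by rw [C.T_comm]; exact ha b⟩

/-- a proper subspace is orthogonal to some nonzero vector -/
theorem exists_orth [Finite K] (C : Cubic F K) {U : Submodule F K} (hU : U ≠ ⊤) :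
    ∃ t : K, t ≠ 0 ∧ ∀ k ∈ U, C.T t k = 0 := by
  have hf : Module.Finite F K := Module.Finite.of_finite
  have h1 := LinearMap.BilinForm.finrank_orthogonal (trF_nondegenerate (C := C)) U
  have h2 : Module.finrank F U < Module.finrank F K := Submodule.finrank_lt hU
  have h3 : (trF C).orthogonal U ≠ ⊥ := by
    intro h4
    rw [h4, finrank_bot] at h1
    omega
  obtain ⟨t, ht, ht0⟩ := (Submodule.ne_bot_iff _).1 h3
  refine ⟨t, ht0, fun k hk => ?_⟩
  rw [C.T_comm]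
  exact ht k hk

section

variable {R : Subgroup (MM F K ≃ₗ[F] MM F K)}

/-- `W̄^g ∩ {(0,0,k,0)}` -/
def KK (g : MM F K ≃ₗ[F] MM F K) : Submodule F K where
  carrier := {k | ∃ w ∈ Wb F K, g w = (0, 0, k, 0)}
  add_mem' := by
    rintro a b ⟨w, hw, ha⟩ ⟨w', hw', hb⟩
    exact ⟨w + w', add_mem hw hw', by rw [map_add, ha, hb]; simp⟩
  zero_mem' := ⟨0, zero_mem _, by rw [map_zero]; rfl⟩
  smul_mem' := by
    rintro f a ⟨w, hw, ha⟩
    exact ⟨f • w, (Wb F K).smul_mem f hw, by rw [map_smul, ha]; simp⟩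

theorem mem_KK {g : MM F K ≃ₗ[F] MM F K} {k : K} : k ∈ KK g ↔ ∃ w ∈ Wb F K, g w = (0, 0, k, 0) := Iff.rfl

/-- the inner case of `f2`: after conjugation `g v₀ = (c, 0, κ, 0)` -/
theorem eq_of_mem (h : Lin C R) {g : MM F K ≃ₗ[F] MM F K} (hg : g ∈ R) {c : F} {κ : K} (hc : c ≠ 0)
    (hv : g (v0 F K) = (c, 0, κ, 0)) {w : MM F K} (hw : w ∈ Wb F K) (hgw : g w ∈ Wb F K) :
    ∃ k ∈ KK g, g w = (0, 0, k, 0) := by
  obtain ⟨u, s, k, v, hy⟩ : ∃ u s k v, g w = (u, s, k, v) := ⟨_, _, _, _, rfl⟩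
  rw [hy, mk_mem_Wb] at hgw
  obtain ⟨rfl, rfl⟩ := hgw
  have h1 := h.form g hg w (v0 F K)
  rw [hy, hv, formA_v0, (mem_Wb.1 hw).1, formA_apply] at h1
  simp only [C.T_zero_left, C.T_zero_right, zero_mul, zero_add, add_zero, mul_eq_zero] at h1
  have h2 : v = 0 := h1.resolve_left hc
  subst h2
  exact ⟨k, ⟨w, hw, hy⟩, hy⟩

theorem orth_tau (h : Lin C R) {g : MM F K ≃ₗ[F] MM F K} (hg : g ∈ R) {c : F} {κ : K} (hc : c ≠ 0)
    (hv : g (v0 F K) = (c, 0, κ, 0)) {t t' : K} (ht : ∀ k ∈ KK g, C.T t k = 0) {d : MM F K ≃ₗ[F] MM F K}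
    (hd : d ∈ R) (hd1 : FixV d) (hd2 : FixV (g⁻¹ * d * g)) (hd3 : d * AA C t * d⁻¹ = AA C t') {k : K}
    (hk : k ∈ KK g) : C.T t' k = 0 := by
  obtain ⟨w, hw, hgw⟩ := hk
  set x := d⁻¹ ((0, 0, k, 0) : MM F K) with hx
  have hxW : x ∈ Wb F K := h.norW d⁻¹ (inv_mem hd) (fixV_inv hd1) _ (mk_mem_Wb.2 ⟨rfl, rfl⟩)
  have hd2' : FixV (g⁻¹ * d⁻¹ * g) := by
    have h1 := fixV_inv hd2
    have e : (g⁻¹ * d * g)⁻¹ = g⁻¹ * d⁻¹ * g := by group
    rwa [e] at h1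
  have hw1 : (g⁻¹ * d⁻¹ * g) w ∈ Wb F K :=
    h.norW _ (mul_mem (mul_mem (inv_mem hg) (inv_mem hd)) hg) hd2' w hw
  have e1 : g ((g⁻¹ * d⁻¹ * g) w) = x := by
    change g (g⁻¹ (d⁻¹ (g w))) = x
    rw [apply_inv_self, hgw]
  obtain ⟨k1, hk1, hxk⟩ := eq_of_mem h hg hc hv hw1 (by rw [e1]; exact hxW)
  rw [e1] at hxk
  have h2 := ht k1 hk1
  -- transfer by `d`
  obtain ⟨l, hl, hdv⟩ := fixV_iff'.1 hd1
  set w1 : MM F K := (1, 0, 0, 0) with hw1'
  have h3 := h.form d hd (AA C t w1 + w1) x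
  have e2 : d x = (0, 0, k, 0) := apply_inv_self d _
  have e3 : AA C t w1 + w1 = (0, t, C.sh t, C.N t) := by
    rw [hw1', AA_apply]
    simp [C.cr_zero_right, C.T_zero_right, C.add_self]
  have e4 : d (AA C t w1) = AA C t' (d w1) := by
    rw [← hd3]
    change _ = d (AA C t (d⁻¹ (d w1)))
    rw [inv_apply_self]
  have e5 : (d w1).1 = l⁻¹ := by rw [fst_apply h hd hl hdv, hw1', mul_one]
  have e6 : (d (AA C t w1 + w1)).1 = 0 := by
    rw [map_add, e4, Prod.fst_add, AA_fst, C.add_self]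
  have e7 : (d (AA C t w1 + w1)).2.1 = l⁻¹ • t' := by
    rw [map_add, e4, Prod.snd_add, Prod.fst_add]
    change (d w1).2.1 + (d w1).1 • t' + (d w1).2.1 = _
    rw [e5, add_comm (d w1).2.1, add_assoc, C.add_selfK, add_zero]
  rw [e2, e3, hxk, formA_apply, formA_apply] at h3
  rw [← e3] at h3
  simp only [e6, e7, C.T_zero_right, mul_zero, zero_mul, zero_add, add_zero] at h3
  have e8 : (AA C t w1 + w1).2.1 = t := by rw [e3]
  rw [e8, h2, C.T_smul_left] at h3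
  exact (mul_eq_zero.1 h3).resolve_left (inv_ne_zero hl)

/-- the inner case of `f2` -/
theorem f2_aux [Finite K] [Finite F] (h : Lin C R) {g : MM F K ≃ₗ[F] MM F K} (hg : g ∈ R) (hn : ¬ FixV g)
    {c : F} {κ : K} (hc : c ≠ 0) (hv : g (v0 F K) = (c, 0, κ, 0)) {w : MM F K} (hw : w ∈ Wb F K)
    (hgw : g w ∈ Wb F K) : w = 0 := by
  by_contra hw0
  obtain ⟨k0, hk0, hgw0⟩ := eq_of_mem h hg hc hv hw hgw
  have hk00 : k0 ≠ 0 := by
    rintro rfl
    apply hw0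
    rw [← g.map_eq_zero_iff, hgw0]
    rfl
  -- `KK g = ⊤`
  have htop : KK g = ⊤ := by
    by_contra hne
    obtain ⟨t, ht0, ht⟩ := exists_orth C hne
    apply hk00
    apply C.T_nondeg
    intro t'
    rw [C.T_comm]
    by_cases ht' : t' = 0
    · rw [ht', C.T_zero_left]
    obtain ⟨d, hd, hd1, hd2, hd3⟩ := h.transT g hg hn t t' ht0 ht'
    exact orth_tau h hg hc hv ht hd hd1 hd2 hd3 hk0
  have hall : ∀ k : K, ∃ w ∈ Wb F K, g w = (0, 0, k, 0) := fun k => by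
    have : k ∈ KK g := by rw [htop]; exact Submodule.mem_top
    exact this
  have hone : ∃ w ∈ Wb F K, g w = (1, 0, 0, 0) := by
    obtain ⟨w1, hw1, e1⟩ := hall κ
    refine ⟨c⁻¹ • (v0 F K - w1), (Wb F K).smul_mem _ (sub_mem (Vb_le_Wb v0_mem) hw1), ?_⟩
    rw [map_smul, map_sub, hv, e1]
    simp only [Prod.mk_sub_mk, Prod.smul_mk, sub_zero, sub_self, smul_zero, smul_eq_mul, inv_mul_cancel₀ hc]
    rfl
  have hWW : ∀ a ∈ Wb F K, ∀ b ∈ Wb F K, formA C a b = 0 := by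
    rintro ⟨u, s, k, v⟩ ha ⟨u', s', k', v'⟩ hb
    obtain ⟨rfl, rfl⟩ := mk_mem_Wb.1 ha
    obtain ⟨rfl, rfl⟩ := mk_mem_Wb.1 hb
    rw [formA_apply]
    simp [C.T_zero_left, C.T_zero_right]
  have hgW : ∀ a ∈ Wb F K, (g a).2.1 = 0 ∧ (g a).2.2.2 = 0 := by
    intro a ha
    constructor
    · apply C.T_nondeg
      intro k
      obtain ⟨w', hw', e'⟩ := hall k
      have h1 := h.form g hg a w'
      rw [hWW a ha w' hw', e', formA_apply] at h1
      simpa [C.T_zero_right] using h1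
    · obtain ⟨w', hw', e'⟩ := hone
      have h1 := h.form g hg a w'
      rw [hWW a ha w' hw', e', formA_apply] at h1
      simpa [C.T_zero_right] using h1
  -- the element `a = 1`
  set m := g⁻¹ * AA C 1 * g with hm
  have hmR : m ∈ R := mul_mem (mul_mem (inv_mem hg) (h.memA 1)) hg
  have hmn : ¬ FixV m := fun h1 => one_ne_zero (h.reg g hg hn 1 h1)
  obtain ⟨b, hb⟩ := h.trans m hmR g hg hmn hn
  -- `m = AA b * g * r`
  set r := g⁻¹ * AA C b * m with hr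
  have hrR : r ∈ R := mul_mem (mul_mem (inv_mem hg) (h.memA b)) hmR
  have hrW : ∀ w ∈ Wb F K, r⁻¹ w ∈ Wb F K := h.norW _ (inv_mem hrR) (fixV_inv hb)
  have hAW : ∀ t : K, ∀ w ∈ Wb F K, AA C t w ∈ Wb F K := fun t => h.norW _ (h.memA t) (fixV_AA t)
  have hmW : ∀ k : K, ∃ w ∈ Wb F K, m w = (0, 0, k, C.T b k) := by
    intro k
    obtain ⟨w', hw', e'⟩ := hall k
    refine ⟨r⁻¹ w', hrW _ hw', ?_⟩
    have e2 : m = AA C b * g * r := by
      rw [hr]
      have : AA C b * g * (g⁻¹ * AA C b * m) = (AA C b * AA C b) * m := by group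
      rw [this, AA_mul_self, one_mul]
    rw [e2]
    change AA C b (g (r (r⁻¹ w'))) = _
    rw [apply_inv_self, e', AA_apply]
    simp [C.cr_zero_right, C.T_zero_right]
  have hx : ∀ k : K, ∃ x3 : K, g (0, 0, k, C.T b k) = (0, 0, x3, 0) ∧ C.T 1 x3 = 0 := by
    intro k
    obtain ⟨w', hw', e'⟩ := hmW k
    obtain ⟨x1, x2, x3, x4, hx⟩ : ∃ x1 x2 x3 x4, g (0, 0, k, C.T b k) = (x1, x2, x3, x4) := ⟨_, _, _, _, rfl⟩
    have h1 := hgW (0, 0, k, C.T b k) (mk_mem_Wb.2 ⟨rfl, rfl⟩)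
    have h2 := hgW w' hw'
    have e3 : g w' = AA C 1 (g (0, 0, k, C.T b k)) := by
      rw [← e', hm]
      change g w' = AA C 1 (g (g⁻¹ (AA C 1 (g w'))))
      rw [apply_inv_self]
      have : AA C 1 (AA C 1 (g w')) = (AA C 1 * AA C 1) (g w') := rfl
      rw [this, AA_mul_self]
      rfl
    rw [hx] at h1
    obtain ⟨rfl, rfl⟩ : x2 = 0 ∧ x4 = 0 := h1
    rw [e3, hx, AA_apply] at h2
    have h3 : x1 = 0 := by
      have := h2.1
      simpa using this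
    subst h3
    have h4 := h2.2
    simp only [C.T_zero_right, zero_mul, add_zero, zero_add] at h4
    exact ⟨x3, hx, h4⟩
  choose f hf hf' using hx
  have hinj : Function.Injective f := by
    intro a b' hab
    have h1 : g (0, 0, a, C.T b a) = g (0, 0, b', C.T b b') := by rw [hf, hf, hab]
    have h2 := g.injective h1
    simp only [Prod.mk.injEq] at h2
    exact h2.2.2.1
  obtain ⟨k, hk⟩ := (Finite.injective_iff_surjective.1 hinj) 1
  have h1 := hf' k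
  rw [hk, Cubic.T, mul_one, C.tr_one] at h1
  exact one_ne_zero h1

/-- **f2**: `W̄ ∩ W̄^g = 0` for `V̄^g ≠ V̄`. -/
theorem f2 [Finite K] [Finite F] (dd : Dat C) (h : Lin C R) {g : MM F K ≃ₗ[F] MM F K} (hg : g ∈ R) (hn : ¬ FixV g)
    {w : MM F K} (hw : w ∈ Wb F K) (hgw : g w ∈ Wb F K) : w = 0 := by
  have hAW : ∀ t : K, ∀ w ∈ Wb F K, AA C t w ∈ Wb F K := fun t => h.norW _ (h.memA t) (fixV_AA t)
  have hu := fst_ne_zero dd h hg hn
  obtain ⟨u, s, k, v, hy⟩ : ∃ u s k v, g (v0 F K) = (u, s, k, v) := ⟨_, _, _, _, rfl⟩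
  rw [hy] at hu
  simp only at hu
  set t : K := u⁻¹ • s with ht
  have hg' : AA C t * g ∈ R := mul_mem (h.memA t) hg
  have hn' : ¬ FixV (AA C t * g) := by
    intro h1
    apply hn
    have h2 := fixV_mul (fixV_AA (C := C) t) h1
    rwa [← mul_assoc, AA_mul_self, one_mul] at h2
  have hv : ∃ κ, (AA C t * g) (v0 F K) = (u, 0, κ, 0) := by
    have h1 := qf_gv0 h hg'
    have e : (AA C t * g) (v0 F K) = AA C t (u, s, k, v) := by rw [← hy]; rfl
    rw [e, AA_apply] at h1 ⊢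
    have e2 : s + u • t = 0 := by
      rw [ht, smul_smul, mul_inv_cancel₀ hu, one_smul, C.add_selfK]
    rw [e2] at h1 ⊢
    rw [qf] at h1
    simp only [C.T_zero_left, add_zero, mul_eq_zero] at h1
    exact ⟨_, by rw [h1.resolve_left hu]⟩
  obtain ⟨κ, hv⟩ := hv
  exact f2_aux h hg' hn' hu hv hw (hAW t _ hgw)

end

end Cfsg.Agent.HexGlob.OneLinB
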