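import Mathlib
import Cfsg.Agent.HexGlob.OneLinB

/-!
# The linear group induced on `Da / Z`: f3, f4, sing; `LinOut`
-/

set_option autoImplicit false

namespace Cfsg.Agent.HexGlob.OneLinOut

open Cfsg.Agent.HexRec Cfsg.Agent.HexEss Cfsg.Agent.HexEss.Abel Cfsg.Agent.HexGlob.OneSpec
open Cfsg.Agent.HexGlob.OneLinA Cfsg.Agent.HexGlob.OneLinB

universe v

variable {F K : Type v} [Field F] [Field K] [Algebra F K] {C : Cubic F K}
variable {R : Subgroup (MM F K ≃ₗ[F] MM F K)}

/-! ### Invariant additive subgroups -/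

section inv

variable {B : AddSubgroup (MM F K)}

theorem comm_mem (hA : ∀ t, ∀ b ∈ B, AA C t b ∈ B) {w : MM F K} (hw : w ∈ B) (t : K) : AA C t w + w ∈ B :=
  add_mem (hA t w hw) hw

theorem comm_eq (t : K) (u : F) (s k : K) (v : F) : AA C t ((u, s, k, v) : MM F K) + (u, s, k, v) =
    (0, u • t, C.cr t s + u • C.sh t, C.T t k + C.T (C.sh t) s + u * C.N t) := by
  rw [AA_apply]
  refine Prod.ext ?_ (Prod.ext ?_ (Prod.ext ?_ ?_))
  · exact C.add_self u
  · change s + u • t + s = u • t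
    rw [add_comm s, add_assoc, C.add_selfK, add_zero]
  · change k + C.cr t s + u • C.sh t + k = C.cr t s + u • C.sh t
    rw [add_assoc k, add_comm k, add_assoc, C.add_selfK, add_zero]
  · change v + C.T t k + C.T (C.sh t) s + u * C.N t + v = C.T t k + C.T (C.sh t) s + u * C.N t
    have := C.char2 v
    linear_combination this

/-- a nonzero additive subgroup invariant under `T₁` meets `V̄` -/
theorem exists_mem_v0 [Finite F] [Finite K] (dd : Dat C) (hA : ∀ t, ∀ b ∈ B, AA C t b ∈ B) (hB : B ≠ ⊥) :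
    ∃ c : F, c ≠ 0 ∧ ((0, 0, 0, c) : MM F K) ∈ B := by
  -- elements of `W̄`
  have hW : ∀ k v, ((0, 0, k, v) : MM F K) ∈ B → k ≠ 0 → ∃ c : F, c ≠ 0 ∧ ((0, 0, 0, c) : MM F K) ∈ B := by
    intro k v hk hk0
    obtain ⟨t, ht⟩ := C.exists_T_eq hk0 1
    have h1 := comm_mem hA hk t
    rw [comm_eq] at h1
    simp only [C.cr_zero_right, C.T_zero_right, zero_smul, zero_mul, add_zero] at h1
    rw [C.T_comm, ht] at h1
    exact ⟨1, one_ne_zero, h1⟩
  -- elements of `{u = 0}`
  have hS : ∀ s k v, ((0, s, k, v) : MM F K) ∈ B → s ≠ 0 → ∃ c : F, c ≠ 0 ∧ ((0, 0, 0, c) : MM F K) ∈ B := by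
    intro s k v hs hs0
    by_cases hcr : ∃ t, C.cr t s ≠ 0
    · obtain ⟨t, ht⟩ := hcr
      have h1 := comm_mem hA hs t
      rw [comm_eq] at h1
      simp only [zero_smul, zero_mul, add_zero] at h1
      exact hW _ _ h1 ht
    · push Not at hcr
      have h1 : ∀ t, ((0, 0, 0, C.T t k + C.T (C.sh t) s) : MM F K) ∈ B := by
        intro t
        have h1 := comm_mem hA hs t
        rw [comm_eq, hcr t] at h1
        simpa only [zero_smul, zero_mul, add_zero] using h1
      by_contra hcon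
      push Not at hcon
      have h2 : ∀ t, C.T t k + C.T (C.sh t) s = 0 := by
        intro t
        by_contra h3
        exact hcon _ h3 (h1 t)
      -- evaluate at `t = f • s`
      have h3 : ∀ f : F, f * (C.T s k + f * C.N s) = 0 := by
        intro f
        have h4 := h2 (f • s)
        rw [C.T_smul_left, C.sh_smul, C.T_smul_left, C.T_sh_self] at h4
        linear_combination h4
      obtain ⟨l, hl, hl1⟩ := exists_scalar dd
      have h5 := (mul_eq_zero.1 (h3 1)).resolve_left one_ne_zero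
      have h6 := (mul_eq_zero.1 (h3 l)).resolve_left hl
      have h7 : (l - 1) * C.N s = 0 := by linear_combination h6 - h5
      rcases mul_eq_zero.1 h7 with h8 | h8
      · exact hl1 (sub_eq_zero.1 h8)
      · exact C.N_ne_zero hs0 h8
  obtain ⟨w, hw, hw0⟩ : ∃ w ∈ B, w ≠ 0 := by
    by_contra hcon
    push Not at hcon
    exact hB ((AddSubgroup.eq_bot_iff_forall B).2 hcon)
  obtain ⟨u, s, k, v⟩ := w
  by_cases hu : u = 0
  · subst hu
    by_cases hs : s = 0
    · subst hs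
      by_cases hk : k = 0
      · subst hk
        refine ⟨v, ?_, hw⟩
        rintro rfl
        exact hw0 rfl
      · exact hW k v hw hk
    · exact hS s k v hw hs
  · have h1 := comm_mem hA hw 1
    rw [comm_eq] at h1
    exact hS _ _ _ h1 (by simpa using hu)

/-- a nonzero invariant additive subgroup contains an element of `V̄^g` with `u ≠ 0` -/
theorem exists_fst_ne_zero [Finite F] [Finite K] (dd : Dat C) (h : Lin C R) (hinv : ∀ g ∈ R, ∀ b ∈ B, g b ∈ B)
    (hB : B ≠ ⊥) : ∃ b ∈ B, b.1 ≠ 0 := by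
  obtain ⟨c, hc, hcB⟩ := exists_mem_v0 dd (fun t b hb => hinv _ (h.memA t) b hb) hB
  obtain ⟨g, hg, hn⟩ := h.ne
  refine ⟨g (0, 0, 0, c), hinv g hg _ hcB, ?_⟩
  rw [← smul_v0, map_smul]
  exact mul_ne_zero hc (fst_ne_zero dd h hg hn)

theorem f3 [Finite F] [Finite K] (dd : Dat C) (h : Lin C R) (hinv : ∀ g ∈ R, ∀ b ∈ B, g b ∈ B)
    (hB : B ≠ ⊥) (x : MM F K) (hx : ∀ b ∈ B, formA C x b = 0) : x = 0 := by
  by_contra hx0
  let B' : AddSubgroup (MM F K) :=
    { carrier := {x | ∀ b ∈ B, formA C x b = 0}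
      add_mem' := by
        intro a a' ha ha' b hb
        rw [map_add, LinearMap.add_apply, ha b hb, ha' b hb, add_zero]
      zero_mem' := by
        intro b _
        rw [map_zero, LinearMap.zero_apply]
      neg_mem' := by
        intro a ha b hb
        rw [map_neg, LinearMap.neg_apply, ha b hb, neg_zero] }
  have hB' : B' ≠ ⊥ := by
    intro h1
    have h2 : x ∈ B' := hx
    rw [h1, AddSubgroup.mem_bot] at h2
    exact hx0 h2
  have hinv' : ∀ g ∈ R, ∀ b ∈ B', g b ∈ B' := by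
    intro g hg a ha b hb
    have h1 := ha (g⁻¹ b) (hinv _ (inv_mem hg) b hb)
    rw [← h.form g hg, apply_inv_self] at h1
    exact h1
  obtain ⟨c, hc, hcB⟩ := exists_mem_v0 dd (fun t b hb => hinv' _ (h.memA t) b hb) hB'
  obtain ⟨b, hb, hb1⟩ := exists_fst_ne_zero dd h hinv hB
  have h1 := hcB b hb
  rw [← smul_v0, map_smul, LinearMap.smul_apply, v0_formA, smul_eq_mul] at h1
  exact mul_ne_zero hc hb1 h1

theorem f3' [Finite F] [Finite K] (dd : Dat C) (h : Lin C R) (hinv : ∀ g ∈ R, ∀ b ∈ B, g b ∈ B)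
    (hB : B ≠ ⊥) (t : K) (ht : ∀ b ∈ B, AA C t b = b) : t = 0 := by
  obtain ⟨⟨u, s, k, v⟩, hb, hb1⟩ := exists_fst_ne_zero dd h hinv hB
  have h1 := ht _ hb
  rw [AA_apply] at h1
  simp only [Prod.mk.injEq, true_and, add_eq_left] at h1
  exact (smul_eq_zero.1 h1.1).resolve_left hb1

theorem f4 [Finite F] [Finite K] (dd : Dat C) (h : Lin C R) (h3 : Module.finrank F K = 3)
    (hinv : ∀ g ∈ R, ∀ b ∈ B, g b ∈ B) (hB : B ≠ ⊥) : B = ⊤ := by
  have hA : ∀ t, ∀ b ∈ B, AA C t b ∈ B := fun t b hb => hinv _ (h.memA t) b hb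
  obtain ⟨⟨u, s0, k0, w0⟩, hb, hb1⟩ := exists_fst_ne_zero dd h hinv hB
  simp only at hb1
  -- all `s`
  have hS : ∀ s : K, ∃ k v, ((0, s, k, v) : MM F K) ∈ B := by
    intro s
    have h1 := comm_mem hA hb (u⁻¹ • s)
    rw [comm_eq, smul_smul, mul_inv_cancel₀ hb1, one_smul] at h1
    exact ⟨_, _, h1⟩
  -- all `k`
  have hK : ∀ k : K, ∃ v, ((0, 0, k, v) : MM F K) ∈ B := by
    intro k
    obtain ⟨t, ht, htk⟩ := exists_T_eq_zero h3 C k
    obtain ⟨s, hs⟩ := exists_cr_eq dd.reg ht htk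
    obtain ⟨k', v, hm⟩ := hS s
    have h1 := comm_mem hA hm t
    rw [comm_eq, zero_smul, zero_smul, zero_mul, add_zero, add_zero, hs] at h1
    exact ⟨_, h1⟩
  -- all `v`
  have hV : ∀ v : F, ((0, 0, 0, v) : MM F K) ∈ B := by
    intro v
    obtain ⟨t, ht⟩ := C.exists_T_eq (one_ne_zero (α := K)) v
    obtain ⟨v', hm⟩ := hK 1
    have h1 := comm_mem hA hm t
    rw [comm_eq, C.cr_zero_right, C.T_zero_right, zero_smul, zero_smul, zero_mul, add_zero, add_zero, add_zero,
      C.T_comm, ht] at h1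
    exact h1
  have hK' : ∀ (k : K) (v : F), ((0, 0, k, v) : MM F K) ∈ B := by
    intro k v
    obtain ⟨v', hm⟩ := hK k
    have h1 := add_mem hm (hV (v - v'))
    simpa using h1
  have hS' : ∀ (s k : K) (v : F), ((0, s, k, v) : MM F K) ∈ B := by
    intro s k v
    obtain ⟨k', v', hm⟩ := hS s
    have h1 := add_mem hm (hK' (k - k') (v - v'))
    simpa using h1
  obtain ⟨g, hg, hn⟩ := h.ne
  have hu := fst_ne_zero dd h hg hn
  rw [AddSubgroup.eq_top_iff']
  rintro ⟨a, s, k, v⟩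
  obtain ⟨u1, s1, k1, v1, hy⟩ : ∃ u s k v, g (v0 F K) = (u, s, k, v) := ⟨_, _, _, _, rfl⟩
  rw [hy] at hu
  simp only at hu
  have h1 := hinv g hg _ (hV (a / u1))
  rw [← smul_v0, map_smul, hy] at h1
  simp only [Prod.smul_mk, smul_eq_mul, div_mul_cancel₀ _ hu] at h1
  have h2 := add_mem h1 (hS' (s - (a / u1) • s1) (k - (a / u1) • k1) (v - a / u1 * v1))
  simpa using h2

end inv

/-! ### Singular vectors -/

theorem qf_Wb {w : MM F K} (hw : w ∈ Wb F K) : qf C w = 0 := by
  obtain ⟨u, s, k, v⟩ := w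
  obtain ⟨rfl, rfl⟩ := mk_mem_Wb.1 hw
  simp [qf, C.T_zero_left]

theorem sing [Finite F] [Finite K] (dd : Dat C) (h : Lin C R) (x : MM F K) (hx : qf C x = 0) :
    ∃ g ∈ R, g x ∈ Wb F K := by
  classical
  by_cases hxW : x ∈ Wb F K
  · exact ⟨1, one_mem _, hxW⟩
  obtain ⟨g, hg, hn⟩ := h.ne
  have hAW : ∀ t : K, ∀ w ∈ Wb F K, AA C t w ∈ Wb F K := fun t => h.norW _ (h.memA t) (fixV_AA t)
  have hAA : ∀ (t : K) (w : MM F K), AA C t (AA C t w) = w := by
    intro t w
    have : AA C t (AA C t w) = (AA C t * AA C t) w := rfl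
    rw [this, AA_mul_self]
    rfl
  let D := K × {w : MM F K // w ∈ Wb F K ∧ w ≠ 0}
  let E := {x : MM F K // qf C x = 0 ∧ x ∉ Wb F K}
  let Ψ : D → E := fun p => ⟨AA C p.1 (g p.2.1), by
    refine ⟨?_, ?_⟩
    · rw [h.quad _ (h.memA _), h.quad g hg, qf_Wb p.2.2.1]
    · intro h1
      have h2 := hAW p.1 _ h1
      rw [hAA] at h2
      exact p.2.2.2 (f2 dd h hg hn p.2.2.1 h2)⟩
  have hΨ : Function.Injective Ψ := by
    rintro ⟨t, w, hw, hw0⟩ ⟨t', w', hw', hw0'⟩ he
    have h1 : AA C t (g w) = AA C t' (g w') := congrArg Subtype.val he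
    have h2 : AA C (t' + t) (g w) = g w' := by
      have h3 := congrArg (AA C t') h1
      rw [hAA] at h3
      rw [← h3]
      exact (aFun_aFun C t' t (g w)).symm
    have h4 : t' + t = 0 := by
      by_contra hne
      have hm : ¬ FixV (g⁻¹ * AA C (t' + t) * g) := fun h5 => hne (h.reg g hg hn _ h5)
      have h6 : (g⁻¹ * AA C (t' + t) * g) w = w' := by
        change g⁻¹ (AA C (t' + t) (g w)) = w'
        rw [h2, inv_apply_self]
      exact hw0 (f2 dd h (mul_mem (mul_mem (inv_mem hg) (h.memA _)) hg) hm hw (by rw [h6]; exact hw'))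
    have h5 : t' = t := C.eq_of_add_eq_zeroK h4
    subst h5
    rw [h4, AA_zero] at h2
    have h6 : w = w' := g.injective h2
    subst h6
    rfl
  have hb : ∀ s : K, ∃ b : K, s ≠ 0 → C.T s b = 1 := by
    intro s
    by_cases hs : s = 0
    · exact ⟨0, fun h => absurd hs h⟩
    · obtain ⟨b, hb⟩ := C.exists_T_eq hs 1
      exact ⟨b, fun _ => hb⟩
  choose b hb using hb
  let j : E → D := fun x => (if x.1.1 = 0 then x.1.2.2.1 + x.1.2.2.2 • b x.1.2.1 else x.1.2.2.1,
    ⟨(0, 0, x.1.2.1, x.1.1), mk_mem_Wb.2 ⟨rfl, rfl⟩, by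
      intro h1
      apply x.2.2
      simp only [Prod.mk_eq_zero, true_and] at h1
      exact mem_Wb.2 ⟨h1.2, h1.1⟩⟩)
  have hj : Function.Injective j := by
    rintro ⟨⟨u, s, k, v⟩, hq, hW⟩ ⟨⟨u', s', k', v'⟩, hq', hW'⟩ he
    have h1 := congrArg (fun p : D => p.1) he
    have h2 := congrArg (fun p : D => p.2.1) he
    simp only [j, Prod.mk.injEq, true_and] at h1 h2
    obtain ⟨rfl, rfl⟩ := h2
    rw [qf] at hq hq'
    simp only at hq hq'
    by_cases hu : u = 0
    · subst hu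
      rw [if_pos rfl, if_pos rfl] at h1
      have hs : s ≠ 0 := by
        rintro rfl
        exact hW (mk_mem_Wb.2 ⟨rfl, rfl⟩)
      have h3 := congrArg (fun y => C.T s y) h1
      simp only [C.T_add_right, C.T_smul_right, hb s hs, mul_one] at h3
      rw [zero_mul, zero_add] at hq hq'
      rw [hq, hq', zero_add, zero_add] at h3
      subst h3
      have h4 := add_right_cancel h1
      subst h4
      rfl
    · rw [if_neg hu, if_neg hu] at h1
      subst h1
      have h3 : u * v = u * v' := by linear_combination hq - hq'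
      have h4 := mul_left_cancel₀ hu h3
      subst h4
      rfl
  have hcard : Nat.card E ≤ Nat.card D := Nat.card_le_card_of_injective j hj
  have hbij := hΨ.bijective_of_nat_card_le hcard
  obtain ⟨⟨t, w, hw, hw0⟩, he⟩ := hbij.2 ⟨x, hx, hxW⟩
  have h1 : AA C t (g w) = x := congrArg Subtype.val he
  refine ⟨g⁻¹ * AA C t, mul_mem (inv_mem hg) (h.memA t), ?_⟩
  change g⁻¹ (AA C t x) ∈ Wb F K
  rw [← h1, hAA, inv_apply_self]
  exact hw

/-- Pieces E4-E8. -/
theorem of_lin [Finite F] [Finite K] (dd : Dat C) (h : Lin C R) : LinOut C R where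
  f1 := by
    intro g hg hn w hw h1
    obtain ⟨c, rfl⟩ := mem_Vb_iff.1 hw
    rw [map_smul] at h1
    have h2 := (mul_eq_zero.1 h1).resolve_right (fst_ne_zero dd h hg hn)
    rw [h2, zero_smul]
  f2 := fun g hg hn w hw hgw => f2 dd h hg hn hw hgw
  f3 := fun B hinv hB x hx => f3 dd h hinv hB x hx
  f3' := fun B hinv hB t ht => f3' dd h hinv hB t ht
  f4 := fun h3 B hinv hB => f4 dd h h3 hinv hB
  sing := sing dd h

end Cfsg.Agent.HexGlob.OneLinOut
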