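import Mathlib
import Cfsg.Agent.HexGlob.OneBase

/-!
# `Out1` from the linear algebra

Translation of `LinOut C (R1 co)` to statements on `L₁` and `Da`.
-/

set_option autoImplicit false

namespace Cfsg.Agent.HexGlob.OneOut

open Cfsg.Agent.HexRec Cfsg.Agent.HexEss Cfsg.Agent.HexEss.Abel Subgroup Cfsg.Agent.HexGlob.OneSpec
  Cfsg.Agent.HexGlob.OneRep Cfsg.Agent.HexGlob.OneBase

universe u v

variable {F K : Type v} [Field F] [Field K] [Algebra F K] {C : Cubic F K}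
  {G : Type u} [Group G] [Finite G] {S : Sylow 2 G} (co : Coord C (S : Subgroup G))

/-- the image of an invariant subgroup -/
theorem exists_image {Y : Subgroup G} (hY : Y ≤ Da co) (hYn : L1 S co ≤ normalizer (Y : Set G)) (hYZ : ¬ Y ≤ Z co) :
    ∃ B : AddSubgroup (MM F K), (∀ b, b ∈ B ↔ ∃ y ∈ Y, wA co y = b) ∧ (∀ g ∈ R1 co, ∀ b ∈ B, g b ∈ B) ∧ B ≠ ⊥ := by
  refine ⟨{ carrier := {b | ∃ y ∈ Y, wA co y = b}
            add_mem' := ?_
            zero_mem' := ⟨1, one_mem _, wA_one⟩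
            neg_mem' := ?_ }, fun b => Iff.rfl, ?_, ?_⟩
  · rintro _ _ ⟨y, hy, rfl⟩ ⟨y', hy', rfl⟩
    exact ⟨y * y', mul_mem hy hy', wA_mul (hY hy) (hY hy')⟩
  · rintro _ ⟨y, hy, rfl⟩
    refine ⟨y, hy, ?_⟩
    have := OddLin.MM_add_self C (wA co y)
    exact eq_neg_of_add_eq_zero_left this
  · rintro _ ⟨l, rfl⟩ _ ⟨y, hy, rfl⟩
    exact ⟨(l : G) * y * (l : G)⁻¹, (mem_normalizer_iff.1 (hYn l.2) y).1 hy, (rh_wA co l (hY hy)).symm⟩
  · intro h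
    apply hYZ
    intro y hy
    have h1 : wA co y ∈ (⊥ : AddSubgroup (MM F K)) := by
      rw [← h]
      exact ⟨y, hy, rfl⟩
    exact (wA_eq_zero (hY hy)).1 (AddSubgroup.mem_bot.1 h1)

/-- an invariant subgroup not in `Z` contains `Z` -/
theorem Z_le {Y : Subgroup G} (hY : Y ≤ Da co) (hYn : L1 S co ≤ normalizer (Y : Set G)) (hYZ : ¬ Y ≤ Z co) :
    Z co ≤ Y := by
  obtain ⟨y, hy, hyZ⟩ := SetLike.not_le_iff_exists.1 hYZ
  intro z hz
  obtain ⟨t, ht, rfl⟩ := exists_cm_Da (co := co) (hY hy) hyZ hz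
  have h1 : t * y * t⁻¹ ∈ Y := (mem_normalizer_iff.1 (hYn (S_le_L1 co ht.1)) y).1 hy
  exact mul_mem h1 (inv_mem hy)

/-- **Translation.** -/
theorem out1 (hne : ∃ g ∈ R1 co, ¬ FixV g) (hsim : IsSimpleGroup (R1 co)) (h : LinOut C (R1 co)) : Out1 S co := by
  have hf3' : ∀ Y : Subgroup G, Y ≤ Da co → L1 S co ≤ normalizer (Y : Set G) → ¬ Y ≤ Z co →
      ∀ x ∈ (S : Subgroup G), (∀ y ∈ Y, cm x y ∈ Z co) → x ∈ Da co := by
    intro Y hY hYn hYZ x hx hxy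
    obtain ⟨B, hB, hBn, hB0⟩ := exists_image co hY hYn hYZ
    refine ⟨hx, h.f3' B hBn hB0 _ ?_⟩
    intro b hb
    obtain ⟨y, hy, rfl⟩ := (hB b).1 hb
    rw [← wA_conj hx (hY hy), conj_eq_cm_mul, wA_mul (Z_le_Da (hxy y hy)) (hY hy),
      (wA_eq_zero (Z_le_Da (hxy y hy))).2 (hxy y hy), zero_add]
  refine ⟨(acts co).cen, ?_, ?_, ?_, ?_, hf3', ?_, ?_, ?_⟩
  · -- f0
    obtain ⟨_, ⟨l, rfl⟩, hl⟩ := hne
    obtain ⟨v, hv, hvw⟩ := exists_wA (co := co) (0, 0, 0, 1)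
    refine ⟨l, l.2, v, ?_, fun h1 => ?_⟩
    · rw [mem_E2_iff co hv, hvw]
      exact ⟨rfl, rfl, rfl⟩
    · rw [mem_RR_iff co (conj_mem_Da co l.2 hv), ← rh_wA co l hv, hvw] at h1
      have h2 := h.f1 _ ⟨l, rfl⟩ hl (0, 0, 0, 1) ⟨rfl, rfl, rfl⟩ h1
      have h3 : (1 : F) = 0 := congrArg (fun w : MM F K => w.2.2.2) h2
      exact one_ne_zero h3
  · -- f1
    intro g hg hgN v hv hgv
    have hvD := E2_le_Da hv
    rw [mem_RR_iff co (conj_mem_Da co hg hvD), ← rh_wA co ⟨g, hg⟩ hvD] at hgv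
    exact (wA_eq_zero hvD).1 (h.f1 _ ⟨⟨g, hg⟩, rfl⟩ (fun h1 => hgN ((fixV_iff co ⟨g, hg⟩).1 h1)) _
      ((mem_E2_iff co hvD).1 hv) hgv)
  · -- f2
    intro g hg hgN w hw hgw
    have hwD := F0_le_Da hw
    rw [mem_F0_iff co (conj_mem_Da co hg hwD), ← rh_wA co ⟨g, hg⟩ hwD] at hgw
    exact (wA_eq_zero hwD).1 (h.f2 _ ⟨⟨g, hg⟩, rfl⟩ (fun h1 => hgN ((fixV_iff co ⟨g, hg⟩).1 h1)) _
      ((mem_F0_iff co hwD).1 hw) hgw)
  · -- f3
    intro Y hY hYn hYZ x hx hxy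
    have hxD := hf3' Y hY hYn hYZ x hx (fun y hy => by rw [hxy y hy]; exact one_mem _)
    obtain ⟨B, hB, hBn, hB0⟩ := exists_image co hY hYn hYZ
    rw [← wA_eq_zero hxD]
    refine h.f3 B hBn hB0 _ ?_
    intro b hb
    obtain ⟨y, hy, rfl⟩ := (hB b).1 hb
    exact (cm_Da_eq_one hxD (hY hy)).1 (hxy y hy)
  · -- f4
    intro h3 Y hY hYn hYZ
    refine le_antisymm hY fun x hx => ?_
    obtain ⟨B, hB, hBn, hB0⟩ := exists_image co hY hYn hYZ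
    have hBt := h.f4 h3 B hBn hB0
    obtain ⟨y, hy, hyx⟩ := (hB (wA co x)).1 (by rw [hBt]; trivial)
    have h1 := Z_le co hY hYn hYZ (wA_inv_mul (hY hy) hx hyx)
    have := mul_mem hy h1
    simpa using this
  · -- simple
    intro M hM hMn
    have hnor : ((M.subgroupOf (L1 S co)).map (rr co)).Normal := by
      refine ⟨?_⟩
      rintro _ ⟨m, hm, rfl⟩ g
      obtain ⟨l, rfl⟩ := rr_surjective co g
      refine ⟨l * m * l⁻¹, ?_, by rw [map_mul, map_mul, map_inv]⟩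
      exact (mem_normalizer_iff.1 (hMn l.2) m).1 hm
    rcases hnor.eq_bot_or_eq_top with h1 | h1
    · left
      intro m hm
      have h2 : rr co ⟨m, hM hm⟩ ∈ (M.subgroupOf (L1 S co)).map (rr co) := ⟨⟨m, hM hm⟩, hm, rfl⟩
      rw [h1, mem_bot] at h2
      exact rr_eq_one co h2
    · right
      intro l hl
      have h2 : rr co ⟨l, hl⟩ ∈ (M.subgroupOf (L1 S co)).map (rr co) := by rw [h1]; trivial
      obtain ⟨m, hm, hml⟩ := h2
      have h3 : rr co (m⁻¹ * ⟨l, hl⟩) = 1 := by rw [map_mul, map_inv, hml, inv_mul_cancel]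
      have h4 := rr_eq_one co h3
      have h5 : l = (m : G) * ((m : G)⁻¹ * l) := by group
      rw [h5]
      exact mul_mem (mem_sup_left hm) (mem_sup_right h4)
  · -- sing
    intro t ht htt
    obtain ⟨_, ⟨l, rfl⟩, hl⟩ := h.sing (wA co t) ((sq_eq_one_iff ht).1 htt)
    refine ⟨l, l.2, ?_⟩
    rw [mem_F0_iff co (conj_mem_Da co l.2 ht), ← rh_wA co l ht]
    exact hl

end Cfsg.Agent.HexGlob.OneOut
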