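import Mathlib
import Cfsg.Agent.StrongEmb.Strong
import Cfsg.Agent.S1225
import Cfsg.Agent.Lib.GoldschmidtFusion
import Cfsg.Agent.BenderType.Classify
import Cfsg.Agent.WeakTI.PslTwo

/-!
# Groups with a strongly embedded subgroup and elementary abelian Sylow 2-subgroups

`R` finite, `O(R) = 1`, generated by the conjugates of its elementary abelian Sylow 2-subgroup `T` of order
at least 4, with a strongly embedded subgroup: `R ≅ SL(2, |T|)`.
-/

set_option autoImplicit false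

namespace Cfsg.Agent.HexGlob.RankOne

open Cfsg Subgroup Matrix Cfsg.Agent.TwoFusion.StronglyEmbeddedBasic
open Cfsg.Agent.StrongEmb.Split Cfsg.Agent.StrongEmb.TwoRank
open Cfsg.Agent.SuzukiRankOne.Reduction (invClosure mem_invClosure invClosure_normal)

universe u

variable {R : Type u} [Group R] [Finite R]

/-- the hypotheses -/
structure Hyp (T : Sylow 2 R) : Prop where
  sq : ∀ x ∈ (T : Subgroup R), x * x = 1
  card4 : 4 ≤ Nat.card (T : Subgroup R)
  core : Cfsg.oddCore R = ⊥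
  gen : Subgroup.normalClosure ((T : Subgroup R) : Set R) = ⊤
  se : ∃ H : Subgroup R, Cfsg.IsStronglyEmbedded H

namespace Hyp

variable {T : Sylow 2 R}

theorem comm (h : Hyp T) {x y : R} (hx : x ∈ (T : Subgroup R)) (hy : y ∈ (T : Subgroup R)) : x * y = y * x := by
  have h1 := h.sq _ (mul_mem hx hy)
  have h2 : x⁻¹ = x := inv_eq_of_mul_eq_one_left (h.sq x hx)
  have h3 : y⁻¹ = y := inv_eq_of_mul_eq_one_left (h.sq y hy)
  calc x * y = (x * y)⁻¹ := (inv_eq_of_mul_eq_one_left h1).symm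
    _ = y⁻¹ * x⁻¹ := mul_inv_rev x y
    _ = y * x := by rw [h2, h3]

theorem exists_ne_one (h : Hyp T) : ∃ t ∈ (T : Subgroup R), t ≠ 1 := by
  by_contra hcon
  push Not at hcon
  have : (T : Subgroup R) = ⊥ := (Subgroup.eq_bot_iff_forall _).2 hcon
  have h1 := h.card4
  rw [this, Subgroup.card_bot] at h1
  omega

theorem invClosure_eq_top (h : Hyp T) : invClosure R = ⊤ := by
  rw [eq_top_iff, ← h.gen]
  have : (invClosure R).Normal := invClosure_normal R
  apply Subgroup.normalClosure_le_normal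
  intro x hx
  exact mem_invClosure (h.sq x hx)

theorem simple (h : Hyp T) : IsSimpleGroup R := by
  obtain ⟨H, hH⟩ := h.se
  have h1 := isSimpleGroup_invClosure hH h.core
  rw [h.invClosure_eq_top] at h1
  have e : R ≃* (⊤ : Subgroup R) := Subgroup.topEquiv.symm
  have : Nontrivial R := e.toEquiv.nontrivial
  exact IsSimpleGroup.isSimpleGroup_of_surjective (Subgroup.topEquiv : (⊤ : Subgroup R) ≃* R).toMonoidHom
    (Subgroup.topEquiv : (⊤ : Subgroup R) ≃* R).surjective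

theorem noncomm (h : Hyp T) : ∃ a b : R, a * b ≠ b * a := by
  by_contra hcon
  push Not at hcon
  obtain ⟨H, hH⟩ := h.se
  obtain ⟨t, ht, ht2⟩ := exists_involution_notMem hH
  obtain ⟨s, hs, hs2⟩ := exists_involution hH
  exact ht (mem_of_commute hH hs hs2 (hcon t s))

/-- the core fact: `T` is conjugate to the regular normal subgroup of `H` -/
theorem exists_data (h : Hyp T) : ∃ (H : Subgroup R) (c : R), Cfsg.IsStronglyEmbedded H ∧
    IsSplit H ((T : Subgroup R).map (MulAut.conj c).toMonoidHom) ∧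
    normalizer (((T : Subgroup R).map (MulAut.conj c).toMonoidHom : Subgroup R) : Set R) = H := by
  have hsim := h.simple
  obtain ⟨H, hH⟩ := h.se
  obtain ⟨Q, hQ, hQ2⟩ := Cfsg.Agent.StrongEmb.Strong.exists_isSplit h.noncomm H hH
  have hr : CommPair R := by
    obtain ⟨z, -, hz⟩ := exists_involution hH
    exact Cfsg.Agent.StrongEmb.Simple.commPair_of_simple h.noncomm hz
  have h2el := (isPGroup_of_isSplit hH hQ hr).2
  obtain ⟨s, hs, hs2⟩ := exists_involution hH
  -- a conjugate of `T` contains `s`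
  obtain ⟨t, ht, ht1⟩ := h.exists_ne_one
  have ht2 : orderOf t = 2 := orderOf_eq_two_of_mul_self (h.sq t ht) ht1
  obtain ⟨c, hc⟩ := isConj_iff.1 (isConj_of_involutions hH t s ht2 hs2)
  set T' := (T : Subgroup R).map (MulAut.conj c).toMonoidHom with hT'
  have hTH : T' ≤ H := by
    rintro _ ⟨x, hx, rfl⟩
    refine mem_of_commute hH hs hs2 ?_
    show c * x * c⁻¹ * s = s * (c * x * c⁻¹)
    rw [← hc]
    have := h.comm hx ht
    calc c * x * c⁻¹ * (c * t * c⁻¹) = c * (x * t) * c⁻¹ := by group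
      _ = c * t * c⁻¹ * (c * x * c⁻¹) := by rw [this]; group
  have hTQ : T' ≤ Q := by
    intro y hy
    refine h2el y (hTH hy) ?_
    obtain ⟨x, hx, rfl⟩ := hy
    by_cases hx1 : x = 1
    · exact ⟨0, by rw [hx1]; simp⟩
    · refine ⟨1, ?_⟩
      have := orderOf_eq_two_of_mul_self (h.sq x hx) hx1
      rw [pow_one, ← this]
      exact orderOf_conj c x
  have hcard : Nat.card T' = Nat.card (T : Subgroup R) :=
    Cfsg.Agent.Lib.GoldschmidtFusion.card_map_conj _ c
  have hQT : Q = T' := by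
    symm
    apply Subgroup.eq_of_le_of_card_ge hTQ
    rw [hcard]
    obtain ⟨P, hP⟩ := hQ2.exists_le_sylow
    calc Nat.card Q ≤ Nat.card (P : Subgroup R) := Subgroup.card_le_of_le hP
      _ = Nat.card (T : Subgroup R) := Nat.card_congr (P.equiv T).toEquiv
  rw [hQT] at hQ
  refine ⟨H, c, hH, hQ, le_antisymm ?_ ?_⟩
  · intro n hn
    have hsT : s ∈ T' := ⟨t, ht, hc⟩
    exact mem_of_conj_mem hH hs hs2 (hTH ((mem_normalizer_iff.1 hn s).1 hsT))
  · exact (normal_subgroupOf_iff_le_normalizer hQ.le).1 hQ.normal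

/-- membership in the conjugate subgroups -/
theorem conj_mem_iff {T' : Subgroup R} {c g : R} :
    g ∈ normalizer (T' : Set R) ↔
      c * g * c⁻¹ ∈ normalizer ((T'.map (MulAut.conj c).toMonoidHom : Subgroup R) : Set R) := by
  rw [← Cfsg.Agent.Lib.GoldschmidtFusion.map_conj_normalizer,
    Cfsg.Agent.Lib.GoldschmidtFusion.mem_map_conj]
  have : c⁻¹ * (c * g * c⁻¹) * c = g := by group
  rw [this]

theorem ti (h : Hyp T) {t g : R} (ht : t ∈ (T : Subgroup R)) (ht1 : t ≠ 1)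
    (hg : g * t * g⁻¹ ∈ (T : Subgroup R)) : g ∈ normalizer ((T : Subgroup R) : Set R) := by
  obtain ⟨H, c, hH, hS, hN⟩ := h.exists_data
  rw [conj_mem_iff (c := c), hN]
  have ht2 : orderOf (c * t * c⁻¹) = 2 := by
    rw [orderOf_conj]; exact orderOf_eq_two_of_mul_self (h.sq t ht) ht1
  refine mem_of_conj_mem hH (t := c * t * c⁻¹) (hS.le ⟨t, ht, rfl⟩) ht2 ?_
  have e : c * g * c⁻¹ * (c * t * c⁻¹) * (c * g * c⁻¹)⁻¹ = c * (g * t * g⁻¹) * c⁻¹ := by group
  rw [e]
  exact hS.le ⟨_, hg, rfl⟩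

/-- the involutions of `N(T)` lie in `T` -/
theorem mem_of_normalizer (_h : Hyp T) {x : R} (hx : x ∈ normalizer ((T : Subgroup R) : Set R))
    (hx2 : x * x = 1) : x ∈ (T : Subgroup R) := by
  have hp : IsPGroup 2 (zpowers x) := by
    rw [IsPGroup.iff_card]
    rcases eq_or_ne x 1 with rfl | h1
    · exact ⟨0, by simp⟩
    · exact ⟨1, by rw [Nat.card_zpowers, orderOf_eq_two_of_mul_self hx2 h1, pow_one]⟩
  have h2 : IsPGroup 2 (((T : Subgroup R) ⊔ zpowers x : Subgroup R)) :=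
    T.isPGroup'.to_sup_of_normal_left' hp (zpowers_le.2 hx)
  have h3 := T.is_maximal' h2 le_sup_left
  rw [← h3]
  exact (le_sup_right : zpowers x ≤ _) (mem_zpowers x)

theorem normalizer_ne_top (h : Hyp T) : normalizer ((T : Subgroup R) : Set R) ≠ ⊤ := by
  intro htop
  have hn : (T : Subgroup R).Normal := Subgroup.normalizer_eq_top_iff.1 htop
  have h1 := h.simple
  rcases h1.eq_bot_or_eq_top_of_normal _ hn with h2 | h2
  · obtain ⟨t, ht, ht1⟩ := h.exists_ne_one
    rw [h2] at ht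
    exact ht1 (mem_bot.1 ht)
  · obtain ⟨a, b, hab⟩ := h.noncomm
    exact hab (h.comm (h2 ▸ mem_top a) (h2 ▸ mem_top b))

theorem stronglyEmbedded (h : Hyp T) : Cfsg.IsStronglyEmbedded (normalizer ((T : Subgroup R) : Set R)) := by
  obtain ⟨t, ht, ht1⟩ := h.exists_ne_one
  have ht2 : orderOf t = 2 := orderOf_eq_two_of_mul_self (h.sq t ht) ht1
  refine ⟨h.normalizer_ne_top, ?_, fun g hg => ?_⟩
  · rw [even_iff_two_dvd]
    have := Subgroup.orderOf_dvd_natCard _ (le_normalizer ht)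
    rwa [ht2] at this
  · by_contra hodd
    rw [Nat.not_odd_iff_even, even_iff_two_dvd] at hodd
    obtain ⟨⟨x, hx⟩, hx2⟩ := exists_prime_orderOf_dvd_card' 2 hodd
    rw [Subgroup.orderOf_mk] at hx2
    obtain ⟨hx1, hxg⟩ := mem_inf.1 hx
    rw [Cfsg.Agent.Lib.GoldschmidtFusion.mem_map_conj] at hxg
    have hxx := mul_self_of_orderOf hx2
    have h1 := h.mem_of_normalizer hx1 hxx
    have h2 := h.mem_of_normalizer hxg (by
      calc g⁻¹ * x * g * (g⁻¹ * x * g) = g⁻¹ * (x * x) * g := by group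
        _ = 1 := by rw [hxx]; group)
    have hne : g⁻¹ * x * g ≠ 1 := by
      intro h3
      have h4 : x = 1 := by
        have := congrArg (fun y => g * y * g⁻¹) h3
        simpa [mul_assoc] using this
      rw [h4, orderOf_one] at hx2
      exact absurd hx2 (by norm_num)
    refine hg (h.ti h2 hne ?_)
    have : g * (g⁻¹ * x * g) * g⁻¹ = x := by group
    rw [this]; exact h1

theorem trans (h : Hyp T) {g k : R} (hg : g ∉ normalizer ((T : Subgroup R) : Set R))
    (hk : k ∉ normalizer ((T : Subgroup R) : Set R)) :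
    ∃ t ∈ (T : Subgroup R), k⁻¹ * (t * g) ∈ normalizer ((T : Subgroup R) : Set R) := by
  obtain ⟨H, c, hH, hS, hN⟩ := h.exists_data
  rw [conj_mem_iff (c := c), hN] at hg hk
  obtain ⟨_, ⟨t, ht, rfl⟩, hu⟩ := hS.trans _ _ hg hk
  refine ⟨t, ht, ?_⟩
  rw [conj_mem_iff (c := c), hN]
  convert hu using 1
  simp only [MulEquiv.coe_toMonoidHom, MulAut.conj_apply]
  group

theorem reg (h : Hyp T) {g t : R} (hg : g ∉ normalizer ((T : Subgroup R) : Set R))
    (ht : t ∈ (T : Subgroup R)) (hgt : g⁻¹ * t * g ∈ normalizer ((T : Subgroup R) : Set R)) : t = 1 := by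
  by_contra ht1
  have h1 := h.mem_of_normalizer hgt (by
    calc g⁻¹ * t * g * (g⁻¹ * t * g) = g⁻¹ * (t * t) * g := by group
      _ = 1 := by rw [h.sq t ht]; group)
  have h2 : g⁻¹ * t * g⁻¹⁻¹ ∈ (T : Subgroup R) := by rw [inv_inv]; exact h1
  have h3 := h.ti ht ht1 h2
  exact hg (by simpa using inv_mem h3)

theorem trans_torus (h : Hyp T) {g s t : R} (hg : g ∉ normalizer ((T : Subgroup R) : Set R))
    (hs : s ∈ (T : Subgroup R)) (hs1 : s ≠ 1) (ht : t ∈ (T : Subgroup R)) (ht1 : t ≠ 1) :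
    ∃ d ∈ normalizer ((T : Subgroup R) : Set R),
      g⁻¹ * d * g ∈ normalizer ((T : Subgroup R) : Set R) ∧ d * s * d⁻¹ = t := by
  have hM := h.stronglyEmbedded
  obtain ⟨u, hu, hu2⟩ := exists_involution_notMem hM
  obtain ⟨x, hx, hxg⟩ := h.trans hu hg
  have hs2 := orderOf_eq_two_of_mul_self (h.sq s hs) hs1
  have ht2 := orderOf_eq_two_of_mul_self (h.sq t ht) ht1
  obtain ⟨d, hd, e⟩ := (Cfsg.Agent.S1225.result _ hM u hu2 hu s t hs2 (le_normalizer hs) ht2
    (le_normalizer ht)).1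
  obtain ⟨hd1, hdu⟩ := mem_inf.1 hd
  rw [Cfsg.Agent.Lib.GoldschmidtFusion.mem_map_conj] at hdu
  refine ⟨x * d * x⁻¹, mul_mem (mul_mem (le_normalizer hx) hd1) (inv_mem (le_normalizer hx)), ?_, ?_⟩
  · have e1 : g⁻¹ * (x * d * x⁻¹) * g = (g⁻¹ * (x * u)) * (u⁻¹ * d * u) * (g⁻¹ * (x * u))⁻¹ := by group
    rw [e1]
    exact mul_mem (mul_mem hxg hdu) (inv_mem hxg)
  · have e1 : x⁻¹ * s * x = s := by rw [mul_assoc, h.comm hs hx, inv_mul_cancel_left]
    have e2 : x * t * x⁻¹ = t := by rw [h.comm hx ht, mul_inv_cancel_right]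
    calc x * d * x⁻¹ * s * (x * d * x⁻¹)⁻¹ = x * (d * (x⁻¹ * s * x) * d⁻¹) * x⁻¹ := by group
      _ = t := by rw [e1, e, e2]

theorem eq_top (h : Hyp T) {M : Subgroup R} (hTM : (T : Subgroup R) ≤ M) {x : R} (hx : x ∈ M)
    (hxN : x ∉ normalizer ((T : Subgroup R) : Set R)) : M = ⊤ := by
  rw [eq_top_iff, ← h.gen]
  -- all conjugates of `T` are in `M`
  have key : ∀ g : R, ∀ t ∈ (T : Subgroup R), g * t * g⁻¹ ∈ M := by
    intro g t ht
    by_cases hg : g ∈ normalizer ((T : Subgroup R) : Set R)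
    · exact hTM ((mem_normalizer_iff.1 hg t).1 ht)
    · obtain ⟨y, hy, hyg⟩ := h.trans hxN hg
      set n := g⁻¹ * (y * x) with hn
      have e : g * t * g⁻¹ = y * (x * (n⁻¹ * t * n⁻¹⁻¹) * x⁻¹) * y⁻¹ := by rw [hn]; group
      rw [e]
      have h1 : n⁻¹ * t * n⁻¹⁻¹ ∈ (T : Subgroup R) := (mem_normalizer_iff.1 (inv_mem hyg) t).1 ht
      exact mul_mem (mul_mem (hTM hy) (mul_mem (mul_mem hx (hTM h1)) (inv_mem hx))) (inv_mem (hTM hy))
  refine (closure_le _).2 ?_
  intro y hy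
  obtain ⟨t, ht, hty⟩ := Group.mem_conjugatesOfSet_iff.1 hy
  obtain ⟨g, rfl⟩ := isConj_iff.1 hty
  exact key g t ht

end Hyp

end Cfsg.Agent.HexGlob.RankOne
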