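import Mathlib
import Cfsg.Agent.HexGlob.OneBase
import Cfsg.Agent.HexGlob.OneOut
import Cfsg.Agent.HexGlob.OneLinOut
import Cfsg.Agent.HexGlob.RankOne

/-!
# Piece E: `Out1` for `N_G(Da)`

The group `R1 co` induced by `L₁` on `Da / Z` has a strongly embedded subgroup and elementary abelian Sylow
2-subgroups; `lin`: the resulting properties.  `exists_out1`: the theorem.
-/

set_option autoImplicit false

namespace Cfsg.Agent.HexGlob.OneBen

open Cfsg.Agent.HexRec Cfsg.Agent.HexEss Cfsg.Agent.HexEss.Abel Subgroup Cfsg.Agent.HexGlob.OneSpec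
  Cfsg.Agent.HexGlob.OneRep Cfsg.Agent.HexGlob.OneBase Cfsg.Agent.Lib.EssDefs

universe u v

variable {F K : Type v} [Field F] [Field K] [Algebra F K] {C : Cubic F K}
  {G : Type u} [Group G] [Finite G] {S : Sylow 2 G} (co : Coord C (S : Subgroup G))

/-- the hypotheses of `RankOne`, for any `q` -/
theorem hyp' (hK : 4 ≤ Nat.card K) (hcore : Cfsg.oddCore (R1 co) = ⊥)
    (nDa : normalizer ((S : Subgroup G) : Set G) ≤ normalizer ((Da co : Subgroup G) : Set G))
    (hE : Ess 2 (S : Subgroup G) (Da co)) : RankOne.Hyp (T1 co) :=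
  ⟨sq co, by rw [card_T1]; exact hK, hcore, gen co, se' co nDa hE⟩

theorem hyp (hD : Dat C) (hE : Ess 2 (S : Subgroup G) (Da co)) : RankOne.Hyp (T1 co) :=
  hyp' co (card_K_ge hD) (core co hD) (normalizer_S_le co hD) hE

/-- **Pieces E1-E3**, with explicit hypotheses (no assumption on `q`). -/
theorem lin' (hK : 4 ≤ Nat.card K) (hcore : Cfsg.oddCore (R1 co) = ⊥)
    (z2 : ∀ x ∈ (S : Subgroup G), (∀ y ∈ (S : Subgroup G), cm y x ∈ Z co) → x ∈ E2 co)
    (nDa : normalizer ((S : Subgroup G) : Set G) ≤ normalizer ((Da co : Subgroup G) : Set G))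
    (nE2 : normalizer ((S : Subgroup G) : Set G) ≤ normalizer ((E2 co : Subgroup G) : Set G))
    (hE : Ess 2 (S : Subgroup G) (Da co))
    (hN : ¬ normalizer ((Da co : Subgroup G) : Set G) ≤ normalizer ((E2 co : Subgroup G) : Set G))
    (hW : normalizer ((S : Subgroup G) : Set G) ≤ normalizer ((F0 co : Subgroup G) : Set G)) :
    Lin C (R1 co) := by
  have hyp : RankOne.Hyp (T1 co) := hyp' co hK hcore nDa hE
  have hFN : ∀ g : R1 co, FixV (g : MM F K ≃ₗ[F] MM F K) ↔ g ∈ normalizer ((T1 co : Subgroup (R1 co)) : Set (R1 co)) := by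
    -- the stabiliser of `V̄`
    let RV : Subgroup (R1 co) :=
      { carrier := {g | FixV (g : MM F K ≃ₗ[F] MM F K) ∧ FixV ((g⁻¹ : R1 co) : MM F K ≃ₗ[F] MM F K)}
        one_mem' := ⟨fun w hw => hw, fun w hw => by simpa using hw⟩
        mul_mem' := by
          rintro a b ⟨ha, ha'⟩ ⟨hb, hb'⟩
          refine ⟨fun w hw => ha _ (hb _ hw), fun w hw => ?_⟩
          have e : ((a * b)⁻¹ : R1 co) = b⁻¹ * a⁻¹ := mul_inv_rev a b
          rw [e]
          exact hb' _ (ha' _ hw)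
        inv_mem' := by
          rintro a ⟨ha, ha'⟩
          refine ⟨ha', ?_⟩
          rw [inv_inv]
          exact ha }
    have hmem : ∀ g : R1 co, g ∈ RV ↔ FixV (g : MM F K ≃ₗ[F] MM F K) := by
      intro g
      refine ⟨fun h => h.1, fun h => ⟨h, ?_⟩⟩
      -- finite order
      obtain ⟨l, rfl⟩ := rr_surjective co g
      have h1 := (fixV_iff co l).1 h
      rw [← map_inv]
      exact (fixV_iff co l⁻¹).2 (inv_mem h1)
    have h1 : normalizer ((T1 co : Subgroup (R1 co)) : Set (R1 co)) ≤ RV := by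
      intro g hg
      rw [hmem]
      exact fixV_of_norT' co z2 ((norT_iff co (g := g⁻¹)).2 (inv_mem hg))
    have h2 : RV ≤ normalizer ((T1 co : Subgroup (R1 co)) : Set (R1 co)) := by
      by_contra hcon
      obtain ⟨x, hx, hxN⟩ := SetLike.not_le_iff_exists.1 hcon
      have h3 := hyp.eq_top (le_normalizer.trans h1) hx hxN
      obtain ⟨g, hg, hgV⟩ := ne' co nE2 hN
      apply hgV
      rw [← hmem ⟨g, hg⟩, h3]
      trivial
    intro g
    rw [← hmem]
    exact ⟨fun h => h2 h, fun h => h1 h⟩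
  refine ⟨form co, quad co, memA co, hyp.simple, ?_, ne' co nE2 hN, ?_, ?_, ?_, ?_⟩
  · intro g hg
    rw [hFN ⟨g, hg⟩, ← norT_iff]
  · intro g hg hgV
    exact norW co hW ((hFN ⟨g, hg⟩).1 hgV)
  · intro g₁ hg₁ g₂ hg₂ h1 h2
    obtain ⟨t, ht, htN⟩ := hyp.trans (fun h => h1 ((hFN ⟨g₁, hg₁⟩).2 h)) (fun h => h2 ((hFN ⟨g₂, hg₂⟩).2 h))
    obtain ⟨t', ht'⟩ := (mem_T1 co).1 ht
    refine ⟨t', ?_⟩
    have h3 := (hFN _).2 htN
    have e : ((((⟨g₂, hg₂⟩ : R1 co)⁻¹ * (t * ⟨g₁, hg₁⟩) : R1 co)) : MM F K ≃ₗ[F] MM F K) = g₂⁻¹ * AA C t' * g₁ := by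
      rw [mul_assoc, ← ht']
      rfl
    rw [e] at h3
    exact h3
  · intro g hg hgV t ht
    have h1 : (⟨AA C t, memA co t⟩ : R1 co) = 1 := by
      refine hyp.reg (g := ⟨g, hg⟩) (fun h => hgV ((hFN ⟨g, hg⟩).2 h)) ((mem_T1 co).2 ⟨t, rfl⟩) ?_
      rw [← hFN]
      exact ht
    exact AA_eq_one C (congrArg (fun x : R1 co => (x : MM F K ≃ₗ[F] MM F K)) h1)
  · intro g hg hgV t t' ht ht'
    obtain ⟨d, hd, hdg, hdt⟩ := hyp.trans_torus (g := ⟨g, hg⟩) (s := ⟨AA C t, memA co t⟩)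
      (t := ⟨AA C t', memA co t'⟩) (fun h => hgV ((hFN ⟨g, hg⟩).2 h)) ((mem_T1 co).2 ⟨t, rfl⟩)
      (fun h => ht (AA_eq_one C (congrArg (fun x : R1 co => (x : MM F K ≃ₗ[F] MM F K)) h)))
      ((mem_T1 co).2 ⟨t', rfl⟩)
      (fun h => ht' (AA_eq_one C (congrArg (fun x : R1 co => (x : MM F K ≃ₗ[F] MM F K)) h)))
    refine ⟨d, d.2, (hFN d).2 hd, ?_, ?_⟩
    · exact (hFN _).2 hdg
    · exact congrArg (fun x : R1 co => (x : MM F K ≃ₗ[F] MM F K)) hdt

/-- **Pieces E1-E3.** -/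
theorem lin (hD : Dat C) (hE : Ess 2 (S : Subgroup G) (Da co))
    (hN : ¬ normalizer ((Da co : Subgroup G) : Set G) ≤ normalizer ((E2 co : Subgroup G) : Set G))
    (hW : normalizer ((S : Subgroup G) : Set G) ≤ normalizer ((F0 co : Subgroup G) : Set G)) :
    Lin C (R1 co) :=
  lin' co (card_K_ge hD) (core co hD) (fun _ hx h => Facts.mem_E2_of_Z2 hD hx h) (normalizer_S_le co hD)
    (Facts.le_normalizer_E2_of_P hD le_rfl) hE hN hW

/-- **Piece E: `Out1`.** -/
theorem exists_out1 (hD : Dat C) (hE : Ess 2 (S : Subgroup G) (Da co))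
    (hN : ¬ normalizer ((Da co : Subgroup G) : Set G) ≤ normalizer ((E2 co : Subgroup G) : Set G))
    (hW : normalizer ((S : Subgroup G) : Set G) ≤ normalizer ((F0 co : Subgroup G) : Set G)) :
    Out1 S co := by
  have := Facts.finite_F hD
  have := OddLin.finite_K hD
  have hl := lin co hD hE hN hW
  exact OneOut.out1 co hl.ne hl.simple (OneLinOut.of_lin hD hl)

end Cfsg.Agent.HexGlob.OneBen
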