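import Cfsg.Agent.HexGlob.LevSpec
import Cfsg.Agent.HexEss.Count
import Cfsg.Agent.ClassTwo.Sp4SL2

/-!
# The second Levi factor

`outP2`: the homomorphism `L2 →* SL(2, F)` with kernel `Db`, from `Out2` and `C_G(Db) ≤ Db`.
-/

set_option autoImplicit false

namespace Cfsg.Agent.HexGlob.PiTwo

open Cfsg.Agent.HexRec Cfsg.Agent.HexEss Cfsg.Agent.HexGlob Subgroup Matrix
open Cfsg.Agent.ClassTwo.Sp4Defs

universe u' v'

variable {F K : Type v'} [Field F] [Field K] [Algebra F K] {C : Cubic F K}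
variable {G : Type u'} [Group G] [Finite G]

section sub

variable {P : Subgroup G} {co : Coord C P}

/-! ### `E2` in coordinates -/

theorem a2_mul_E2 {v w : G} (hv : v ∈ E2 co) (hw : w ∈ E2 co) :
    (cx co (v * w)).a2 = (cx co v).a2 + (cx co w).a2 := by
  rw [a2_mul hv.1 hw.1, hv.2.2.2.2, hw.2.1, C.T_zero_left, C.sh_zero, C.T_zero_left, zero_mul]
  simp

theorem a4_mul_E2 {v w : G} (hv : v ∈ E2 co) (hw : w ∈ E2 co) :
    (cx co (v * w)).a4 = (cx co v).a4 + (cx co w).a4 := by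
  rw [a4_mul hv.1 hw.1, hv.2.2.2.2, hv.2.2.2.1, hw.2.1, C.sh_zero]
  simp [C.T_zero_left, C.T_zero_right]

theorem exists_E2 (s r : F) : ∃ v ∈ E2 co, (cx co v).a2 = s ∧ (cx co v).a4 = r := by
  obtain ⟨g, hg, h⟩ := exists_cx (co := co) ⟨0, s, 0, r, 0, 0⟩
  exact ⟨g, ⟨hg, by rw [h], by rw [h], by rw [h], by rw [h]⟩, by rw [h], by rw [h]⟩

theorem exists_Z (r : F) : ∃ v ∈ Z co, (cx co v).a4 = r := by
  obtain ⟨v, hv, h2, h4⟩ := exists_E2 (co := co) 0 r
  exact ⟨v, ⟨hv.1, hv.2.1, h2, hv.2.2.1, hv.2.2.2.1, hv.2.2.2.2⟩, h4⟩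

omit [Finite G] in
theorem exists_x6 (c : F) : ∃ x ∈ P, (cx co x).a6 = c := by
  obtain ⟨g, hg, h⟩ := exists_cx (co := co) ⟨0, 0, 0, 0, 0, c⟩
  exact ⟨g, hg, by rw [h]⟩

theorem eq_one_of_E2 {v : G} (hv : v ∈ E2 co) (h2 : (cx co v).a2 = 0) (h4 : (cx co v).a4 = 0) : v = 1 :=
  eq_one_of_cx hv.1 hv.2.1 h2 hv.2.2.1 h4 hv.2.2.2.1 hv.2.2.2.2

theorem mem_Z_of_E2 {v : G} (hv : v ∈ E2 co) (h2 : (cx co v).a2 = 0) : v ∈ Z co :=
  ⟨hv.1, hv.2.1, h2, hv.2.2.1, hv.2.2.2.1, hv.2.2.2.2⟩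

theorem comm_E2 {v w : G} (hv : v ∈ E2 co) (hw : w ∈ E2 co) : v * w = w * v :=
  cm_eq_one.1 (cm_F0_F0 (E2_le_F0 hv) (E2_le_F0 hw))

/-- `E2 = Z(Db)` -/
theorem mem_E2_iff {g : G} : g ∈ E2 co ↔ g ∈ Db co ∧ ∀ x ∈ Db co, cm x g = 1 := by
  constructor
  · intro h
    exact ⟨E2_le_Db h, fun x hx => cm_Db_E2 hx h⟩
  · rintro ⟨hg, h⟩
    have h1 : g ∈ F0 co := by
      refine mem_F0_of_cm_eq_one hg.1 (fun x hx => ?_)
      rw [cm_swap, h x (F0_le_Db hx), inv_one]
    refine ⟨h1.1, h1.2.1, ?_, h1.2.2.1, h1.2.2.2⟩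
    apply C.T_nondeg
    intro k
    obtain ⟨x, hx, hxc⟩ := exists_cx (co := co) ⟨k, 0, 0, 0, 0, 0⟩
    have h2 := a2_cm_F0 (co := co) hx h1.1 h1.2.1 h1.2.2.1 h1.2.2.2
    rw [h x ⟨hx, by rw [hxc]⟩, hxc, cx_one] at h2
    rw [C.T_comm]
    exact h2.symm

/-- `N(Db) ≤ N(E2)` -/
theorem normalizer_Db_le : normalizer ((Db co : Subgroup G) : Set G) ≤
    normalizer ((E2 co : Subgroup G) : Set G) := by
  refine le_normalizer_of fun n hn x hx => ?_
  rw [mem_E2_iff] at hx ⊢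
  refine ⟨conj_mem_of_le le_rfl hn hx.1, fun y hy => ?_⟩
  have h1 := hx.2 _ (conj_mem_of_le le_rfl (inv_mem hn) hy)
  have h2 : cm y (n * x * n⁻¹) = n * cm (n⁻¹ * y * n⁻¹⁻¹) x * n⁻¹ := by unfold cm; group
  rw [h2, h1]; group

/-- `P ≤ N(Db)` -/
theorem le_normalizer_Db : P ≤ normalizer ((Db co : Subgroup G) : Set G) := by
  refine le_normalizer_of fun n hn x hx => ?_
  rw [conj_eq_cm_mul]
  exact mul_mem ⟨cm_mem hn hx.1, a6_cm hn hx.1⟩ hx

theorem a4_conj_E2 {x v : G} (hx : x ∈ P) (hv : v ∈ E2 co) :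
    (cx co (x * v * x⁻¹)).a4 = (cx co v).a4 + (cx co x).a6 * (cx co v).a2 := by
  rw [conj_eq_cm_mul, a4_mul_E2 (Z_le_E2 (cm_mem_Z hx hv)) hv,
    a4_cm_F0 hx hv.1 hv.2.1 hv.2.2.2.1 hv.2.2.2.2, hv.2.2.1, C.T_zero_right, add_zero, add_comm]

theorem a2_conj_E2 {x v : G} (hx : x ∈ P) (hv : v ∈ E2 co) :
    (cx co (x * v * x⁻¹)).a2 = (cx co v).a2 := by
  rw [conj_eq_cm_mul, a2_mul_E2 (Z_le_E2 (cm_mem_Z hx hv)) hv, (cm_mem_Z hx hv).2.2.1, zero_add]

end sub

/-! ### The coordinates adapted to `Z` and `Z^n` -/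

/-- the data of the change of coordinates -/
structure Ad {P : Subgroup G} (co : Coord C P) (n : G) (φ : F → F) : Prop where
  /-- `χ1 = 0` on `Z^n` -/
  zero : ∀ y ∈ Z co, (cx co (n * y * n⁻¹)).a4 = φ (cx co (n * y * n⁻¹)).a2
  add : ∀ s t, φ (s + t) = φ s + φ t
  /-- every element of `E2` with `χ1 = 0` is in `Z^n` -/
  ex : ∀ s, ∃ y ∈ Z co, (cx co (n * y * n⁻¹)).a2 = s

section main

variable {S : Sylow 2 G} {co : Coord C (S : Subgroup G)}

theorem conj_E2 {n y : G} (hn : n ∈ normalizer ((Db co : Subgroup G) : Set G)) (hy : y ∈ E2 co) :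
    n * y * n⁻¹ ∈ E2 co := conj_mem_of_le normalizer_Db_le hn hy

theorem exists_ad (h2 : Out2 S co) {n : G} (hn : n ∈ normalizer ((Db co : Subgroup G) : Set G))
    (hnZ : n ∉ normalizer ((Z co : Subgroup G) : Set G)) : ∃ φ : F → F, Ad co n φ := by
  have hex : ∀ s : F, ∃ y ∈ Z co, (cx co (n * y * n⁻¹)).a2 = s := by
    intro s
    obtain ⟨v, hv, hv2, _⟩ := exists_E2 (co := co) s 0
    obtain ⟨z, hz, y, hy, h⟩ := h2.cover n hn hnZ v hv
    refine ⟨y, hy, ?_⟩
    rw [h, a2_mul_E2 (Z_le_E2 hz) (conj_E2 hn (Z_le_E2 hy)), hz.2.2.1, zero_add] at hv2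
    exact hv2
  have huniq : ∀ y ∈ Z co, ∀ y' ∈ Z co, (cx co (n * y * n⁻¹)).a2 = (cx co (n * y' * n⁻¹)).a2 → y = y' := by
    intro y hy y' hy' he
    by_contra hne
    have h1 : y * y' ∈ Z co := mul_mem hy hy'
    have hsq : y' * y' = 1 := sq_F0 (Z_le_F0 hy')
    have h3 : y * y' ≠ 1 := by
      intro h
      apply hne
      calc y = y * (y' * y') := by rw [hsq, mul_one]
        _ = y' := by rw [← mul_assoc, h, one_mul]
    have h4 : n * (y * y') * n⁻¹ ∈ Z co := by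
      have e : n * (y * y') * n⁻¹ = (n * y * n⁻¹) * (n * y' * n⁻¹) := by group
      rw [e]
      refine mem_Z_of_E2 (mul_mem (conj_E2 hn (Z_le_E2 hy)) (conj_E2 hn (Z_le_E2 hy'))) ?_
      rw [a2_mul_E2 (conj_E2 hn (Z_le_E2 hy)) (conj_E2 hn (Z_le_E2 hy')), he, C.add_self]
    exact hnZ (h2.ti n hn _ h1 h3 h4)
  choose y hy hy2 using hex
  refine ⟨fun s => (cx co (n * y s * n⁻¹)).a4, ?_, ?_, fun s => ⟨y s, hy s, hy2 s⟩⟩
  · intro y' hy'
    have := huniq y' hy' (y (cx co (n * y' * n⁻¹)).a2) (hy _) (by rw [hy2])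
    conv_lhs => rw [this]
  · intro s t
    rw [← a4_mul_E2 (conj_E2 hn (Z_le_E2 (hy s))) (conj_E2 hn (Z_le_E2 (hy t)))]
    have e : n * y s * n⁻¹ * (n * y t * n⁻¹) = n * (y s * y t) * n⁻¹ := by group
    rw [e]
    congr 2
    have := huniq (y (s + t)) (hy _) (y s * y t) (mul_mem (hy s) (hy t)) (by
      rw [hy2, ← e, a2_mul_E2 (conj_E2 hn (Z_le_E2 (hy s))) (conj_E2 hn (Z_le_E2 (hy t))), hy2, hy2])
    rw [this]

end main

/-! ### The coordinates `χ` -/

section chi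

variable {S : Sylow 2 G} {co : Coord C (S : Subgroup G)} {n : G} {φ : F → F}

/-- adapted coordinates -/
noncomputable def chi (co : Coord C (S : Subgroup G)) (φ : F → F) (v : G) : Fin 2 → F :=
  ![(cx co v).a4 + φ (cx co v).a2, (cx co v).a2]

variable (hA : Ad co n φ)
include hA

theorem phi_zero : φ 0 = 0 := by
  have := hA.add 0 0
  simpa using this

theorem chi_mul {v w : G} (hv : v ∈ E2 co) (hw : w ∈ E2 co) : chi co φ (v * w) = chi co φ v + chi co φ w := by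
  unfold chi
  rw [a4_mul_E2 hv hw, a2_mul_E2 hv hw, hA.add]
  ext i
  fin_cases i
  · simp; ring
  · simp

theorem chi_one_iff {v : G} (hv : v ∈ E2 co) : chi co φ v = 0 ↔ v = 1 := by
  constructor
  · intro h
    have h1 := congrFun h 0
    have h2 := congrFun h 1
    simp only [chi, cons_val_zero, cons_val_one, Pi.zero_apply] at h1 h2
    rw [h2, phi_zero hA, add_zero] at h1
    exact eq_one_of_E2 hv h2 h1
  · rintro rfl
    unfold chi
    rw [cx_one]
    ext i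
    fin_cases i
    · simp [phi_zero hA]
    · simp

theorem chi_inj {v w : G} (hv : v ∈ E2 co) (hw : w ∈ E2 co) (h : chi co φ v = chi co φ w) : v = w := by
  have hsq : w * w = 1 := sq_F0 (E2_le_F0 hw)
  have h1 : v * w = 1 := by
    rw [← chi_one_iff hA (mul_mem hv hw), chi_mul hA hv hw, h, ← chi_mul hA hw hw, hsq,
      chi_one_iff hA (one_mem _)]
  calc v = v * (w * w) := by rw [hsq, mul_one]
    _ = w := by rw [← mul_assoc, h1, one_mul]

omit hA in
theorem exists_chi (x : Fin 2 → F) : ∃ v ∈ E2 co, chi co φ v = x := by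
  obtain ⟨v, hv, h2, h4⟩ := exists_E2 (co := co) (x 1) (x 0 + φ (x 1))
  refine ⟨v, hv, ?_⟩
  have htwo := C.two_F
  unfold chi
  rw [h2, h4]
  ext i
  fin_cases i
  · simp only [Fin.zero_eta, cons_val_zero]
    linear_combination (φ (x 1)) * htwo
  · simp

theorem chi_Z {z : G} (hz : z ∈ Z co) : chi co φ z 1 = 0 ∧ chi co φ z 0 = (cx co z).a4 := by
  constructor
  · simp only [chi, cons_val_one]
    exact hz.2.2.1
  · simp only [chi, cons_val_zero]
    rw [hz.2.2.1, phi_zero hA, add_zero]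

omit hA in
theorem mem_Z_of_chi {v : G} (hv : v ∈ E2 co) (h : chi co φ v 1 = 0) : v ∈ Z co := by
  refine mem_Z_of_E2 hv ?_
  simpa [chi] using h

theorem chi_Zn {y : G} (hy : y ∈ Z co) : chi co φ (n * y * n⁻¹) 0 = 0 := by
  simp only [chi, cons_val_zero]
  rw [hA.zero y hy, C.add_self]

theorem exists_Zn {v : G} (hn : n ∈ normalizer ((Db co : Subgroup G) : Set G)) (hv : v ∈ E2 co)
    (h : chi co φ v 0 = 0) : ∃ y ∈ Z co, v = n * y * n⁻¹ := by
  obtain ⟨y, hy, hy2⟩ := hA.ex (cx co v).a2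
  refine ⟨y, hy, chi_inj hA hv (conj_E2 hn (Z_le_E2 hy)) ?_⟩
  ext i
  fin_cases i
  · rw [Fin.zero_eta, h, chi_Zn hA hy]
  · simp only [chi, Fin.mk_one, cons_val_one]
    exact hy2.symm

omit hA in
theorem chi_conj {x v : G} (hx : x ∈ (S : Subgroup G)) (hv : v ∈ E2 co) :
    chi co φ (x * v * x⁻¹) = (u (cx co x).a6).1 *ᵥ chi co φ v := by
  ext i
  fin_cases i
  · simp [chi, a4_conj_E2 hx hv, a2_conj_E2 hx hv, u, Matrix.mulVec, dotProduct, Fin.sum_univ_two]
    ring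
  · simp [chi, a2_conj_E2 hx hv, u, Matrix.mulVec, dotProduct, Fin.sum_univ_two]

/-- the elements of `S^n` act as lower transvections -/
theorem chi_conj_n (h2 : Out2 S co) (hn : n ∈ normalizer ((Db co : Subgroup G) : Set G))
    {x : G} (hx : x ∈ (S : Subgroup G)) : ∃ lam : F, ∀ w ∈ E2 co,
    chi co φ ((n * x * n⁻¹) * w * (n * x * n⁻¹)⁻¹) = (v lam).1 *ᵥ chi co φ w := by
  have hxN : x ∈ normalizer ((Db co : Subgroup G) : Set G) := le_normalizer_Db hx
  set l := n * x * n⁻¹ with hl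
  have hlN : l ∈ normalizer ((Db co : Subgroup G) : Set G) := mul_mem (mul_mem hn hxN) (inv_mem hn)
  -- the displacement
  have hdisp : ∀ w ∈ E2 co, ∃ y ∈ Z co, l * w * l⁻¹ = (n * y * n⁻¹) * w := by
    intro w hw
    have hw' : n⁻¹ * w * n⁻¹⁻¹ ∈ E2 co := conj_E2 (inv_mem hn) hw
    refine ⟨cm x (n⁻¹ * w * n⁻¹⁻¹), cm_mem_Z hx hw', ?_⟩
    rw [hl]; unfold cm; group
  have hfix : ∀ w ∈ E2 co, chi co φ w 0 = 0 → l * w * l⁻¹ = w := by
    intro w hw h0
    obtain ⟨y, hy, rfl⟩ := exists_Zn hA hn hw h0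
    have h3 := cm_Z (co := co) hx hy
    rw [cm_eq_one] at h3
    rw [hl]
    calc n * x * n⁻¹ * (n * y * n⁻¹) * (n * x * n⁻¹)⁻¹ = n * (x * y) * x⁻¹ * n⁻¹ := by group
      _ = n * y * n⁻¹ := by rw [h3]; group
  have h0 : ∀ w ∈ E2 co, chi co φ (l * w * l⁻¹) 0 = chi co φ w 0 := by
    intro w hw
    obtain ⟨y, hy, e⟩ := hdisp w hw
    rw [e, chi_mul hA (conj_E2 hn (Z_le_E2 hy)) hw, Pi.add_apply, chi_Zn hA hy, zero_add]
  -- additivity
  have hadd : ∀ w ∈ E2 co, ∀ w' ∈ E2 co, chi co φ (l * (w * w') * l⁻¹) = chi co φ (l * w * l⁻¹) +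
      chi co φ (l * w' * l⁻¹) := by
    intro w hw w' hw'
    rw [← chi_mul hA (conj_E2 hlN hw) (conj_E2 hlN hw')]
    congr 1
    group
  -- the reference elements `(s, 0)`
  have hz : ∀ s : F, ∃ z ∈ Z co, chi co φ z = ![s, 0] := by
    intro s
    obtain ⟨z, hz, h4⟩ := exists_Z (co := co) s
    refine ⟨z, hz, ?_⟩
    ext i
    fin_cases i
    · simp only [Fin.zero_eta, cons_val_zero]; rw [(chi_Z hA hz).2, h4]
    · simp only [Fin.mk_one, cons_val_one]; exact (chi_Z hA hz).1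
  choose z hzZ hzc using hz
  set ψ : F → F := fun s => chi co φ (l * z s * l⁻¹) 1 with hψ
  -- general formula
  have hgen : ∀ w ∈ E2 co, chi co φ (l * w * l⁻¹) 1 = ψ (chi co φ w 0) + chi co φ w 1 := by
    intro w hw
    obtain ⟨w', hw', hc'⟩ := exists_chi (co := co) (φ := φ) ![0, chi co φ w 1]
    have e : w = z (chi co φ w 0) * w' := by
      apply chi_inj hA hw (mul_mem (Z_le_E2 (hzZ _)) hw')
      rw [chi_mul hA (Z_le_E2 (hzZ _)) hw', hzc, hc']
      ext i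
      fin_cases i <;> simp
    conv_lhs => rw [e]
    rw [hadd _ (Z_le_E2 (hzZ _)) _ hw', hfix w' hw' (by rw [hc']; simp), Pi.add_apply, hc']
    simp [hψ]
  -- `(s, s)` is the line `x6(1) Z^n`
  obtain ⟨g₀, hg₀, hg₀6⟩ := exists_x6 (co := co) 1
  have hg₀N : g₀ ∈ normalizer ((Db co : Subgroup G) : Set G) := le_normalizer_Db hg₀
  have hline : ∀ s c : F, ∀ x' ∈ (S : Subgroup G), (cx co x').a6 = c → ∃ y ∈ Z co,
      chi co φ ((x' * n) * y * (x' * n)⁻¹) = ![c * s, s] := by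
    intro s c x' hx' hc
    obtain ⟨y, hy, hy2⟩ := hA.ex s
    refine ⟨y, hy, ?_⟩
    have e : (x' * n) * y * (x' * n)⁻¹ = x' * (n * y * n⁻¹) * x'⁻¹ := by group
    have hyE := conj_E2 hn (Z_le_E2 hy)
    rw [e, chi_conj hx' hyE, hc]
    have h5 : chi co φ (n * y * n⁻¹) = ![0, s] := by
      ext i
      fin_cases i
      · simp only [Fin.zero_eta, cons_val_zero]; exact chi_Zn hA hy
      · simp only [chi, Fin.mk_one, cons_val_one]; exact hy2
    rw [h5]
    ext i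
    fin_cases i <;> simp [u, Matrix.mulVec, dotProduct, Fin.sum_univ_two]
  have key : ∀ s, ψ s = ψ 1 * s := by
    intro s
    have htwo := C.two_F
    -- the elements `(s, s)` and `(1, 1)`
    obtain ⟨y, hy, hyc⟩ := hline s 1 g₀ hg₀ hg₀6
    obtain ⟨y₁, hy₁, hyc₁⟩ := hline 1 1 g₀ hg₀ hg₀6
    set m := l * (g₀ * n) with hm
    have hgnN : g₀ * n ∈ normalizer ((Db co : Subgroup G) : Set G) := mul_mem hg₀N hn
    have hmN : m ∈ normalizer ((Db co : Subgroup G) : Set G) := mul_mem hlN hgnN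
    have hval : ∀ t : F, ∀ y ∈ Z co, chi co φ ((g₀ * n) * y * (g₀ * n)⁻¹) = ![1 * t, t] →
        chi co φ (m * y * m⁻¹) = ![t, ψ t + t] := by
      intro t y hy hyt
      have e : m * y * m⁻¹ = l * ((g₀ * n) * y * (g₀ * n)⁻¹) * l⁻¹ := by rw [hm]; group
      have hE := conj_E2 hgnN (Z_le_E2 hy)
      ext i
      fin_cases i
      · simp only [Fin.zero_eta, cons_val_zero]
        rw [e, h0 _ hE, hyt]; simp
      · simp only [Fin.mk_one, cons_val_one]
        rw [e, hgen _ hE, hyt]; simp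
    have hv1 := hval 1 y₁ hy₁ hyc₁
    have hvs := hval s y hy hyc
    have hy₁1 : y₁ ≠ 1 := by
      rintro rfl
      have h6 : m * 1 * m⁻¹ = 1 := by group
      rw [h6, (chi_one_iff hA (one_mem _)).2 rfl] at hv1
      have := congrFun hv1 0
      simp at this
    by_cases hlam : ψ 1 + 1 = 0
    · -- the line is `Z`
      have h7 : m * y₁ * m⁻¹ ∈ Z co := by
        apply mem_Z_of_chi (φ := φ) (conj_E2 hmN (Z_le_E2 hy₁))
        rw [hv1]; simp [hlam]
      have h8 := h2.ti m hmN y₁ hy₁ hy₁1 h7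
      have h9 : m * y * m⁻¹ ∈ Z co := conj_mem_of_le le_rfl h8 hy
      have h10 := (chi_Z hA h9).1
      rw [hvs] at h10
      have h11 : ψ s + s = 0 := by simpa using h10
      linear_combination h11 - s * hlam
    · -- the line is `x6(c) Z^n`
      obtain ⟨x', hx', hc'⟩ := exists_x6 (co := co) (ψ 1 + 1)⁻¹
      have hx'N : x' ∈ normalizer ((Db co : Subgroup G) : Set G) := le_normalizer_Db hx'
      obtain ⟨y₂, hy₂, hyc₂⟩ := hline (ψ 1 + 1) _ x' hx' hc'
      rw [inv_mul_cancel₀ hlam] at hyc₂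
      have hx'n : x' * n ∈ normalizer ((Db co : Subgroup G) : Set G) := mul_mem hx'N hn
      have heq : m * y₁ * m⁻¹ = (x' * n) * y₂ * (x' * n)⁻¹ := by
        apply chi_inj hA (conj_E2 hmN (Z_le_E2 hy₁)) (conj_E2 hx'n (Z_le_E2 hy₂))
        rw [hv1, hyc₂]
      have h7 : ((x' * n)⁻¹ * m) * y₁ * ((x' * n)⁻¹ * m)⁻¹ ∈ Z co := by
        have e : ((x' * n)⁻¹ * m) * y₁ * ((x' * n)⁻¹ * m)⁻¹ = (x' * n)⁻¹ * (m * y₁ * m⁻¹) * (x' * n) := by
          group
        rw [e, heq]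
        have e2 : (x' * n)⁻¹ * (x' * n * y₂ * (x' * n)⁻¹) * (x' * n) = y₂ := by group
        rwa [e2]
      have h8 := h2.ti _ (mul_mem (inv_mem hx'n) hmN) y₁ hy₁ hy₁1 h7
      have h9 : ((x' * n)⁻¹ * m) * y * ((x' * n)⁻¹ * m)⁻¹ ∈ Z co := conj_mem_of_le le_rfl h8 hy
      set y₃ := ((x' * n)⁻¹ * m) * y * ((x' * n)⁻¹ * m)⁻¹ with hy₃
      have e3 : m * y * m⁻¹ = x' * (n * y₃ * n⁻¹) * x'⁻¹ := by rw [hy₃]; group
      have h10 := chi_conj (φ := φ) hx' (conj_E2 hn (Z_le_E2 h9))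
      rw [← e3, hvs, hc'] at h10
      have h11 := congrFun h10 0
      have h12 := congrFun h10 1
      simp [u, Matrix.mulVec, dotProduct, Fin.sum_univ_two, chi_Zn hA h9] at h11 h12
      rw [← h12] at h11
      rw [eq_comm, inv_mul_eq_iff_eq_mul₀ hlam] at h11
      linear_combination h11
  refine ⟨ψ 1, fun w hw => ?_⟩
  ext i
  fin_cases i
  · simp only [Fin.zero_eta]
    rw [h0 w hw]
    simp [v, Matrix.mulVec, dotProduct, Fin.sum_univ_two]
  · simp only [Fin.mk_one]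
    rw [hgen w hw, key]
    simp [v, Matrix.mulVec, dotProduct, Fin.sum_univ_two]

end chi

/-! ### The representation -/

section rep

variable {S : Sylow 2 G} {co : Coord C (S : Subgroup G)} {n : G} {φ : F → F}

/-- `l` acts on `E2` by the matrix `A` -/
def Rel (co : Coord C (S : Subgroup G)) (φ : F → F) (l : G) (A : SpecialLinearGroup (Fin 2) F) : Prop :=
  ∀ w ∈ E2 co, chi co φ (l * w * l⁻¹) = A.1 *ᵥ chi co φ w

theorem Rel.one : Rel co φ 1 1 := by
  intro w _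
  have e : (1 : G) * w * 1⁻¹ = w := by group
  rw [e]
  simp

theorem Rel.mul {l l' : G} {A A' : SpecialLinearGroup (Fin 2) F}
    (hl' : l' ∈ normalizer ((Db co : Subgroup G) : Set G)) (h : Rel co φ l A) (h' : Rel co φ l' A') :
    Rel co φ (l * l') (A * A') := by
  intro w hw
  have e : l * l' * w * (l * l')⁻¹ = l * (l' * w * l'⁻¹) * l⁻¹ := by group
  rw [e, h _ (conj_E2 hl' hw), h' _ hw, Matrix.mulVec_mulVec]
  rfl

theorem Rel.inv {l : G} {A : SpecialLinearGroup (Fin 2) F}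
    (hl : l ∈ normalizer ((Db co : Subgroup G) : Set G)) (h : Rel co φ l A) : Rel co φ l⁻¹ A⁻¹ := by
  intro w hw
  have h1 := h _ (conj_E2 (inv_mem hl) hw)
  have e : l * (l⁻¹ * w * l⁻¹⁻¹) * l⁻¹ = w := by group
  rw [e] at h1
  rw [h1, Matrix.mulVec_mulVec]
  have h2 : (A⁻¹).1 * A.1 = 1 := by
    have : (A⁻¹ * A).1 = 1 := by rw [inv_mul_cancel]; rfl
    exact this
  rw [h2, Matrix.one_mulVec]

theorem Rel.unique {l : G} {A B : SpecialLinearGroup (Fin 2) F} (h : Rel co φ l A) (h' : Rel co φ l B) :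
    A = B := by
  apply Subtype.ext
  have h3 : ∀ x : Fin 2 → F, A.1 *ᵥ x = B.1 *ᵥ x := by
    intro x
    obtain ⟨w, hw, rfl⟩ := exists_chi (co := co) (φ := φ) x
    rw [← h w hw, ← h' w hw]
  exact Matrix.ext_of_mulVec_single fun i => h3 _

theorem L2_le : L2 S co ≤ normalizer ((Db co : Subgroup G) : Set G) :=
  conjClosure_le_self le_normalizer_Db

theorem exists_rel (h2 : Out2 S co) (hA : Ad co n φ)
    (hn : n ∈ normalizer ((Db co : Subgroup G) : Set G))
    (hnZ : n ∉ normalizer ((Z co : Subgroup G) : Set G))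
    (hc : centralizer ((Db co : Subgroup G) : Set G) ≤ Db co) {l : G} (hl : l ∈ L2 S co) :
    ∃ A, Rel co φ l A := by
  set M : Subgroup G :=
    { carrier := {l | l ∈ normalizer ((Db co : Subgroup G) : Set G) ∧ ∃ A, Rel co φ l A}
      one_mem' := ⟨one_mem _, 1, Rel.one⟩
      mul_mem' := by
        rintro a b ⟨ha, A, hA⟩ ⟨hb, B, hB⟩
        exact ⟨mul_mem ha hb, A * B, Rel.mul hb hA hB⟩
      inv_mem' := by
        rintro a ⟨ha, A, hA⟩
        exact ⟨inv_mem ha, A⁻¹, Rel.inv ha hA⟩ } with hM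
  have hS : (S : Subgroup G) ≤ M := fun x hx => ⟨le_normalizer_Db hx, u (cx co x).a6, fun w hw => chi_conj hx hw⟩
  have hSn : (S : Subgroup G).map (MulAut.conj n).toMonoidHom ≤ M := by
    rintro _ ⟨x, hx, rfl⟩
    obtain ⟨lam, hlam⟩ := chi_conj_n hA h2 hn hx
    exact ⟨mul_mem (mul_mem hn (le_normalizer_Db hx)) (inv_mem hn), v lam, hlam⟩
  have h3 : centralizer ((Db co : Subgroup G) : Set G) ≤ M := hc.trans (Db_le.trans hS)
  have h4 : L2 S co ≤ M := (h2.gen n hn hnZ).trans (sup_le (sup_le hS hSn) h3)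
  exact (h4 hl).2

/-- odd elements centralising `E2` and acting trivially on `F0 / E2` are trivial -/
theorem eq_one_of_odd (h2 : Out2 S co) (hc : centralizer ((Db co : Subgroup G) : Set G) ≤ Db co) {d : G}
    (hd : d ∈ L2 S co) (ho : Odd (orderOf d)) (hV : ∀ w ∈ E2 co, d * w * d⁻¹ = w) : d = 1 := by
  obtain ⟨k, hk⟩ := ho
  -- general principle
  have hpr : ∀ x y : G, d * x * d⁻¹ = y * x → d * y * d⁻¹ = y → y * y = 1 → y = 1 := by
    intro x y h1 h3 hsq
    have h4 : ∀ i : ℕ, d ^ i * x * (d ^ i)⁻¹ = y ^ i * x := by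
      intro i
      induction i with
      | zero => simp
      | succ i ih =>
        have e : d ^ (i + 1) * x * (d ^ (i + 1))⁻¹ = d * (d ^ i * x * (d ^ i)⁻¹) * d⁻¹ := by
          rw [pow_succ']; group
        have e2 : d * y ^ i * d⁻¹ = y ^ i := by
          have : d * y ^ i * d⁻¹ = (d * y * d⁻¹) ^ i := by
            have h6 := map_pow (MulAut.conj d) y i
            simpa [MulAut.conj_apply] using h6
          rw [this, h3]
        calc d ^ (i + 1) * x * (d ^ (i + 1))⁻¹ = d * (y ^ i * x) * d⁻¹ := by rw [e, ih]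
          _ = (d * y ^ i * d⁻¹) * (d * x * d⁻¹) := by group
          _ = y ^ i * (y * x) := by rw [e2, h1]
          _ = y ^ (i + 1) * x := by rw [pow_succ]; group
    have h5 := h4 (orderOf d)
    rw [pow_orderOf_eq_one, hk] at h5
    have h6 : y ^ (2 * k + 1) = 1 := by
      have : (1 : G) * x * 1⁻¹ = x := by group
      rw [this] at h5
      exact (mul_eq_right.1 h5.symm)
    rw [pow_succ, pow_mul, pow_two, hsq, one_pow, one_mul] at h6
    exact h6
  have hW : ∀ w ∈ F0 co, d * w * d⁻¹ = w := by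
    intro w hw
    have h1 := h2.triv d hd w hw
    have h3 : cm d w = 1 := by
      apply hpr w (cm d w)
      · unfold cm; group
      · exact hV _ h1
      · exact sq_F0 (E2_le_F0 h1)
    have h4 : d * w * d⁻¹ = cm d w * w := by unfold cm; group
    rw [h4, h3, one_mul]
  have hdN := L2_le hd
  have hDb : ∀ x ∈ Db co, d * x * d⁻¹ = x := by
    intro x hx
    have h1 : d * x * d⁻¹ ∈ Db co := conj_mem_of_le le_rfl hdN hx
    have h3 : cm d x ∈ Db co := mul_mem h1 (inv_mem hx)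
    have h4 : cm d x ∈ F0 co := by
      refine mem_F0_of_cm_eq_one h3.1 (fun w hw => ?_)
      rw [cm_eq_one]
      -- `d x d⁻¹` and `x` act equally on `F0`
      have h5 : ∀ w ∈ F0 co, (d * x * d⁻¹) * w * (d * x * d⁻¹)⁻¹ = x * w * x⁻¹ := by
        intro w hw
        have h6 : d⁻¹ * w * d = w := by
          have := hW w hw
          calc d⁻¹ * w * d = d⁻¹ * (d * w * d⁻¹) * d := by rw [this]
            _ = w := by group
        have h7 : x * w * x⁻¹ ∈ F0 co := by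
          rw [conj_eq_cm_mul]
          exact mul_mem (E2_le_F0 (cm_mem_E2 hx.1 hw)) hw
        calc (d * x * d⁻¹) * w * (d * x * d⁻¹)⁻¹ = d * (x * (d⁻¹ * w * d) * x⁻¹) * d⁻¹ := by group
          _ = d * (x * w * x⁻¹) * d⁻¹ := by rw [h6]
          _ = x * w * x⁻¹ := hW _ h7
      have h8 : x⁻¹ * w * x ∈ F0 co := by
        have : x⁻¹ * w * x = x⁻¹ * w * x⁻¹⁻¹ := by group
        rw [this, conj_eq_cm_mul]
        exact mul_mem (E2_le_F0 (cm_mem_E2 (inv_mem hx.1) hw)) hw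
      have h9 := h5 _ h8
      have h10 : cm d x * w * (cm d x)⁻¹ = w := by
        calc cm d x * w * (cm d x)⁻¹ = (d * x * d⁻¹) * (x⁻¹ * w * x) * (d * x * d⁻¹)⁻¹ := by
              unfold cm; group
          _ = w := by rw [h9]; group
      calc cm d x * w = (cm d x * w * (cm d x)⁻¹) * cm d x := by group
        _ = w * cm d x := by rw [h10]
    have h5 : cm d x = 1 := by
      apply hpr x (cm d x)
      · unfold cm; group
      · exact hW _ h4
      · exact sq_F0 h4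
    have h6 : d * x * d⁻¹ = cm d x * x := by unfold cm; group
    rw [h6, h5, one_mul]
  have hdDb : d ∈ Db co := by
    apply hc
    rw [mem_centralizer_iff]
    intro x hx
    have := hDb x hx
    calc x * d = (d * x * d⁻¹) * d := by rw [this]
      _ = d * x := by group
  -- `d` is in a 2-group
  have hp : IsPGroup 2 (S : Subgroup G) := S.isPGroup'
  obtain ⟨j, hj⟩ := hp ⟨d, Db_le hdDb⟩
  have hj' : d ^ 2 ^ j = 1 := congrArg Subtype.val hj
  have h1 : orderOf d ∣ 2 ^ j := orderOf_dvd_of_pow_eq_one hj'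
  have h3 : (orderOf d).Coprime (2 ^ j) := by
    apply Nat.Coprime.pow_right
    rw [hk]
    simp
  have h4 := Nat.eq_one_of_dvd_coprimes h3 dvd_rfl h1
  exact orderOf_eq_one_iff.1 h4

/-- an element of `L2` centralising `E2` is in `Db` -/
theorem mem_Db_of_comm (h2 : Out2 S co) (hc : centralizer ((Db co : Subgroup G) : Set G) ≤ Db co) {d : G}
    (hd : d ∈ L2 S co) (hV : ∀ w ∈ E2 co, d * w * d⁻¹ = w) : d ∈ Db co := by
  -- the subgroup of such elements
  set D : Subgroup G := L2 S co ⊓ centralizer ((E2 co : Subgroup G) : Set G) with hD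
  have hmem : ∀ x, x ∈ D ↔ x ∈ L2 S co ∧ ∀ w ∈ E2 co, x * w * x⁻¹ = w := by
    intro x
    rw [hD, mem_inf, mem_centralizer_iff]
    refine and_congr_right fun _ => forall₂_congr fun w hw => ?_
    constructor
    · intro h
      rw [← h]; group
    · intro h
      calc w * x = (x * w * x⁻¹) * x := by rw [h]
        _ = x * w := by group
  have hSL : (S : Subgroup G) ≤ L2 S co := le_conjClosure _ _
  have hSN : (S : Subgroup G) ≤ normalizer (D : Set G) := by
    refine le_normalizer_inf (hSL.trans le_normalizer) (le_normalizer_of fun s hs x hx => ?_)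
    have hsN : ∀ w ∈ E2 co, s⁻¹ * w * s⁻¹⁻¹ ∈ E2 co := fun w hw => conj_E2 (inv_mem (le_normalizer_Db hs)) hw
    rw [mem_centralizer_iff] at hx ⊢
    intro w hw
    have h1 := hx _ (hsN w hw)
    calc w * (s * x * s⁻¹) = s * ((s⁻¹ * w * s⁻¹⁻¹) * x) * s⁻¹ := by group
      _ = s * (x * (s⁻¹ * w * s⁻¹⁻¹)) * s⁻¹ := by rw [h1]
      _ = s * x * s⁻¹ * w := by group
  have hDp : IsPGroup 2 D := by
    intro x
    -- odd part
    obtain ⟨j, m, hm, hjm⟩ := Nat.exists_eq_two_pow_mul_odd (orderOf_pos (x : G)).ne'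
    refine ⟨j, ?_⟩
    have h1 : (x : G) ^ 2 ^ j = 1 := by
      apply eq_one_of_odd h2 hc
      · exact pow_mem ((hmem _).1 x.2).1 _
      · rw [orderOf_pow, hjm, Nat.gcd_eq_right (Dvd.intro _ rfl), Nat.mul_div_cancel_left _ (by positivity)]
        exact hm
      · exact ((hmem _).1 (pow_mem x.2 _)).2
    exact Subtype.ext h1
  have hsup : IsPGroup 2 ((S : Subgroup G) ⊔ D : Subgroup G) := by
    have := IsPGroup.to_sup_of_normal_right' (H := (S : Subgroup G)) (K := D) S.isPGroup' hDp hSN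
    exact this
  have hle : D ≤ S := by
    have h1 : (S : Subgroup G) ⊔ D = S := S.is_maximal' hsup le_sup_left
    rw [← h1]
    exact le_sup_right
  have hdD : d ∈ D := (hmem d).2 ⟨hd, hV⟩
  refine ⟨hle hdD, a6_eq_zero_of_comm (hle hdD) (fun w hw => ?_)⟩
  have := hV w hw
  unfold cm
  rw [this]; group

end rep

/-- `L₂ / Db ≅ SL₂(F)` -/
theorem outP2 {S : Sylow 2 G} {co : Coord C (S : Subgroup G)} (h2 : Out2 S co)
    (hc : centralizer ((Db co : Subgroup G) : Set G) ≤ Db co) : OutP2 S co := by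
  classical
  obtain ⟨n, hn, hnZ⟩ := h2.ex
  obtain ⟨φ, hA⟩ := exists_ad h2 hn hnZ
  have hex : ∀ l : L2 S co, ∃ A, Rel co φ (l : G) A := fun l => exists_rel h2 hA hn hnZ hc l.2
  choose f hf using hex
  let p : L2 S co →* SpecialLinearGroup (Fin 2) F :=
    { toFun := f
      map_one' := Rel.unique (hf 1) Rel.one
      map_mul' := fun a b => Rel.unique (hf (a * b)) (Rel.mul (L2_le b.2) (hf a) (hf b)) }
  have hp : ∀ l : L2 S co, Rel co φ (l : G) (p l) := hf
  have hSL : (S : Subgroup G) ≤ L2 S co := le_conjClosure _ _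
  have hpS : ∀ g : L2 S co, (g : G) ∈ (S : Subgroup G) → p g = u (cx co g).a6 := fun g hg =>
    Rel.unique (hp g) (fun w hw => chi_conj hg hw)
  have hker : ∀ g : L2 S co, p g = 1 ↔ (g : G) ∈ Db co := by
    intro g
    constructor
    · intro h
      refine mem_Db_of_comm h2 hc g.2 (fun w hw => ?_)
      have h1 := hp g w hw
      rw [h] at h1
      apply chi_inj hA (conj_E2 (L2_le g.2) hw) hw
      rw [h1]; simp
    · intro h
      rw [hpS g (Db_le h), h.2, Cfsg.Agent.ClassTwo.Sp4SL2.u_zero]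
  refine ⟨p, ?_, hker, hpS⟩
  have hfin := Cfsg.Agent.HexEss.Abel.finite_F co
  rw [← MonoidHom.range_eq_top]
  apply Cfsg.Agent.ClassTwo.Sp4SL2.eq_top_of_uv
  · intro t
    obtain ⟨x, hx, hx6⟩ := exists_x6 (co := co) t
    exact ⟨⟨x, hSL hx⟩, by rw [hpS _ hx, hx6]⟩
  · -- the lower transvections
    have h3 : ∀ c : F, ∃ x ∈ (S : Subgroup G), (cx co x).a6 = c := exists_x6
    choose x hx hx6 using h3
    have h4 : ∀ c : F, ∃ lam : F, ∀ w ∈ E2 co,
        chi co φ ((n * x c * n⁻¹) * w * (n * x c * n⁻¹)⁻¹) = (v lam).1 *ᵥ chi co φ w :=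
      fun c => chi_conj_n hA h2 hn (hx c)
    choose lam hlam using h4
    have hnL : ∀ c, n * x c * n⁻¹ ∈ L2 S co := fun c => conj_mem_conjClosure hn (hx c)
    have hpn : ∀ c, p ⟨n * x c * n⁻¹, hnL c⟩ = v (lam c) := fun c => Rel.unique (hp _) (hlam c)
    have hinj : Function.Injective lam := by
      intro c c' he
      have h5 : p ⟨n * x c * n⁻¹, hnL c⟩ = p ⟨n * x c' * n⁻¹, hnL c'⟩ := by rw [hpn, hpn, he]
      have h6 : p (⟨n * x c * n⁻¹, hnL c⟩ * ⟨n * x c' * n⁻¹, hnL c'⟩⁻¹) = 1 := by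
        rw [map_mul, map_inv, h5, mul_inv_cancel]
      rw [hker] at h6
      have h7 : n * (x c * (x c')⁻¹) * n⁻¹ ∈ Db co := by
        have e : n * (x c * (x c')⁻¹) * n⁻¹ = (n * x c * n⁻¹) * (n * x c' * n⁻¹)⁻¹ := by group
        rw [e]; exact h6
      have h8 : x c * (x c')⁻¹ ∈ Db co := (mem_normalizer_iff.1 hn _).2 h7
      have h9 : (cx co (x c)).a6 = (cx co (x c')).a6 := by
        have e : x c = (x c * (x c')⁻¹) * x c' := by group
        rw [e, a6_mul h8.1 (hx c'), h8.2, zero_add]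
      rwa [hx6, hx6] at h9
    have hsurj := Finite.surjective_of_injective hinj
    intro t
    obtain ⟨c, rfl⟩ := hsurj t
    exact ⟨⟨n * x c * n⁻¹, hnL c⟩, hpn c⟩

end Cfsg.Agent.HexGlob.PiTwo
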