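import Cfsg.Agent.HexGlob.FinalS
import Cfsg.Agent.HexGlob.Assemble
import Cfsg.Agent.HexGlob.OneBen
import Cfsg.Agent.HexGlob.PiTwo
import Cfsg.Agent.HexGlob.Bend
import Cfsg.Agent.HexGlob.OddLin
import Cfsg.Agent.StrongEmb.Strong
import Cfsg.Agent.TwoFusion.ClosedCommutator
import Cfsg.Agent.S0222
import Cfsg.Agent.S1169
import Cfsg.Agent.S1296

/-!
# The global analysis, unconditionally
-/

set_option autoImplicit false

namespace Cfsg.Agent.HexGlob.GlobFrame

open Cfsg.Agent.HexRec Cfsg.Agent.HexGlob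

universe u

theorem h1169 : TypeL3.H1169.{u} := fun _ _ _ _ S A hA hc hs => Cfsg.Agent.S1169.result S A hA hc hs

theorem h1171 : TypeL3.H1171.{u} := fun _ _ _ P A B hd ha hb =>
  Cfsg.Agent.TwoFusion.ClosedCommutator.commutator_le P A B hd ha hb

theorem h1296 : TypeL3.H1296.{u} := fun _ _ _ he h2 hO => Cfsg.Agent.S1296.result he h2 hO

theorem hbend : MinPlus.HBend.{u} :=
  Bend.hbend_of_exists_isSplit fun _ _ _ _ hna H hH => Cfsg.Agent.StrongEmb.Strong.exists_isSplit hna H hH

theorem bender : SLQuot.Bender.{u} := fun _ _ _ _ hna H hH => Cfsg.Agent.S0222.result hna H hH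

/-- **the generating frame of a simple group with hexagonal Sylow 2-subgroup** -/
theorem globalFrame : FinalS.GlobalFrame.{u} := by
  intro F K _ _ _ C hD G _ _ _ S co
  have := Facts.finite_F hD
  have := OddLin.finite_K hD
  obtain ⟨Φ, h, -⟩ := Assemble.exists_frame hD co h1169 h1171 h1296 hbend bender
    (fun co1 hE hN hW => OneBen.exists_out1 co1 hD hE hN hW) (fun _ _ _ h2 _ hc => PiTwo.outP2 h2 hc)
  exact ⟨Φ, h⟩

end Cfsg.Agent.HexGlob.GlobFrame
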