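import Mathlib
import Cfsg.Agent.HexEss.Tools
import Cfsg.Agent.Lib.CoprimeStab
import Cfsg.Agent.TypeL3.Fusion
import Cfsg.Agent.S0058

/-!
# The centraliser of `V` in `N / Q C(Q)`

Abstract form of steps D3, D4: `S` a Sylow 2-subgroup of `G`, `S ≤ N`, `Q = C_S(V)` normal in `N`,
`V ≤ W ≤ R ≤ Q`.  Conclusion: for `m ∈ N` normalising `Z` the group `S^m` is contained in `S C(Q)`.
-/

set_option autoImplicit false

namespace Cfsg.Agent.HexGlob.TwoCen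

open Subgroup Cfsg.Agent.HexEss Cfsg.Agent.Lib.GoldschmidtFusion
open scoped commutatorElement

universe u

variable {G : Type u} [Group G]

/-- the hypotheses -/
structure Cen (S N Q R W V Z : Subgroup G) : Prop where
  S_le : S ≤ N
  N_Q : N ≤ normalizer (Q : Set G)
  N_W : N ≤ normalizer (W : Set G)
  N_V : N ≤ normalizer (V : Set G)
  Q_le : Q ≤ S
  R_le : R ≤ Q
  W_le : W ≤ R
  V_le : V ≤ W
  Z_le : Z ≤ V
  /-- `[Q, Q] ≤ W` -/
  qq : ∀ x ∈ Q, ∀ y ∈ Q, cm x y ∈ W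
  /-- `[Q, W] ≤ V` -/
  qw : ∀ x ∈ Q, ∀ y ∈ W, cm x y ∈ V
  /-- `[Q, V] = 1` -/
  qv : ∀ x ∈ Q, ∀ y ∈ V, cm x y = 1
  /-- `W = [Q, Q] V` -/
  wgen : W ≤ closure {w | ∃ x ∈ Q, ∃ y ∈ Q, w = cm x y} ⊔ V
  /-- `C_S(V) ≤ Q` -/
  sv : ∀ s ∈ S, (∀ v ∈ V, cm s v = 1) → s ∈ Q
  /-- `[S, R] ≤ W` -/
  sr : ∀ s ∈ S, ∀ r ∈ R, cm s r ∈ W
  /-- `[S, Q] ≤ R` -/
  sq : ∀ s ∈ S, ∀ x ∈ Q, cm s x ∈ R
  /-- `C_{Q/W}(s) = R/W` -/
  rs : ∀ s ∈ S, s ∉ Q → ∀ m ∈ Q, cm s m ∈ W → m ∈ R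
  /-- `S / Q` is elementary abelian -/
  ss : ∀ s ∈ S, ∀ t ∈ S, cm s t ∈ Q
  s2 : ∀ s ∈ S, s * s ∈ Q
  /-- `S / Q` is not cyclic -/
  nc : ∃ a ∈ S, ∃ b ∈ S, a ∉ Q ∧ b ∉ Q ∧ a⁻¹ * b ∉ Q
  /-- `V` has exponent two -/
  vv : ∀ v ∈ V, v * v = 1
  /-- `[S, Z] = 1` -/
  sz : ∀ s ∈ S, ∀ z ∈ Z, cm s z = 1
  /-- `[S, V] ≤ Z` -/
  svz : ∀ s ∈ S, ∀ v ∈ V, cm s v ∈ Z

theorem exists_odd (n : ℕ) (hn : n ≠ 0) : ∃ i j : ℕ, n = 2 ^ i * j ∧ Odd j := by
  obtain ⟨i, j, hj, h⟩ := Nat.exists_eq_two_pow_mul_odd hn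
  exact ⟨i, j, h, hj⟩

/-- `x ∈ H` if `x ^ j ∈ H` and `x ^ (2 ^ k) ∈ H`, `j` odd -/
theorem mem_of_pow_mem {H : Subgroup G} {x : G} {j k : ℕ} (hj : Odd j) (h1 : x ^ j ∈ H) (h2 : x ^ 2 ^ k ∈ H) :
    x ∈ H := by
  have hc : Nat.Coprime j (2 ^ k) := (Nat.coprime_two_right.2 hj).pow_right k
  have h3 := Int.gcd_eq_gcd_ab (j : ℤ) (2 ^ k : ℕ)
  rw [Int.gcd_natCast_natCast, hc] at h3
  have h4 : x = (x ^ j) ^ (Int.gcdA j (2 ^ k : ℕ)) * (x ^ 2 ^ k) ^ (Int.gcdB j (2 ^ k : ℕ)) := by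
    rw [← zpow_natCast x j, ← zpow_natCast x (2 ^ k), ← zpow_mul, ← zpow_mul, ← zpow_add, ← h3]
    simp
  rw [h4]
  exact mul_mem (zpow_mem h1 _) (zpow_mem h2 _)

/-- every element of a finite group has an odd power which is a 2-element -/
theorem exists_pow [Finite G] (x : G) : ∃ i j : ℕ, Odd j ∧ (x ^ j) ^ 2 ^ i = 1 ∧ (x ^ 2 ^ i) ^ j = 1 := by
  obtain ⟨i, j, h, hj⟩ := exists_odd (orderOf x) (orderOf_pos x).ne'
  refine ⟨i, j, hj, ?_, ?_⟩
  · rw [← pow_mul, mul_comm, ← h, pow_orderOf_eq_one]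
  · rw [← pow_mul, ← h, pow_orderOf_eq_one]

variable [Finite G] {S : Sylow 2 G} {N Q R W V Z : Subgroup G}

namespace Cen

omit [Finite G] in
theorem V_le_Q (h : Cen (S : Subgroup G) N Q R W V Z) : V ≤ Q := h.V_le.trans (h.W_le.trans h.R_le)

omit [Finite G] in
theorem isPGroup_Q (h : Cen (S : Subgroup G) N Q R W V Z) : IsPGroup 2 Q := S.isPGroup'.to_le h.Q_le

/-- a 2-element of `N` centralising `V` lies in `Q` -/
theorem mem_Q (h : Cen (S : Subgroup G) N Q R W V Z) {y : G} (hy : y ∈ N) (hyV : ∀ v ∈ V, cm y v = 1) {i : ℕ}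
    (hi : y ^ 2 ^ i = 1) : y ∈ Q := by
  have hzp : IsPGroup 2 (zpowers y) := by
    rintro ⟨x, hx⟩
    obtain ⟨n, rfl⟩ := mem_zpowers_iff.1 hx
    refine ⟨i, Subtype.ext ?_⟩
    change (y ^ n) ^ 2 ^ i = 1
    rw [← zpow_natCast (y ^ n), ← zpow_mul, mul_comm, zpow_mul, zpow_natCast, hi, one_zpow]
  obtain ⟨n, hn, hle⟩ := exists_conj_le_in (p := 2) S.isPGroup' (Cfsg.Agent.TypeL3.sylow_not_dvd_relIndex S h.S_le)
    (zpowers_le.2 hy) hzp
  have h1 : n * y * n⁻¹ ∈ (S : Subgroup G) := hle ⟨y, mem_zpowers y, by simp⟩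
  have h2 : n * y * n⁻¹ ∈ Q := by
    apply h.sv _ h1
    intro v hv
    have h3 := hyV _ (conj_mem_of_le h.N_V (inv_mem hn) hv)
    have h4 := conj_cm n y (n⁻¹ * v * n⁻¹⁻¹)
    rw [h3, mul_one, mul_inv_cancel] at h4
    rw [h4]
    congr 1
    group
  have h3 := conj_mem_of_le h.N_Q (inv_mem hn) h2
  have h4 : n⁻¹ * (n * y * n⁻¹) * n⁻¹⁻¹ = y := by group
  rwa [h4] at h3

/-- elements of odd order acting trivially on the factors of `1 ≤ V ≤ W ≤ Q` centralise `Q` -/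
theorem mem_centralizer (h : Cen (S : Subgroup G) N Q R W V Z) {c : G} {j : ℕ} (hj : Odd j) (hc : c ^ j = 1)
    (hcQ : ∀ d ∈ Q, cm c d ∈ W) (hcV : ∀ v ∈ V, cm c v = 1) : c ∈ centralizer (Q : Set G) := by
  have hcN : c ∈ normalizer (Q : Set G) := mem_normalizer_of_cm fun d hd => h.R_le (h.W_le (hcQ d hd))
  -- `c` acts trivially on `W / V`
  have hcW : ∀ w ∈ W, cm c w ∈ V := by
    have hVQ : ∀ x ∈ Q, ∀ v ∈ V, x * v = v * x := fun x hx v hv => cm_eq_one.1 (h.qv x hx v hv)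
    have key : ∀ w ∈ closure {w | ∃ x ∈ Q, ∃ y ∈ Q, w = cm x y} ⊔ V, w ∈ W ∧ cm c w ∈ V := by
      intro w hw
      have hgen : closure {w | ∃ x ∈ Q, ∃ y ∈ Q, w = cm x y} ⊔ V =
          closure ({w | ∃ x ∈ Q, ∃ y ∈ Q, w = cm x y} ∪ (V : Set G)) := by
        rw [Subgroup.closure_union, Subgroup.closure_eq]
      rw [hgen] at hw
      induction hw using closure_induction with
      | mem w hw =>
        rcases hw with ⟨x, hx, y, hy, rfl⟩ | hw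
        · refine ⟨h.qq x hx y hy, ?_⟩
          -- `c [x, y] c⁻¹ = [w₁ x, w₂ y]`
          have h1 : c * cm x y * c⁻¹ = cm (cm c x * x) (cm c y * y) := by
            rw [conj_cm, ← conj_eq_cm_mul, ← conj_eq_cm_mul]
          have hw1 := hcQ x hx
          have hw2 := hcQ y hy
          have hw1Q := h.R_le (h.W_le hw1)
          have hw2Q := h.R_le (h.W_le hw2)
          -- `[w₁ x, w₂ y] = w₁ [x, w₂ y] w₁⁻¹ [w₁, w₂ y]`
          have h2 : cm (cm c x * x) (cm c y * y) =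
              (cm c x * cm x (cm c y * y) * (cm c x)⁻¹) * cm (cm c x) (cm c y * y) := by
            unfold cm; group
          have h3 : cm x (cm c y * y) = cm x (cm c y) * (cm c y * cm x y * (cm c y)⁻¹) := by
            unfold cm; group
          have e1 : cm x (cm c y) ∈ V := h.qw x hx _ hw2
          have e2 : cm (cm c y) (cm x y) ∈ V := by
            have := h.qw _ (h.R_le (h.W_le (h.qq x hx y hy))) _ hw2
            exact cm_inv_swap_mem this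
          have e3 : cm (cm c x) (cm c y * y) ∈ V :=
            cm_inv_swap_mem (h.qw _ (mul_mem hw2Q hy) _ hw1)
          have e4 : cm (cm c x) (cm x (cm c y * y)) ∈ V :=
            cm_inv_swap_mem (h.qw _ (cm_mem hx (mul_mem hw2Q hy)) _ hw1)
          have h5 : c * cm x y * c⁻¹ = cm (cm c x) (cm x (cm c y * y)) * (cm x (cm c y) *
              (cm (cm c y) (cm x y) * (cm x y * cm (cm c x) (cm c y * y)))) := by
            rw [h1, h2, conj_eq_cm_mul (cm c x) (cm x (cm c y * y))]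
            rw [mul_assoc]
            congr 1
            rw [h3, conj_eq_cm_mul (cm c y) (cm x y)]
            simp only [mul_assoc]
          have h6 : cm x y * cm (cm c x) (cm c y * y) = cm (cm c x) (cm c y * y) * cm x y :=
            hVQ _ (cm_mem hx hy) _ e3
          have h7 : cm c (cm x y) = cm (cm c x) (cm x (cm c y * y)) * (cm x (cm c y) *
              (cm (cm c y) (cm x y) * cm (cm c x) (cm c y * y))) := by
            have h8 : cm c (cm x y) = c * cm x y * c⁻¹ * (cm x y)⁻¹ := rfl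
            rw [h8, h5, h6]
            simp only [mul_assoc, mul_inv_cancel, mul_one]
          rw [h7]
          exact mul_mem e4 (mul_mem e1 (mul_mem e2 e3))
        · exact ⟨h.V_le hw, by rw [hcV w hw]; exact one_mem _⟩
      | one => exact ⟨one_mem _, by unfold cm; simp [one_mem]⟩
      | mul x y _ _ hx hy =>
        refine ⟨mul_mem hx.1 hy.1, ?_⟩
        have h1 : cm c (x * y) = cm c x * (x * cm c y * x⁻¹) := by unfold cm; group
        rw [h1]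
        exact mul_mem hx.2 (conj_mem_of_le (h.S_le.trans h.N_V) (h.Q_le (h.R_le (h.W_le hx.1))) hy.2)
      | inv x _ hx =>
        refine ⟨inv_mem hx.1, ?_⟩
        have h1 : cm c x⁻¹ = x⁻¹ * (cm c x)⁻¹ * x⁻¹⁻¹ := by unfold cm; group
        rw [h1]
        exact conj_mem_of_le (h.S_le.trans h.N_V) (h.Q_le (h.R_le (h.W_le (inv_mem hx.1)))) (inv_mem hx.2)
    exact fun w hw => (key w (h.wgen hw)).2
  -- coprimality
  have hodd : Odd (orderOf c) := hj.of_dvd_nat (orderOf_dvd_of_pow_eq_one hc)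
  have hcop : ∀ H : Subgroup G, IsPGroup 2 H → (orderOf c).Coprime (Nat.card H) := by
    intro H hH
    obtain ⟨k, hk⟩ := IsPGroup.iff_card.1 hH
    rw [hk]
    exact (Nat.coprime_two_right.2 hodd).pow_right k
  have hcomW : ∀ w ∈ W, Commute w c := by
    intro w hw
    have h1 : ⁅w, c⁆ ∈ V := by
      have : ⁅w, c⁆ = (cm c w)⁻¹ := by unfold cm; rw [commutatorElement_def]; group
      rw [this]; exact inv_mem (hcW w hw)
    refine Cfsg.Agent.Lib.CoprimeStab.commute_of_commutator_commute (H := V)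
      (hcop V (h.isPGroup_Q.to_le h.V_le_Q)) h1 ?_
    exact (cm_eq_one.1 (hcV _ h1)).symm
  rw [mem_centralizer_iff]
  intro x hx
  have h1 : ⁅x, c⁆ ∈ W := by
    have : ⁅x, c⁆ = (cm c x)⁻¹ := by unfold cm; rw [commutatorElement_def]; group
    rw [this]; exact inv_mem (hcQ x hx)
  exact Cfsg.Agent.Lib.CoprimeStab.commute_of_commutator_commute (H := W)
      (hcop W (h.isPGroup_Q.to_le (h.W_le.trans h.R_le))) h1 (hcomW _ h1)

/-- elements of `N` acting trivially on `Q / W` and on `V` lie in `Q C(Q)` -/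
theorem mem_sup (h : Cen (S : Subgroup G) N Q R W V Z) {a : G} (ha : a ∈ N) (haQ : ∀ d ∈ Q, cm a d ∈ W)
    (haV : ∀ v ∈ V, cm a v = 1) : a ∈ Q ⊔ centralizer (Q : Set G) := by
  obtain ⟨i, j, hj, h1, h2⟩ := exists_pow a
  have key : ∀ n : ℕ, (∀ d ∈ Q, cm (a ^ n) d ∈ W) ∧ ∀ v ∈ V, cm (a ^ n) v = 1 := by
    intro n
    induction n with
    | zero => exact ⟨fun d _ => by unfold cm; simp [one_mem], fun d _ => by unfold cm; simp⟩
    | succ n ih =>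
      have e : ∀ d, cm (a ^ (n + 1)) d = a ^ n * cm a d * (a ^ n)⁻¹ * cm (a ^ n) d := by
        intro d; unfold cm; group
      refine ⟨fun d hd => ?_, fun v hv => ?_⟩
      · rw [e]
        exact mul_mem (conj_mem_of_le h.N_W (pow_mem ha n) (haQ d hd)) (ih.1 d hd)
      · rw [e, haV v hv, ih.2 v hv]; group
  have h3 : a ^ j ∈ Q := h.mem_Q (pow_mem ha j) (key j).2 h1
  have h4 : a ^ 2 ^ i ∈ centralizer (Q : Set G) := h.mem_centralizer hj h2 (key _).1 (key _).2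
  exact mem_of_pow_mem hj (mem_sup_left h3) (mem_sup_right h4)

/-- the elements of `N` acting trivially on `Q / W` and on `V` -/
def T0 (h : Cen (S : Subgroup G) N Q R W V Z) : Subgroup G := cenMod N Q W h.N_W ⊓ centralizer (V : Set G)

omit [Finite G] in
theorem mem_T0 (h : Cen (S : Subgroup G) N Q R W V Z) {g : G} :
    g ∈ h.T0 ↔ g ∈ N ∧ (∀ d ∈ Q, cm g d ∈ W) ∧ ∀ v ∈ V, cm g v = 1 := by
  rw [T0, mem_inf, mem_cenMod, and_assoc]
  refine and_congr_right fun _ => and_congr_right fun _ => ?_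
  rw [mem_centralizer_iff]
  exact ⟨fun h1 v hv => cm_eq_one.2 (h1 v hv).symm, fun h1 v hv => (cm_eq_one.1 (h1 v hv)).symm⟩

omit [Finite G] in
theorem N_T0 (h : Cen (S : Subgroup G) N Q R W V Z) : N ≤ normalizer (h.T0 : Set G) := by
  refine le_normalizer_inf (le_normalizer_cenMod le_normalizer h.N_Q h.N_W) ?_
  refine le_normalizer_of fun n hn x hx => ?_
  rw [mem_centralizer_iff] at hx ⊢
  intro v hv
  have h1 := hx _ (conj_mem_of_le h.N_V (inv_mem hn) hv)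
  have h2 : n⁻¹ * v * n⁻¹⁻¹ = n⁻¹ * v * n := by group
  rw [h2] at h1
  calc v * (n * x * n⁻¹) = n * (n⁻¹ * v * n * x) * n⁻¹ := by group
    _ = n * x * n⁻¹ * v := by rw [h1]; group

omit [Finite G] in
theorem Q_le_T0 (h : Cen (S : Subgroup G) N Q R W V Z) : Q ≤ h.T0 := fun x hx =>
  h.mem_T0.2 ⟨h.S_le (h.Q_le hx), h.qq x hx, h.qv x hx⟩

omit [Finite G] in
/-- an element commuting modulo `T0` with `x ∈ S ∖ Q` normalises `R` -/
theorem step1 (h : Cen (S : Subgroup G) N Q R W V Z) {x y : G} (hx : x ∈ (S : Subgroup G)) (hxQ : x ∉ Q)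
    (hy : y ∈ N) (hxy : cm x y ∈ h.T0) {r : G} (hr : r ∈ R) : y * r * y⁻¹ ∈ R := by
  have hrQ : y * r * y⁻¹ ∈ Q := conj_mem_of_le h.N_Q hy (h.R_le hr)
  refine h.rs x hx hxQ _ hrQ ?_
  obtain ⟨hκN, hκ, -⟩ := h.mem_T0.1 hxy
  have h1 : cm x (y * r * y⁻¹) = (cm x y * (y * cm x r * y⁻¹) * (cm x y)⁻¹) * cm (cm x y) (y * r * y⁻¹) := by
    unfold cm; group
  rw [h1]
  exact mul_mem (conj_mem_of_le h.N_W hκN (conj_mem_of_le h.N_W hy (h.sr x hx r hr))) (hκ _ hrQ)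

omit [Finite G] in
/-- then `[y, S]` acts trivially on `R / W` -/
theorem step2 (h : Cen (S : Subgroup G) N Q R W V Z) {x y s : G} (hx : x ∈ (S : Subgroup G)) (hxQ : x ∉ Q)
    (hy : y ∈ N) (hxy : cm x y ∈ h.T0) (hs : s ∈ (S : Subgroup G)) {r : G} (hr : r ∈ R) : cm (cm y s) r ∈ W := by
  have hsC : s ∈ cenMod N R W h.N_W := ⟨h.S_le hs, h.sr s hs⟩
  have hyi : cm x y⁻¹ ∈ h.T0 := by
    have h1 : cm x y⁻¹ = y⁻¹ * (cm x y)⁻¹ * y⁻¹⁻¹ := by unfold cm; group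
    rw [h1]
    exact conj_mem_of_le h.N_T0 (inv_mem hy) (inv_mem hxy)
  have hysC : y * s * y⁻¹ ∈ cenMod N R W h.N_W := by
    refine ⟨mul_mem (mul_mem hy (h.S_le hs)) (inv_mem hy), fun r hr => ?_⟩
    have h1 := conj_mem_of_le h.N_W hy (h.sr s hs _ (h.step1 hx hxQ (inv_mem hy) hyi hr))
    rw [conj_cm] at h1
    have h2 : y * (y⁻¹ * r * y⁻¹⁻¹) * y⁻¹ = r := by group
    rwa [h2] at h1
  have h3 : cm y s = y * s * y⁻¹ * s⁻¹ := rfl
  rw [h3]
  exact (mul_mem hysC (inv_mem hsC)).2 r hr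

omit [Finite G] in
/-- an element `e` commuting with `x ∈ S ∖ Q` modulo `T0` and trivial on `R / W` is trivial on `Q / R` -/
theorem step3 (h : Cen (S : Subgroup G) N Q R W V Z) {x e : G} (hx : x ∈ (S : Subgroup G)) (hxQ : x ∉ Q)
    (he : e ∈ N) (hxe : cm x e ∈ h.T0) (heR : ∀ r ∈ R, cm e r ∈ W) {m : G} (hm : m ∈ Q) : cm e m ∈ R := by
  have hnQ : cm e m ∈ Q := by
    have h1 : cm e m = (e * m * e⁻¹) * m⁻¹ := rfl
    rw [h1]
    exact mul_mem (conj_mem_of_le h.N_Q he hm) (inv_mem hm)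
  refine h.rs x hx hxQ _ hnQ ?_
  obtain ⟨hκN, hκ, -⟩ := h.mem_T0.1 hxe
  have hr : cm x m ∈ R := h.sq x hx m hm
  have hrQ := h.R_le hr
  have hw := heR _ hr
  have hwQ := h.R_le (h.W_le hw)
  have h1 : cm x (cm e m) = cm (cm x e) (cm e (cm x m) * cm x m * cm e m * m) * cm e (cm x m) *
      cm (cm x m) (cm e m) := by
    unfold cm; group
  rw [h1]
  exact mul_mem (mul_mem (hκ _ (mul_mem (mul_mem (mul_mem hwQ hrQ) hnQ) hm)) hw) (h.qq _ hrQ _ hnQ)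

omit [Finite G] in
/-- an element trivial on `Q / R`, `R / W` with an odd power in `T0` is trivial on `Q / W` -/
theorem step4 (h : Cen (S : Subgroup G) N Q R W V Z) {e : G} (heR : ∀ r ∈ R, cm e r ∈ W)
    (heQ : ∀ m ∈ Q, cm e m ∈ R) {j : ℕ} (hj : Odd j) (hej : e ^ j ∈ h.T0) {m : G} (hm : m ∈ Q) : cm e m ∈ W := by
  set n := cm e m with hn
  have hnR : n ∈ R := heQ m hm
  have hWQ : ∀ x ∈ Q, ∀ w ∈ W, x * w * x⁻¹ ∈ W := fun x hx w hw =>
    conj_mem_of_le h.N_W (h.S_le (h.Q_le hx)) hw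
  have key : ∀ i : ℕ, cm (e ^ i) m * (n ^ i)⁻¹ ∈ W := by
    intro i
    induction i with
    | zero => unfold cm; simp [one_mem]
    | succ i ih =>
      have hniR : cm (e ^ i) m ∈ R := by
        have h1 : cm (e ^ i) m = (cm (e ^ i) m * (n ^ i)⁻¹) * n ^ i := by group
        rw [h1]; exact mul_mem (h.W_le ih) (pow_mem hnR i)
      have h1 : cm (e ^ (i + 1)) m * (n ^ (i + 1))⁻¹ =
          cm e (cm (e ^ i) m) * (cm (e ^ i) m * (n ^ i)⁻¹) := by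
        have h2 : cm (e ^ (i + 1)) m = cm e (cm (e ^ i) m) * cm (e ^ i) m * cm e m := by
          unfold cm; group
        rw [h2, ← hn]; group
      rw [h1]
      exact mul_mem (heR _ hniR) ih
  have h1 : n ^ j ∈ W := by
    have h2 := key j
    have h3 := (h.mem_T0.1 hej).2.1 m hm
    have h4 : n ^ j = (cm (e ^ j) m * (n ^ j)⁻¹)⁻¹ * cm (e ^ j) m := by group
    rw [h4]
    exact mul_mem (inv_mem h2) h3
  obtain ⟨k, hk⟩ := h.isPGroup_Q ⟨n, h.R_le hnR⟩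
  have hk' : n ^ 2 ^ k = 1 := congrArg Subtype.val hk
  exact mem_of_pow_mem hj h1 (by rw [hk']; exact one_mem _)

/-- `[Y, S] ≤ T0` for `Y = C_N(V)` (step D3) -/
theorem comm (h : Cen (S : Subgroup G) N Q R W V Z) {y s : G} (hy : y ∈ N) (hyV : ∀ v ∈ V, cm y v = 1)
    (hs : s ∈ (S : Subgroup G)) : cm y s ∈ h.T0 := by
  classical
  have hnorm : (h.T0.subgroupOf N).Normal := by
    refine ⟨fun n hn g => ?_⟩
    rw [mem_subgroupOf] at hn ⊢
    exact conj_mem_of_le h.N_T0 g.2 hn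
  let f : N →* N ⧸ (h.T0.subgroupOf N) := QuotientGroup.mk' _
  have hf : ∀ g : N, f g = 1 ↔ (g : G) ∈ h.T0 := fun g => by
    rw [← mem_subgroupOf]; exact QuotientGroup.eq_one_iff _
  have hf2 : ∀ g g' : N, f g * f g' = f g' * f g ↔ cm (g : G) g' ∈ h.T0 := by
    intro g g'
    have h1 : cm (g : G) g' = ((g * g' * g⁻¹ * g'⁻¹ : N) : G) := rfl
    rw [h1, ← hf, map_mul, map_mul, map_mul, map_inv, map_inv, mul_inv_eq_one, mul_inv_eq_iff_eq_mul]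
  let Y : Subgroup N := (centralizer (V : Set G)).subgroupOf N
  have hY : ∀ g : N, g ∈ Y ↔ ∀ v ∈ V, cm (g : G) v = 1 := by
    intro g
    rw [mem_subgroupOf, mem_centralizer_iff]
    exact ⟨fun h1 v hv => cm_eq_one.2 (h1 v hv).symm, fun h1 v hv => (cm_eq_one.1 (h1 v hv)).symm⟩
  have hYnorm : ∀ g : N, ∀ y ∈ Y, g * y * g⁻¹ ∈ Y := by
    intro g y hy
    rw [hY] at hy ⊢
    intro v hv
    have h1 := hy _ (conj_mem_of_le h.N_V (inv_mem g.2) hv)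
    have h2 := conj_cm (g : G) y ((g : G)⁻¹ * v * (g : G)⁻¹⁻¹)
    rw [h1, mul_one, mul_inv_cancel] at h2
    have h3 : (g : G) * ((g : G)⁻¹ * v * (g : G)⁻¹⁻¹) * (g : G)⁻¹ = v := by group
    rw [h3] at h2
    exact h2.symm
  let A : Subgroup (N ⧸ (h.T0.subgroupOf N)) := ((S : Subgroup G).subgroupOf N).map f
  let K : Subgroup (N ⧸ (h.T0.subgroupOf N)) := Y.map f
  have hA : ∀ a ∈ A, ∃ s : N, (s : G) ∈ (S : Subgroup G) ∧ f s = a := by
    rintro _ ⟨s, hs, rfl⟩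
    exact ⟨s, hs, rfl⟩
  have hAcomm : ∀ a ∈ A, ∀ b ∈ A, a * b = b * a := by
    intro a ha b hb
    obtain ⟨s, hs, rfl⟩ := hA a ha
    obtain ⟨t, ht, rfl⟩ := hA b hb
    rw [hf2]
    exact h.Q_le_T0 (h.ss _ hs _ ht)
  have hA2 : ∀ a ∈ A, a * a = 1 := by
    intro a ha
    obtain ⟨s, hs, rfl⟩ := hA a ha
    rw [← map_mul, hf]
    exact h.Q_le_T0 (h.s2 _ hs)
  have hST0 : ∀ s ∈ (S : Subgroup G), s ∈ h.T0 → s ∈ Q := fun s hs h1 => h.sv s hs (h.mem_T0.1 h1).2.2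
  have : IsMulCommutative A := ⟨⟨fun a b => Subtype.ext (hAcomm a a.2 b b.2)⟩⟩
  have hAnc : ¬ IsCyclic A := by
    rintro ⟨⟨c, hc⟩⟩
    obtain ⟨a, ha, b, hb, haQ, hbQ, habQ⟩ := h.nc
    have hc2 : c * c = 1 := Subtype.ext (hA2 c c.2)
    have key : ∀ d : A, d = 1 ∨ d = c := by
      intro d
      obtain ⟨n, rfl⟩ := mem_zpowers_iff.1 (hc d)
      rcases Int.even_or_odd n with ⟨k, rfl⟩ | ⟨k, rfl⟩
      · left
        rw [← two_mul, zpow_mul, zpow_two, hc2, one_zpow]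
      · right
        rw [zpow_add, zpow_mul, zpow_two, hc2, one_zpow, one_mul, zpow_one]
    let a' : A := ⟨f ⟨a, h.S_le ha⟩, ⟨_, (show (⟨a, h.S_le ha⟩ : N) ∈ (S : Subgroup G).subgroupOf N from ha), rfl⟩⟩
    let b' : A := ⟨f ⟨b, h.S_le hb⟩, ⟨_, (show (⟨b, h.S_le hb⟩ : N) ∈ (S : Subgroup G).subgroupOf N from hb), rfl⟩⟩
    have ha' : a' ≠ 1 := fun h1 => haQ (hST0 a ha ((hf ⟨a, h.S_le ha⟩).1 (congrArg Subtype.val h1)))
    have hb' : b' ≠ 1 := fun h1 => hbQ (hST0 b hb ((hf ⟨b, h.S_le hb⟩).1 (congrArg Subtype.val h1)))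
    have h1 : a' = b' := by rw [(key a').resolve_left ha', (key b').resolve_left hb']
    have h2 : f (⟨a, h.S_le ha⟩⁻¹ * ⟨b, h.S_le hb⟩) = 1 := by
      rw [map_mul, map_inv]
      have h3 : f ⟨a, h.S_le ha⟩ = f ⟨b, h.S_le hb⟩ := congrArg Subtype.val h1
      rw [h3, inv_mul_cancel]
    exact habQ (hST0 _ (mul_mem (inv_mem ha) hb) ((hf _).1 h2))
  have hAK : A ≤ normalizer (K : Set (N ⧸ (h.T0.subgroupOf N))) := by
    refine le_normalizer_of ?_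
    intro a ha
    obtain ⟨s, hs, rfl⟩ := hA a ha
    rintro _ ⟨y, hy, rfl⟩
    exact ⟨s * y * s⁻¹, hYnorm s y hy, by simp⟩
  -- odd powers
  have hpow : ∀ y : N, y ∈ Y → ∃ j : ℕ, Odd j ∧ (y : G) ^ j ∈ h.T0 := by
    intro y hy
    obtain ⟨i, j, hj, h1, -⟩ := exists_pow (y : G)
    refine ⟨j, hj, h.Q_le_T0 (h.mem_Q (pow_mem y.2 j) ?_ h1)⟩
    have h2 : y ^ j ∈ Y := pow_mem hy j
    exact (hY _).1 h2
  have hcop : (Nat.card A).Coprime (Nat.card K) := by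
    have h1 : IsPGroup 2 A := (S.isPGroup'.comap_of_injective N.subtype N.subtype_injective).map f
    obtain ⟨k, hk⟩ := IsPGroup.iff_card.1 h1
    rw [hk]
    apply Nat.Coprime.pow_left
    rw [Nat.coprime_two_left]
    by_contra hcon
    rw [Nat.not_odd_iff_even, even_iff_two_dvd] at hcon
    obtain ⟨x, hx⟩ := exists_prime_orderOf_dvd_card' (G := K) 2 hcon
    obtain ⟨y, hy, hxy⟩ := x.2
    obtain ⟨j, hj, h2⟩ := hpow y hy
    have h3 : (x : N ⧸ (h.T0.subgroupOf N)) ^ j = 1 := by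
      rw [← hxy, ← map_pow, hf]
      exact h2
    have h4 : x ^ j = 1 := Subtype.ext h3
    have h5 := orderOf_dvd_of_pow_eq_one h4
    rw [hx] at h5
    exact (Nat.not_even_iff_odd.2 hj) (even_iff_two_dvd.2 h5)
  have hgen := Cfsg.Agent.S0058.result A K hAnc hAK hcop
  have hle : K ≤ centralizer (A : Set (N ⧸ (h.T0.subgroupOf N))) := by
    rw [← hgen]
    refine iSup₂_le fun a ha => ?_
    intro k hk
    obtain ⟨haA, ha1⟩ := ha
    obtain ⟨x, hx, rfl⟩ := hA a haA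
    obtain ⟨⟨y, hy, rfl⟩, hk2⟩ := hk
    have hxQ : (x : G) ∉ Q := fun h1 => ha1 ((hf x).2 (h.Q_le_T0 h1))
    have hxy : f x * f y = f y * f x := (mem_centralizer_iff.1 hk2) _ rfl
    rw [mem_centralizer_iff]
    intro b hb
    obtain ⟨s, hs, rfl⟩ := hA b hb
    symm
    rw [hf2]
    have hxs : f x * f s = f s * f x := hAcomm _ haA _ hb
    have hxy' := (hf2 x y).1 hxy
    -- `e = [y, s]`
    let e : N := y * s * y⁻¹ * s⁻¹
    have he : (e : G) = cm (y : G) s := rfl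
    have heY : e ∈ Y := by
      have h1 : e = y * (s * y⁻¹ * s⁻¹) := by simp only [e]; group
      rw [h1]
      exact mul_mem hy (hYnorm s _ (inv_mem hy))
    have hxe : cm (x : G) e ∈ h.T0 := by
      rw [← hf2]
      have h1 : f e = f y * f s * (f y)⁻¹ * (f s)⁻¹ := by simp only [e, map_mul, map_inv]
      rw [h1]
      have c1 : Commute (f x) (f y) := hxy
      have c2 : Commute (f x) (f s) := hxs
      exact ((c1.mul_right c2).mul_right c1.inv_right).mul_right c2.inv_right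
    have heR : ∀ r ∈ R, cm (e : G) r ∈ W := fun r hr => h.step2 hx hxQ y.2 hxy' hs hr
    have heQ : ∀ m ∈ Q, cm (e : G) m ∈ R := fun m hm => h.step3 hx hxQ e.2 hxe heR hm
    obtain ⟨j, hj, hej⟩ := hpow e heY
    rw [← he, h.mem_T0]
    exact ⟨e.2, fun m hm => h.step4 heR heQ hj hej hm, (hY e).1 heY⟩
  have h1 : f ⟨y, hy⟩ ∈ centralizer (A : Set (N ⧸ (h.T0.subgroupOf N))) :=
    hle ⟨⟨y, hy⟩, (hY _).2 hyV, rfl⟩
  have h2 := (mem_centralizer_iff.1 h1) (f ⟨s, h.S_le hs⟩)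
    ⟨_, (show (⟨s, h.S_le hs⟩ : N) ∈ (S : Subgroup G).subgroupOf N from hs), rfl⟩
  exact (hf2 ⟨y, hy⟩ ⟨s, h.S_le hs⟩).1 h2.symm

/-- step D4 -/
theorem main (h : Cen (S : Subgroup G) N Q R W V Z) {m s : G} (hm : m ∈ N) (hmZ : m ∈ normalizer (Z : Set G))
    (hs : s ∈ (S : Subgroup G)) : m * s * m⁻¹ ∈ (S : Subgroup G) ⊔ centralizer (Q : Set G) := by
  -- the elements acting trivially on `Z` and `V / Z`
  have hSZ : (S : Subgroup G) ≤ normalizer (Z : Set G) := le_normalizer_of fun s hs z hz => by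
    rw [conj_eq_cm_mul, h.sz s hs z hz, one_mul]; exact hz
  let B1 : Subgroup G := cenMod (N ⊓ normalizer (Z : Set G)) V Z inf_le_right ⊓ centralizer (Z : Set G)
  have hB1 : ∀ g, g ∈ B1 ↔ (g ∈ N ∧ g ∈ normalizer (Z : Set G)) ∧ (∀ v ∈ V, cm g v ∈ Z) ∧ ∀ z ∈ Z, cm g z = 1 := by
    intro g
    rw [mem_inf, mem_cenMod, mem_inf, and_assoc]
    refine and_congr_right fun _ => and_congr_right fun _ => ?_
    rw [mem_centralizer_iff]
    exact ⟨fun h1 v hv => cm_eq_one.2 (h1 v hv).symm, fun h1 v hv => (cm_eq_one.1 (h1 v hv)).symm⟩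
  have hSB : (S : Subgroup G) ≤ B1 := fun t ht => (hB1 t).2 ⟨⟨h.S_le ht, hSZ ht⟩, h.svz t ht, h.sz t ht⟩
  have hb : m * s * m⁻¹ ∈ B1 := by
    refine (hB1 _).2 ⟨⟨mul_mem (mul_mem hm (h.S_le hs)) (inv_mem hm),
      mul_mem (mul_mem hmZ (hSZ hs)) (inv_mem hmZ)⟩, fun v hv => ?_, fun z hz => ?_⟩
    · have h1 := conj_mem_of_le (N := zpowers m) (zpowers_le.2 hmZ) (mem_zpowers m)
        (h.svz s hs _ (conj_mem_of_le h.N_V (inv_mem hm) hv))
      rw [conj_cm] at h1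
      have h2 : m * (m⁻¹ * v * m⁻¹⁻¹) * m⁻¹ = v := by group
      rwa [h2] at h1
    · have h1 : m * cm s (m⁻¹ * z * m⁻¹⁻¹) * m⁻¹ = m * 1 * m⁻¹ := by
        rw [h.sz s hs _ ((mem_normalizer_iff.1 (inv_mem hmZ) z).1 hz)]
      rw [conj_cm, mul_one, mul_inv_cancel] at h1
      have h2 : m * (m⁻¹ * z * m⁻¹⁻¹) * m⁻¹ = z := by group
      rwa [h2] at h1
  -- `B1 = S C_N(V)`
  let C1 : Subgroup G := N ⊓ centralizer (V : Set G)
  have hC1 : ∀ g, g ∈ C1 ↔ g ∈ N ∧ ∀ v ∈ V, cm g v = 1 := by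
    intro g
    rw [mem_inf, mem_centralizer_iff]
    refine and_congr_right fun _ => ?_
    exact ⟨fun h1 v hv => cm_eq_one.2 (h1 v hv).symm, fun h1 v hv => (cm_eq_one.1 (h1 v hv)).symm⟩
  have hC1norm : ∀ r ∈ B1, ∀ c ∈ C1, r * c * r⁻¹ ∈ C1 := by
    intro r hr c hc
    have hrN := ((hB1 r).1 hr).1.1
    rw [hC1] at hc ⊢
    refine ⟨mul_mem (mul_mem hrN hc.1) (inv_mem hrN), fun v hv => ?_⟩
    have h1 : r * cm c (r⁻¹ * v * r⁻¹⁻¹) * r⁻¹ = r * 1 * r⁻¹ := by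
      rw [hc.2 _ (conj_mem_of_le h.N_V (inv_mem hrN) hv)]
    rw [conj_cm, mul_one, mul_inv_cancel] at h1
    have h2 : r * (r⁻¹ * v * r⁻¹⁻¹) * r⁻¹ = v := by group
    rwa [h2] at h1
  have hpow : ∀ r ∈ B1, ∃ k : ℕ, r ^ 2 ^ k ∈ C1 := by
    intro r hr
    obtain ⟨⟨hrN, -⟩, hrV, hrZ⟩ := (hB1 r).1 hr
    refine ⟨1, ?_⟩
    rw [hC1, pow_one, pow_two]
    refine ⟨mul_mem hrN hrN, fun v hv => ?_⟩
    have h1 : cm (r * r) v = cm r (cm r v) * (cm r v * cm r v) := by unfold cm; group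
    rw [h1, hrZ _ (hrV v hv), h.vv _ (h.Z_le (hrV v hv)), mul_one]
  obtain ⟨t, ht, y, hy, e⟩ := Cfsg.Agent.TypeL3.exists_mul_of_pow_mem (p := 2) S hSB hC1norm hpow hb
  obtain ⟨hyN, hyV⟩ := (hC1 y).1 hy
  -- `y` has a 2-power power in `T0`
  have hyT : ∀ n : ℕ, ∃ κ ∈ h.T0, (t * y) ^ n = t ^ n * y ^ n * κ := by
    intro n
    induction n with
    | zero => exact ⟨1, one_mem _, by simp⟩
    | succ n ih =>
      obtain ⟨κ, hκ, e1⟩ := ih
      -- `κ t y = t y κ'`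
      have h1 : (t * y)⁻¹ * κ * (t * y) ∈ h.T0 := by
        have := conj_mem_of_le h.N_T0 (inv_mem (mul_mem (h.S_le ht) hyN)) hκ
        rwa [inv_inv] at this
      have h2 : cm (y ^ n)⁻¹ t⁻¹ ∈ h.T0 := by
        have h3 : ∀ v ∈ V, cm (y ^ n)⁻¹ v = 1 :=
          ((hC1 _).1 (inv_mem (pow_mem hy n))).2
        exact h.comm (inv_mem (pow_mem hyN n)) h3 (inv_mem ht)
      refine ⟨y⁻¹ * cm (y ^ n)⁻¹ t⁻¹ * y * ((t * y)⁻¹ * κ * (t * y)), mul_mem ?_ h1, ?_⟩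
      · have := conj_mem_of_le h.N_T0 (inv_mem hyN) h2
        rwa [inv_inv] at this
      · rw [pow_succ, e1, pow_succ, pow_succ]
        unfold cm; group
  obtain ⟨k, hk⟩ := S.isPGroup' ⟨s, hs⟩
  obtain ⟨k', hk'⟩ := S.isPGroup' ⟨t, ht⟩
  have hk1 : s ^ 2 ^ k = 1 := congrArg Subtype.val hk
  have hk2 : t ^ 2 ^ k' = 1 := congrArg Subtype.val hk'
  have hyk : y ^ 2 ^ (k + k') ∈ h.T0 := by
    obtain ⟨κ, hκ, e1⟩ := hyT (2 ^ (k + k'))
    rw [← e] at e1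
    have h1 : (m * s * m⁻¹) ^ 2 ^ (k + k') = 1 := by
      rw [conj_pow, pow_add 2, pow_mul, hk1, one_pow]; group
    have h2 : t ^ 2 ^ (k + k') = 1 := by rw [pow_add, mul_comm, pow_mul, hk2, one_pow]
    rw [h1, h2, one_mul] at e1
    rw [← inv_eq_of_mul_eq_one_left e1.symm]
    exact inv_mem hκ
  obtain ⟨i, j, hj, h1, -⟩ := exists_pow y
  have hyj : y ^ j ∈ h.T0 := h.Q_le_T0 (h.mem_Q (pow_mem hyN j) ((hC1 _).1 (pow_mem hy j)).2 h1)
  have hyT0 : y ∈ h.T0 := mem_of_pow_mem hj hyj hyk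
  obtain ⟨-, hyQ, -⟩ := h.mem_T0.1 hyT0
  have h2 := h.mem_sup hyN hyQ hyV
  rw [e]
  refine mul_mem (mem_sup_left ht) ?_
  exact (sup_le_sup_right h.Q_le _) h2

end Cen

end Cfsg.Agent.HexGlob.TwoCen
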