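import Mathlib
import Cfsg.Agent.TypeL3.Spread

/-!
# An abstract spread

`S` a Sylow 2-subgroup of `G`, `S ≤ N ≤ N_G(V)`, `Z ≤ V` centralised by `S`, `V` elementary abelian of order
`|Z|²`, and for `a ∈ V ∖ Z`, `z ∈ Z` some involution `t ∈ S` carries `a` to `z a`.  The `N`-conjugates of `Z`
intersect trivially, `V = Z × Z^n` for `n ∈ N ∖ N_G(Z)`, and `⟨S, S^n⟩` is transitive on `V ∖ {1}`.
-/

set_option autoImplicit false

namespace Cfsg.Agent.HexGlob.TwoSpr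

open Subgroup Cfsg.Agent.Lib.GoldschmidtFusion Cfsg.Agent.TypeL3

universe u

variable {G : Type u} [Group G]

/-- the hypotheses -/
structure Spr (S N V Z : Subgroup G) : Prop where
  S_le : S ≤ N
  N_le : N ≤ normalizer (V : Set G)
  Z_le : Z ≤ V
  comm : ∀ a ∈ V, ∀ b ∈ V, a * b = b * a
  cent : ∀ z ∈ Z, ∀ s ∈ S, z * s = s * z
  card : Nat.card V = Nat.card Z ^ 2
  move : ∀ a ∈ V, a ∉ Z → ∀ z ∈ Z, ∃ t ∈ S, t * t = 1 ∧ t * a * t⁻¹ = z * a
  ne : Z ≠ ⊥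

variable [Finite G] {S : Sylow 2 G} {N V Z : Subgroup G}

namespace Spr

theorem S_le_normalizer_Z (h : Spr (S : Subgroup G) N V Z) : (S : Subgroup G) ≤ normalizer (Z : Set G) := by
  intro s hs
  rw [mem_normalizer_iff_map_conj]
  apply map_conj_le_of_le_normalizer
  rintro _ ⟨z, hz, rfl⟩
  change s * z * s⁻¹ ∈ Z
  rw [← h.cent z hz s hs, mul_inv_cancel_right]
  exact hz

/-- involutions of `N(Z)` centralise `Z` -/
theorem comm_of_sq (h : Spr (S : Subgroup G) N V Z) {t : G} (ht : t * t = 1)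
    (htN : t ∈ normalizer (Z : Set G)) {z : G} (hz : z ∈ Z) : t * z = z * t := by
  have hZN := h.S_le_normalizer_Z
  have hzp : IsPGroup 2 (zpowers t) := by
    rw [IsPGroup.iff_card]
    rcases eq_or_ne t 1 with rfl | ht1
    · exact ⟨0, by simp⟩
    · exact ⟨1, by rw [Nat.card_zpowers, orderOf_eq_two_of_sq ht ht1, pow_one]⟩
  obtain ⟨n, hn, hle⟩ := exists_conj_le_in (p := 2) S.isPGroup' (sylow_not_dvd_relIndex S hZN)
    (zpowers_le.2 htN) hzp
  have h1 : n * t * n⁻¹ ∈ (S : Subgroup G) := hle ⟨t, mem_zpowers t, by simp⟩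
  have h2 := h.cent _ (conj_mem_of_mem_normalizer hn hz) _ h1
  calc t * z = n⁻¹ * (n * t * n⁻¹ * (n * z * n⁻¹)) * n := by group
    _ = z * t := by rw [← h2]; group

/-- the conjugates of `Z` in `N` intersect trivially -/
theorem ti (h : Spr (S : Subgroup G) N V Z) {n : G} (hn : n ∈ N) {z : G}
    (hz : z ∈ Z) (hz1 : z ≠ 1) (hnz : n * z * n⁻¹ ∈ Z) : n ∈ normalizer (Z : Set G) := by
  by_contra hcon
  -- choose a counterexample with maximal intersection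
  let Bad : G → Prop := fun m => m ∈ N ∧ m ∉ normalizer (Z : Set G) ∧
    Z ⊓ Z.map (MulAut.conj m).toMonoidHom ≠ ⊥
  have hbad : Bad n := by
    refine ⟨hn, hcon, fun h0 => ?_⟩
    have h1 : n * z * n⁻¹ ∈ Z ⊓ Z.map (MulAut.conj n).toMonoidHom :=
      mem_inf.2 ⟨hnz, conj_mem_map_conj hz n⟩
    rw [h0, mem_bot] at h1
    apply hz1
    have := congrArg (fun t => n⁻¹ * t * n) h1
    simpa [mul_assoc] using this
  obtain ⟨m, ⟨hmA, hmZ, hmI⟩, hmax⟩ := (Set.toFinite {m | Bad m}).exists_maximalFor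
    (fun m => Nat.card (Z ⊓ Z.map (MulAut.conj m).toMonoidHom : Subgroup G)) {m | Bad m} ⟨n, hbad⟩
  set Z' := Z.map (MulAut.conj m).toMonoidHom with hZ'
  have hcard : Nat.card Z' = Nat.card Z := card_map_conj Z m
  -- an element `b ∈ Z' ∖ Z`
  obtain ⟨b, hb, hbZ⟩ : ∃ b ∈ Z', b ∉ Z := by
    by_contra h0
    push Not at h0
    apply hmZ
    rw [mem_normalizer_iff_map_conj]
    exact Subgroup.eq_of_le_of_card_ge h0 hcard.ge
  obtain ⟨ζ, hζ, hζ1⟩ : ∃ ζ ∈ Z ⊓ Z', ζ ≠ 1 := by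
    by_contra h0
    push Not at h0
    exact hmI ((Subgroup.eq_bot_iff_forall _).2 h0)
  have hZ'A : Z' ≤ V := by
    rintro _ ⟨x, hx, rfl⟩
    exact conj_mem_of_mem_normalizer (h.N_le hmA) (h.Z_le hx)
  have hbA := hZ'A hb
  have hζZ : ζ ∈ Z := (mem_inf.1 hζ).1
  have hζZ' : ζ ∈ Z' := (mem_inf.1 hζ).2
  obtain ⟨t, ht, ht2, e⟩ := h.move b hbA hbZ ζ hζZ
  have htA : t ∈ N := h.S_le ht
  set m' := m⁻¹ * t * m with hm'
  have hm'A : m' ∈ N := mul_mem (mul_mem (inv_mem hmA) htA) hmA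
  -- the intersection for `m'` is larger
  have hbig : Nat.card (Z ⊓ Z' : Subgroup G) <
      Nat.card (Z ⊓ Z.map (MulAut.conj m').toMonoidHom : Subgroup G) := by
    have h1 : (Z ⊓ Z.map (MulAut.conj m').toMonoidHom).map (MulAut.conj m).toMonoidHom =
        Z' ⊓ Z'.map (MulAut.conj t).toMonoidHom := by
      rw [Subgroup.map_inf _ _ _ (MulAut.conj m).injective, map_conj_map_conj, hZ', map_conj_map_conj]
      congr 3
      rw [hm']; group
    rw [← card_map_conj (Z ⊓ Z.map (MulAut.conj m').toMonoidHom) m, h1]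
    apply Set.Finite.card_lt_card (Set.toFinite _)
    refine lt_of_le_of_ne ?_ ?_
    · intro x hx
      obtain ⟨hx1, hx2⟩ := mem_inf.1 hx
      refine mem_inf.2 ⟨hx2, ?_⟩
      rw [mem_map_conj]
      have : t⁻¹ * x * t = x := by
        rw [mul_assoc, h.cent x hx1 t ht, inv_mul_cancel_left]
      rw [this]; exact hx2
    · intro heq
      have h2 : ζ * b ∈ Z' ⊓ Z'.map (MulAut.conj t).toMonoidHom := by
        refine mem_inf.2 ⟨mul_mem hζZ' hb, ?_⟩
        rw [← e]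
        exact conj_mem_map_conj hb t
      rw [← (SetLike.coe_injective heq : Z ⊓ Z' = Z' ⊓ Z'.map (MulAut.conj t).toMonoidHom)] at h2
      apply hbZ
      have h3 := mul_mem (inv_mem hζZ) (mem_inf.1 h2).1
      simpa using h3
  have hm'Z : m' ∈ normalizer (Z : Set G) := by
    by_contra h1
    have h2 : Bad m' := by
      refine ⟨hm'A, h1, fun h0 => ?_⟩
      rw [h0] at hbig
      simp only [Subgroup.card_bot] at hbig
      have : 0 < Nat.card (Z ⊓ Z' : Subgroup G) := Nat.card_pos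
      omega
    have h3 := hmax h2 hbig.le
    exact absurd h3 (not_le_of_gt hbig)
  have hm'2 : m' * m' = 1 := by
    calc m' * m' = m⁻¹ * (t * t) * m := by rw [hm']; group
      _ = 1 := by rw [ht2]; group
  -- so `t` centralises `Z'`
  have hb0 : m⁻¹ * b * m ∈ Z := by rw [← mem_map_conj]; exact hb
  have h4 := h.comm_of_sq hm'2 hm'Z hb0
  have h5 : t * b = b * t := by
    calc t * b = m * (m' * (m⁻¹ * b * m)) * m⁻¹ := by rw [hm']; group
      _ = b * t := by rw [h4, hm']; group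
  apply hζ1
  rw [h5, mul_inv_cancel_right] at e
  exact (mul_eq_right.1 e.symm)

theorem inf_eq_bot (h : Spr (S : Subgroup G) N V Z) {n : G} (hn : n ∈ N) (hnZ : n ∉ normalizer (Z : Set G)) :
    Z ⊓ Z.map (MulAut.conj n).toMonoidHom = ⊥ := by
  rw [Subgroup.eq_bot_iff_forall]
  intro x hx
  by_contra hx1
  obtain ⟨hxZ, y, hy, rfl⟩ := mem_inf.1 hx
  have hy1 : y ≠ 1 := by rintro rfl; exact hx1 (map_one _)
  exact hnZ (h.ti hn hy hy1 hxZ)

/-- `V = Z × Z^n` -/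
theorem cover (h : Spr (S : Subgroup G) N V Z) {n : G} (hn : n ∈ N) (hnZ : n ∉ normalizer (Z : Set G)) :
    ∀ a ∈ V, ∃ z ∈ Z, ∃ y ∈ Z, a = z * (n * y * n⁻¹) := by
  have hinf := h.inf_eq_bot hn hnZ
  set Z' := Z.map (MulAut.conj n).toMonoidHom with hZ'
  have hZ'A : Z' ≤ V := by
    rintro _ ⟨x, hx, rfl⟩
    exact conj_mem_of_mem_normalizer (h.N_le hn) (h.Z_le hx)
  -- the product map `Z × Z' → V` is injective between sets of the same size
  let f : Z × Z' → V := fun p => ⟨(p.1 : G) * p.2, mul_mem (h.Z_le p.1.2) (hZ'A p.2.2)⟩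
  have hf : Function.Injective f := by
    rintro ⟨x, y⟩ ⟨x', y'⟩ hxy
    have h1 : (x : G) * y = x' * y' := congrArg Subtype.val hxy
    have h2 : (x' : G)⁻¹ * x = y' * (y : G)⁻¹ := by
      calc (x' : G)⁻¹ * x = (x' : G)⁻¹ * (x * y) * (y : G)⁻¹ := by group
        _ = y' * (y : G)⁻¹ := by rw [h1]; group
    have h3 : (x' : G)⁻¹ * x ∈ Z ⊓ Z' :=
      mem_inf.2 ⟨mul_mem (inv_mem x'.2) x.2, h2 ▸ mul_mem y'.2 (inv_mem y.2)⟩
    rw [hinf, mem_bot] at h3
    have h4 : x' = x := Subtype.ext (inv_mul_eq_one.1 h3)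
    have h5 : y' = y := by
      rw [h3] at h2
      exact Subtype.ext (mul_inv_eq_one.1 h2.symm)
    rw [h4, h5]
  have hcard : Nat.card (Z × Z') = Nat.card V := by
    rw [Nat.card_prod, h.card, hZ', card_map_conj, pow_two]
  have hbij : Function.Bijective f := (Nat.bijective_iff_injective_and_card f).2 ⟨hf, hcard⟩
  intro a ha
  obtain ⟨⟨x, y⟩, hxy⟩ := hbij.2 ⟨a, ha⟩
  obtain ⟨y0, hy0, e⟩ := y.2
  refine ⟨x, x.2, y0, hy0, ?_⟩
  have h1 : (x : G) * y = a := congrArg Subtype.val hxy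
  rw [← h1, ← e]; rfl

/-- `⟨S, S^n⟩` is transitive on the nontrivial elements of `V` -/
theorem trans (h : Spr (S : Subgroup G) N V Z) {n : G} (hn : n ∈ N) (hnZ : n ∉ normalizer (Z : Set G))
    {a a' : G} (ha : a ∈ V) (ha1 : a ≠ 1) (ha' : a' ∈ V) (ha'1 : a' ≠ 1) :
    ∃ l ∈ (S : Subgroup G) ⊔ (S : Subgroup G).map (MulAut.conj n).toMonoidHom, l * a * l⁻¹ = a' := by
  have hinf := h.inf_eq_bot hn hnZ
  set L := (S : Subgroup G) ⊔ (S : Subgroup G).map (MulAut.conj n).toMonoidHom with hL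
  have hSL : (S : Subgroup G) ≤ L := le_sup_left
  have hSL' : ∀ s ∈ (S : Subgroup G), n * s * n⁻¹ ∈ L := fun s hs =>
    (le_sup_right : (S : Subgroup G).map (MulAut.conj n).toMonoidHom ≤ L) (conj_mem_map_conj hs n)
  -- nontrivial elements of `Z` and of `Z'` are conjugate
  have key : ∀ z ∈ Z, z ≠ 1 → ∀ b ∈ Z.map (MulAut.conj n).toMonoidHom, b ≠ 1 →
      ∃ l ∈ L, l * z * l⁻¹ = b := by
    intro z hz hz1 b hb hb1
    have hzA : z ∈ V := h.Z_le hz
    have hb' : n⁻¹ * b * n ∈ Z := by rw [← mem_map_conj]; exact hb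
    have hbA : b ∈ V := by
      have := conj_mem_of_mem_normalizer (h.N_le hn) (h.Z_le hb')
      simpa [mul_assoc] using this
    have hbB : b ∉ Z := by
      intro h1
      have : b ∈ Z ⊓ Z.map (MulAut.conj n).toMonoidHom := mem_inf.2 ⟨h1, hb⟩
      rw [hinf, mem_bot] at this
      exact hb1 this
    obtain ⟨t, ht, -, e⟩ := h.move b hbA hbB z hz
    -- the same in the conjugate structure
    have hz' : n⁻¹ * z * n ∈ V := by
      have := conj_mem_of_mem_normalizer (inv_mem (h.N_le hn)) hzA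
      simpa using this
    have hz'B : n⁻¹ * z * n ∉ Z := by
      intro h1
      have : z ∈ Z ⊓ Z.map (MulAut.conj n).toMonoidHom := mem_inf.2 ⟨hz, mem_map_conj.2 h1⟩
      rw [hinf, mem_bot] at this
      exact hz1 this
    obtain ⟨t', ht', -, e'⟩ := h.move _ hz' hz'B _ hb'
    refine ⟨t⁻¹ * (n * t' * n⁻¹), mul_mem (inv_mem (hSL ht)) (hSL' _ ht'), ?_⟩
    have e1 : (n * t' * n⁻¹) * z * (n * t' * n⁻¹)⁻¹ = b * z := by
      calc (n * t' * n⁻¹) * z * (n * t' * n⁻¹)⁻¹ = n * (t' * (n⁻¹ * z * n) * t'⁻¹) * n⁻¹ := by group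
        _ = b * z := by rw [e']; group
    have e2 : t⁻¹ * (z * b) * t = b := by rw [← e]; group
    calc t⁻¹ * (n * t' * n⁻¹) * z * (t⁻¹ * (n * t' * n⁻¹))⁻¹
        = t⁻¹ * ((n * t' * n⁻¹) * z * (n * t' * n⁻¹)⁻¹) * t := by group
      _ = t⁻¹ * (z * b) * t := by rw [e1, h.comm b hbA z hzA]
      _ = b := e2
  -- an element of `Z`
  obtain ⟨z0, hz0, hz01⟩ : ∃ z ∈ Z, z ≠ 1 := by
    by_contra h0
    push Not at h0
    exact h.ne ((Subgroup.eq_bot_iff_forall _).2 h0)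
  have hb0 : n * z0 * n⁻¹ ∈ Z.map (MulAut.conj n).toMonoidHom := conj_mem_map_conj hz0 n
  have hb01 : n * z0 * n⁻¹ ≠ 1 := fun h1 => hz01 (by
    have := congrArg (fun t => n⁻¹ * t * n) h1
    simpa [mul_assoc] using this)
  have toB : ∀ a ∈ V, a ≠ 1 → ∃ l ∈ L, l * a * l⁻¹ = n * z0 * n⁻¹ := by
    intro a ha ha1
    by_cases haZ : a ∈ Z
    · exact key a haZ ha1 _ hb0 hb01
    obtain ⟨z, hz, y, hy, rfl⟩ := h.cover hn hnZ a ha
    have hyV : n * y * n⁻¹ ∈ V := conj_mem_of_mem_normalizer (h.N_le hn) (h.Z_le hy)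
    have hyZ : n * y * n⁻¹ ∉ Z := fun h1 => haZ (mul_mem hz h1)
    have hy1 : n * y * n⁻¹ ≠ 1 := fun h1 => hyZ (h1 ▸ one_mem _)
    obtain ⟨t, ht, -, e⟩ := h.move _ hyV hyZ z hz
    obtain ⟨l1, hl1, e1⟩ := key z0 hz0 hz01 _ (conj_mem_map_conj hy n) hy1
    obtain ⟨l2, hl2, e2⟩ := key z0 hz0 hz01 _ hb0 hb01
    refine ⟨l2 * l1⁻¹ * t⁻¹, mul_mem (mul_mem hl2 (inv_mem hl1)) (inv_mem (hSL ht)), ?_⟩
    rw [← e, ← e2]
    have e1' : n * y * n⁻¹ = l1 * z0 * l1⁻¹ := e1.symm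
    rw [e1']
    group
  obtain ⟨l, hl, e⟩ := toB a ha ha1
  obtain ⟨l', hl', e'⟩ := toB a' ha' ha'1
  refine ⟨l'⁻¹ * l, mul_mem (inv_mem hl') hl, ?_⟩
  calc l'⁻¹ * l * a * (l'⁻¹ * l)⁻¹ = l'⁻¹ * (l * a * l⁻¹) * l' := by group
    _ = l'⁻¹ * (l' * a' * l'⁻¹) * l' := by rw [e, e']
    _ = a' := by group

end Spr

end Cfsg.Agent.HexGlob.TwoSpr
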