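import Cfsg.Agent.HexGlob.TwoDefs
import Cfsg.Agent.HexGlob.TwoSpr
import Cfsg.Agent.HexGlob.TwoCen
import Cfsg.Agent.HexEss.Count

/-!
# `N_G(Db)`: steps D1–D4

`pre`: if `N_G(Db)` does not normalise `Z`, then `Pre S co`.
-/

set_option autoImplicit false

namespace Cfsg.Agent.HexGlob.TwoBase

open Cfsg.Agent.HexRec Cfsg.Agent.HexEss Cfsg.Agent.HexGlob Subgroup Cfsg.Agent.HexGlob.TwoDefs
  Cfsg.Agent.HexGlob.TwoSpr Cfsg.Agent.HexGlob.TwoCen

universe u v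

variable {F K : Type v} [Field F] [Field K] [Algebra F K] {C : Cubic F K}
variable {G : Type u} [Group G] [Finite G]

section local_

variable {P : Subgroup G} {co : Coord C P}

/-- `Z(Db) = E2` -/
theorem mem_E2_of_Db {g : G} (hg : g ∈ Db co) (h : ∀ x ∈ Db co, cm g x = 1) : g ∈ E2 co := by
  have h1 := mem_F0_of_cm_eq_one hg.1 (fun x hx => h x (F0_le_Db hx))
  refine ⟨hg.1, h1.2.1, ?_, h1.2.2.1, h1.2.2.2⟩
  apply C.T_nondeg
  intro k
  obtain ⟨x, hx, hxc⟩ := exists_cx (co := co) ⟨k, 0, 0, 0, 0, 0⟩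
  have hx' : x ∈ Db co := ⟨hx, by rw [hxc]⟩
  have h2 : cm x g = 1 := by rw [cm_swap, h x hx', inv_one]
  have h3 := congrArg (fun y => (cx co y).a2) h2
  simp only [cx_one] at h3
  rw [a2_cm_F0 hx h1.1 h1.2.1 h1.2.2.1 h1.2.2.2, hxc] at h3
  rw [C.T_comm]
  exact h3

theorem Db_normalizer_le_E2 : normalizer ((Db co : Subgroup G) : Set G) ≤ normalizer ((E2 co : Subgroup G) : Set G) := by
  refine le_normalizer_of fun n hn x hx => ?_
  refine mem_E2_of_Db (conj_mem_of_le le_rfl hn (E2_le_Db hx)) fun y hy => ?_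
  have h1 := cm_Db_E2 (conj_mem_of_le (N := normalizer ((Db co : Subgroup G) : Set G)) le_rfl (inv_mem hn) hy) hx
  have h2 : n * cm (n⁻¹ * y * n⁻¹⁻¹) x * n⁻¹ = 1 := by rw [h1]; group
  rw [conj_cm] at h2
  have h3 : n * (n⁻¹ * y * n⁻¹⁻¹) * n⁻¹ = y := by group
  rw [h3] at h2
  rw [cm_swap, h2, inv_one]

theorem P_le_normalizer_Db : P ≤ normalizer ((Db co : Subgroup G) : Set G) := fun g hg =>
  mem_normalizer_of_cm fun d hd => RR_le_Db (cm_mem_RR hg hd.1)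

/-- `x6(c)` -/
theorem exists_x6 (co : Coord C P) (c : F) : ∃ t ∈ P, cx co t = ⟨0, 0, 0, 0, 0, c⟩ ∧ t * t = 1 := by
  obtain ⟨t, ht, e⟩ := exists_cx (co := co) ⟨0, 0, 0, 0, 0, c⟩
  refine ⟨t, ht, e, ?_⟩
  have h1 : (cx co t).a1 = 0 := by rw [e]
  refine eq_one_of_cx (co := co) (mul_mem ht ht) (a1_sq ht) (a2_sq_Da ht h1) (a3_sq_Da ht h1) ?_ ?_ (a6_sq ht)
  · rw [a4_sq_Da ht h1, e, mul_zero, C.T_zero_left, zero_add]
  · rw [a5_sq ht, e, smul_zero]

end local_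

variable {S : Sylow 2 G} {co : Coord C (S : Subgroup G)}

theorem spr (co : Coord C (S : Subgroup G)) :
    Spr (S : Subgroup G) (normalizer ((Db co : Subgroup G) : Set G)) (E2 co) (Z co) where
  S_le := P_le_normalizer_Db
  N_le := Db_normalizer_le_E2
  Z_le := Z_le_E2
  comm a ha b hb := cm_eq_one.1 (cm_F0_F0 (E2_le_F0 ha) (E2_le_F0 hb))
  cent z hz s hs := (cm_eq_one.1 (cm_Z hs hz)).symm
  card := by rw [card_E2, card_Z]
  move := by
    intro a ha haZ z hz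
    have ha2 : (cx co a).a2 ≠ 0 := fun h => haZ ⟨ha.1, ha.2.1, h, ha.2.2.1, ha.2.2.2.1, ha.2.2.2.2⟩
    obtain ⟨t, ht, e, ht2⟩ := exists_x6 co ((cx co z).a4 / (cx co a).a2)
    refine ⟨t, ht, ht2, ?_⟩
    rw [conj_eq_cm_mul]
    congr 1
    have h1 := cm_mem_Z (co := co) ht ha
    apply cx_inj (co := co) h1.1 hz.1
    refine Tup.ext (h1.2.1.trans hz.2.1.symm) (h1.2.2.1.trans hz.2.2.1.symm) (h1.2.2.2.1.trans hz.2.2.2.1.symm) ?_
      (h1.2.2.2.2.1.trans hz.2.2.2.2.1.symm) (h1.2.2.2.2.2.trans hz.2.2.2.2.2.symm)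
    rw [a4_cm_F0 ht ha.1 ha.2.1 ha.2.2.2.1 ha.2.2.2.2, e, ha.2.2.1, C.T_zero_right, add_zero,
      div_mul_cancel₀ _ ha2]
  ne := by
    intro h
    obtain ⟨x, hx, e⟩ := exists_cx (co := co) ⟨0, 0, 0, 1, 0, 0⟩
    have h1 : x ∈ Z co := ⟨hx, by rw [e], by rw [e], by rw [e], by rw [e], by rw [e]⟩
    rw [h, mem_bot] at h1
    rw [h1, cx_one] at e
    exact one_ne_zero (congrArg Tup.a4 e).symm

/-- the group `W = [Db, Db] E2` -/
noncomputable def WW (co : Coord C (S : Subgroup G)) : Subgroup G :=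
  closure {w | ∃ x ∈ Db co, ∃ y ∈ Db co, w = cm x y} ⊔ E2 co

theorem WW_le_F0 : WW co ≤ F0 co := by
  refine sup_le ?_ E2_le_F0
  rw [closure_le]
  rintro _ ⟨x, hx, y, hy, rfl⟩
  exact cm_mem_F0_of_Db hx hy

theorem WW_normal : normalizer ((Db co : Subgroup G) : Set G) ≤ normalizer ((WW co : Subgroup G) : Set G) := by
  refine le_normalizer_sup (le_normalizer_closure ?_) Db_normalizer_le_E2
  rintro n hn _ ⟨x, hx, y, hy, rfl⟩
  exact ⟨_, conj_mem_of_le le_rfl hn hx, _, conj_mem_of_le le_rfl hn hy, conj_cm n x y⟩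

theorem cen (co : Coord C (S : Subgroup G)) (hq : 4 ≤ Nat.card F) :
    Cen (S : Subgroup G) (normalizer ((Db co : Subgroup G) : Set G)) (Db co) (RR co) (WW co) (E2 co) (Z co) where
  S_le := P_le_normalizer_Db
  N_Q := le_rfl
  N_W := WW_normal
  N_V := Db_normalizer_le_E2
  Q_le := Db_le
  R_le := RR_le_Db
  W_le := WW_le_F0.trans F0_le_RR
  V_le := le_sup_right
  Z_le := Z_le_E2
  qq x hx y hy := mem_sup_left (subset_closure ⟨x, hx, y, hy, rfl⟩)
  qw x hx y hy := cm_mem_E2 hx.1 (WW_le_F0 hy)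
  qv x hx y hy := cm_Db_E2 hx hy
  wgen := le_rfl
  sv s hs h := ⟨hs, a6_eq_zero_of_comm hs h⟩
  sr := by
    intro s hs r hr
    -- `s = t d` with `t = x6(c)`, `d ∈ Db`
    obtain ⟨t, ht, e, -⟩ := exists_x6 co (cx co s).a6
    have hd : t⁻¹ * s ∈ Db co := by
      refine ⟨mul_mem (inv_mem ht) hs, ?_⟩
      have h1 := a6_mul (co := co) ht (mul_mem (inv_mem ht) hs)
      rw [mul_inv_cancel_left, e] at h1
      exact (add_eq_left.1 h1.symm)
    have h1 : cm s r = t * cm (t⁻¹ * s) r * t⁻¹ * cm t r := by unfold cm; group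
    rw [h1]
    refine mul_mem (conj_mem_of_le WW_normal (P_le_normalizer_Db ht)
      (mem_sup_left (subset_closure ⟨_, hd, r, RR_le_Db hr, rfl⟩))) (mem_sup_right ?_)
    refine ⟨cm_mem ht hr.1, a1_cm ht hr.1, ?_, a5_cm_R ht hr.1 hr.2.1 hr.2.2, a6_cm ht hr.1⟩
    rw [a3_cm_R ht hr.1 hr.2.1 hr.2.2, e, C.cr_zero_left]
  sq s hs x hx := cm_mem_RR hs hx.1
  rs := by
    intro s hs hsQ m hm h
    have h6 : (cx co s).a6 ≠ 0 := fun h => hsQ ⟨hs, h⟩
    have h1 := (WW_le_F0 h).2.2.1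
    rw [a5_cm hs hm.1, hm.2, zero_smul, add_zero] at h1
    exact ⟨hm.1, (smul_eq_zero.1 h1).resolve_left h6, hm.2⟩
  ss s hs t ht := RR_le_Db (cm_mem_RR hs ht)
  s2 s hs := ⟨mul_mem hs hs, a6_sq hs⟩
  nc := by
    obtain ⟨c, hc0, hc1⟩ : ∃ c : F, c ≠ 0 ∧ c ≠ 1 := by
      by_contra hcon
      push Not at hcon
      have hF : Finite F := Abel.finite_F co
      have h1 : Nat.card F ≤ Nat.card (Fin 2) := by
        classical
        refine Nat.card_le_card_of_injective (fun c : F => if c = 0 then (0 : Fin 2) else 1) ?_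
        intro a b hab
        by_cases ha : a = 0
        · by_cases hb : b = 0
          · rw [ha, hb]
          · simp [ha, hb] at hab
        · by_cases hb : b = 0
          · simp [ha, hb] at hab
          · rw [hcon a ha, hcon b hb]
      rw [Nat.card_fin] at h1
      omega
    obtain ⟨a, ha, ea, -⟩ := exists_x6 co (1 : F)
    obtain ⟨b, hb, eb, -⟩ := exists_x6 co c
    refine ⟨a, ha, b, hb, fun h => ?_, fun h => ?_, fun h => ?_⟩
    · have := h.2; rw [ea] at this; exact one_ne_zero this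
    · have := h.2; rw [eb] at this; exact hc0 this
    · have h1 := a6_mul (co := co) ha (mul_mem (inv_mem ha) hb)
      rw [mul_inv_cancel_left, h.2, ea, eb, add_zero] at h1
      exact hc1 h1
  vv v hv := sq_F0 (E2_le_F0 hv)
  sz s hs z hz := cm_Z hs hz
  svz s hs v hv := cm_mem_Z hs hv

/-- **steps D1–D4** -/
theorem pre (co : Coord C (S : Subgroup G)) (hq : 4 ≤ Nat.card F)
    (hN : ¬ normalizer ((Db co : Subgroup G) : Set G) ≤ normalizer ((Z co : Subgroup G) : Set G)) :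
    Pre S co := by
  have h := spr (S := S) co
  have hc := cen (S := S) co hq
  obtain ⟨n0, hn0, hn0Z⟩ := SetLike.not_le_iff_exists.1 hN
  have hle : ∀ n ∈ normalizer ((Db co : Subgroup G) : Set G),
      (S : Subgroup G) ⊔ (S : Subgroup G).map (MulAut.conj n).toMonoidHom ≤ L2 S co := by
    intro n hn
    refine sup_le (le_conjClosure _ _) ?_
    rintro _ ⟨s, hs, rfl⟩
    exact conj_mem_conjClosure hn hs
  refine ⟨fun n hn z hz hz1 hnz => h.ti hn hz hz1 hnz, ⟨n0, hn0, hn0Z⟩, fun n hn hnZ => h.cover hn hnZ,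
    fun a ha ha1 b hb hb1 => ?_, fun n hn hnZ => ?_⟩
  · obtain ⟨l, hl, e⟩ := h.trans hn0 hn0Z ha ha1 hb hb1
    exact ⟨l, hle n0 hn0 hl, e⟩
  · -- an element of `Z`
    obtain ⟨z0, hz0, hz01⟩ : ∃ z ∈ Z co, z ≠ 1 := by
      by_contra h0
      push Not at h0
      exact h.ne ((Subgroup.eq_bot_iff_forall _).2 h0)
    set L := (S : Subgroup G) ⊔ (S : Subgroup G).map (MulAut.conj n).toMonoidHom with hL
    have hLN : L ≤ normalizer ((Db co : Subgroup G) : Set G) :=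
      (hle n hn).trans (conjClosure_le_self P_le_normalizer_Db)
    rw [L2, conjClosure, closure_le]
    rintro _ ⟨m, hm, s, hs, rfl⟩
    -- `m = l m'` with `l ∈ L`, `m' ∈ N(Z)`
    have hmz : m * z0 * m⁻¹ ∈ E2 co := conj_mem_of_le Db_normalizer_le_E2 hm (Z_le_E2 hz0)
    have hmz1 : m * z0 * m⁻¹ ≠ 1 := fun h1 => hz01 (by
      have := congrArg (fun t => m⁻¹ * t * m) h1
      simpa [mul_assoc] using this)
    obtain ⟨l, hl, e⟩ := h.trans hn hnZ (Z_le_E2 hz0) hz01 hmz hmz1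
    have hlm : l⁻¹ * m ∈ normalizer ((Db co : Subgroup G) : Set G) := mul_mem (inv_mem (hLN hl)) hm
    have hlmZ : l⁻¹ * m ∈ normalizer ((Z co : Subgroup G) : Set G) := by
      refine h.ti hlm hz0 hz01 ?_
      have h1 : l⁻¹ * m * z0 * (l⁻¹ * m)⁻¹ = l⁻¹ * (m * z0 * m⁻¹) * l := by group
      rw [h1, ← e]
      have h2 : l⁻¹ * (l * z0 * l⁻¹) * l = z0 := by group
      rw [h2]; exact hz0
    have h1 := hc.main hlm hlmZ hs
    have h2 : m * s * m⁻¹ = l * ((l⁻¹ * m) * s * (l⁻¹ * m)⁻¹) * l⁻¹ := by group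
    have h3 : (l⁻¹ * m) * s * (l⁻¹ * m)⁻¹ ∈ L ⊔ centralizer ((Db co : Subgroup G) : Set G) :=
      (sup_le_sup_right (le_sup_left : (S : Subgroup G) ≤ L) _) h1
    rw [SetLike.mem_coe, h2]
    exact mul_mem (mul_mem (mem_sup_left hl) h3) (inv_mem (mem_sup_left hl))

end Cfsg.Agent.HexGlob.TwoBase
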